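import Cfsg.Agent.Mrg.Omega.BTwo.Split_m3
import Cfsg.Agent.Mrg.ParSys.Par
import Cfsg.Agent.Mrg.RankTwoClose.Braid_m3
import Cfsg.Agent.Solvable.Glauberman
import Cfsg.Agent.Mrg.Omega.BTwo.QuadGrp
import Cfsg.Agent.Mrg.Omega.FOne.Lift.SdIso_m3
import Cfsg.Agent.Mrg.Omega.BTwo.Conj
import Cfsg.Agent.Lib.ProductSet
import Cfsg.Agent.Mrg.Omega.HTwo.EightMain_m3
import Cfsg.Agent.Mrg.Omega.NOThreeL.Plug_m3
import Cfsg.Agent.Mrg.Omega.Lie.End.KSideMain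
import Mathlib.FieldTheory.Finite.GaloisField
import Cfsg.Agent.Mrg.Omega.NO3S.MidB.No.Beta
import Cfsg.Agent.Mrg.Omega.NSix.Free.Core_m3
import Cfsg.Agent.Involutions.BaerSuzuki
import Cfsg.Agent.Mrg.Omega.NO3S.Fit.PlaneAct_m3
import Cfsg.Agent.Mrg.Omega.NO1.NatFiveC_m3
import Cfsg.Agent.Mrg.Omega.NO3S.OneQ.Tor_m3
import Cfsg.Agent.Lib.Cores
import Cfsg.Agent.Mrg.Omega.Lie.LemmaTComp
import Mathlib
import Cfsg.Agent.Mrg.Omega.TwoFFour.SzNatC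
import Cfsg.Agent.Mrg.Omega.NOThreeL.RRed.BFr.HM
import Cfsg.Agent.Mrg.Omega.OM.PG.NoRad_m3
import Cfsg.Agent.FastGrp
import Cfsg.Agent.Prune
set_option linter.all false

section
prune_inst 0x7ff0fefbabf889dfdfff7e7faed5dffc38909fffe6fffd4bffe061ff6bdf230209c56bad8df010fe0ef6629410b87803f9ffca3feb6bdc7ffffd5ff45ffbee0fa5e7bd0951d688340fbc0fff63f07f8e7f3fffffffffffffffffffffffffffbeffffffffffff

-- part: Mrg/Omega/HOne/EndRes0
section
prune_inst 0xd01001400362000000000512a0003c56d600019000280001e8e0094204c0cf6089002120bc80151018000204203d0040005c00400020000000000000011c05810028000291480100200000000004000000000000000000000000000000000000000000000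
set_option linter.all false
open scoped Cfsg.Agent.FastGrp

-- merged: Cfsg.Agent.Mrg.Omega.HOne.EndNode
section

/-!
# II.0h1, END: the node of `V = N`

`Nod V R U B i₁ i₂`: `U ≤ B` fix the point `R i₁`, `XX V R ⊔ B` is the minimal parabolic subgroup of the node of `V`.
The fields `three`, `ptr`, `reg`, `fpf` of `Front.sys` for this node, and `SepG` against another node.
-/

set_option autoImplicit false

namespace Cfsg.Agent.Omega.HOne.End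

open Subgroup Cfsg.Agent.Omega.BTwo
open Cfsg.Agent.ParSys (Qk FpfG SepG mem_Qk Qk_le)

variable {G : Type*} [Group G] {ι : Type*}

/-- The node of `V`: `U ≤ B` fix the point `R i₁`. -/
structure Nod (V : Subgroup G) (R : ι → Subgroup G) (U B : Subgroup G) (i₁ : ι) : Prop where
  U_le : U ≤ B
  W_le : WW V (R i₁) ≤ U
  B_V : B ≤ normalizer (V : Set G)
  B_R : B ≤ normalizer (R i₁ : Set G)
  /-- `U` centralises `R i₁` -/
  UR : ∀ u ∈ U, ∀ a ∈ R i₁, u * a * u⁻¹ = a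
  /-- `[V, U] ≤ R i₁` -/
  UV : ∀ u ∈ U, ∀ v ∈ V, u * v * u⁻¹ * v⁻¹ ∈ R i₁
  /-- the stabiliser of `R i₁` in `X` -/
  X_B : XX V R ⊓ normalizer (R i₁ : Set G) ≤ B

namespace Nod

variable {V : Subgroup G} {R : ι → Subgroup G} {U B : Subgroup G} {i₁ : ι}

/-- an element of `N(V)` which fixes all points -/
def Fx (R : ι → Subgroup G) : Subgroup G := ⨅ k, normalizer (R k : Set G)

theorem mem_Fx {x : G} : x ∈ Fx R ↔ ∀ k, cj x (R k) = R k := by
  rw [Fx, Subgroup.mem_iInf]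
  exact forall_congr' fun k => cj_eq_self_iff.symm

variable (b : BT V R) (D : Nod V R U B i₁)
include b D

theorem B_X : B ≤ normalizer (XX V R : Set G) := D.B_V.trans b.NV_le_NX

theorem mem_P {g : G} (hg : g ∈ XX V R ⊔ B) : ∃ x ∈ XX V R, ∃ c ∈ B, g = x * c := by
  rw [sup_comm] at hg
  obtain ⟨x, hx, c, hc, rfl⟩ := Solvable.Glauberman.exists_mul_of_mem_sup B (XX V R) (D.B_X b) hg
  exact ⟨x, hx, c, hc, rfl⟩

/-- `P ∩ N(R i₁) = B` -/
theorem mem_B_iff {g : G} (hg : g ∈ XX V R ⊔ B) : g ∈ B ↔ cj g (R i₁) = R i₁ := by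
  constructor
  · exact fun h => cj_eq_self_iff.2 (D.B_R h)
  · intro h
    obtain ⟨x, hx, c, hc, rfl⟩ := D.mem_P b hg
    rw [cj_mul, cj_eq_self_iff.2 (D.B_R hc), cj_eq_self_iff] at h
    exact mul_mem (D.X_B ⟨hx, h⟩) hc

theorem P_V : XX V R ⊔ B ≤ normalizer (V : Set G) := sup_le b.X_le_NV D.B_V

/-- two elements of `P` with the same image of `R i₁` are in the same coset -/
theorem coset {g h : G} (hg : g ∈ XX V R ⊔ B) (hh : h ∈ XX V R ⊔ B) :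
    g⁻¹ * h ∈ B ↔ cj g (R i₁) = cj h (R i₁) := by
  rw [D.mem_B_iff b (mul_mem (inv_mem hg) hh), cj_mul]
  constructor
  · intro h1
    have := congrArg (cj g) h1
    rwa [cj_cj_inv, eq_comm] at this
  · intro h1
    rw [← h1, cj_inv_cj]

theorem exists_k {g : G} (hg : g ∈ XX V R ⊔ B) : ∃ k, cj g (R i₁) = R k := b.perm g (D.P_V b hg) i₁

/-- the kernel of the panel -/
theorem mem_Qk_iff {x : G} : x ∈ Qk B (XX V R ⊔ B) ↔ x ∈ B ∧ ∀ k, cj x (R k) = R k := by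
  constructor
  · intro hx
    refine ⟨Qk_le _ _ hx, fun k => ?_⟩
    obtain ⟨g, hg, e⟩ := b.trans_X_one i₁ k
    have hg' : g ∈ XX V R ⊔ B := mem_sup_left hg
    have h1 := cj_eq_self_iff.2 (D.B_R (hx g hg'))
    rw [cj_mul, cj_mul, e] at h1
    have := congrArg (cj g) h1
    rwa [cj_cj_inv, e] at this
  · rintro ⟨hxB, hx⟩ g hg
    have hxP : x ∈ XX V R ⊔ B := mem_sup_right hxB
    rw [D.mem_B_iff b (mul_mem (mul_mem (inv_mem hg) hxP) hg), cj_mul, cj_mul]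
    obtain ⟨k, hk⟩ := D.exists_k b hg
    rw [hk, hx k, ← hk, cj_inv_cj]

/-- an element of `U` which fixes a second point centralises `V` -/
theorem cen_of_fix {u : G} (hu : u ∈ U) {k : ι} (hk : k ≠ i₁) (h : cj u (R k) = R k) :
    u ∈ centralizer (V : Set G) := by
  have h1 : R k ≤ centralizer {u} := by
    intro v hv
    rw [mem_centralizer_singleton_iff]
    have h2 : u * v * u⁻¹ ∈ R k := by rw [← h]; exact conj_mem_cj hv
    have h3 := D.UV u hu v (b.R_le k hv)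
    have h4 := b.eq_one hk (mul_mem h2 (inv_mem hv)) h3
    rw [mul_inv_eq_one, mul_inv_eq_iff_eq_mul] at h4
    exact h4.symm
  have h2 : R i₁ ≤ centralizer {u} := by
    intro v hv
    rw [mem_centralizer_singleton_iff]
    have := D.UR u hu v hv
    rw [mul_inv_eq_iff_eq_mul] at this
    exact this.symm
  have h3 : V ≤ centralizer {u} := by
    rw [← b.R_sup k i₁ hk]
    exact sup_le h1 h2
  rw [mem_centralizer_iff]
  exact fun v hv => mem_centralizer_singleton_iff.1 (h3 hv)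

theorem cen_Qk {u : G} (hu : u ∈ B) (h : u ∈ centralizer (V : Set G)) : u ∈ Qk B (XX V R ⊔ B) :=
  (D.mem_Qk_iff b).2 ⟨hu, fun k => cj_eq_self_iff.2 (b.cen_le_N k h)⟩

/-- `U ∩ Qk = C_U(V)` -/
theorem mem_Qk_iff_cen {u : G} (hu : u ∈ U) : u ∈ Qk B (XX V R ⊔ B) ↔ u ∈ centralizer (V : Set G) := by
  refine ⟨fun h => ?_, D.cen_Qk b (D.U_le hu)⟩
  obtain ⟨k, hk, -⟩ := b.third i₁ i₁
  exact D.cen_of_fix b hu hk (((D.mem_Qk_iff b).1 h).2 k)

theorem three : ∃ x ∈ XX V R ⊔ B, ∃ y ∈ XX V R ⊔ B, x ∉ B ∧ y ∉ B ∧ x⁻¹ * y ∉ B := by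
  obtain ⟨k, hk, -⟩ := b.third i₁ i₁
  obtain ⟨l, hl, hlk⟩ := b.third i₁ k
  obtain ⟨x, hx, ex⟩ := b.trans_X_one i₁ k
  obtain ⟨y, hy, ey⟩ := b.trans_X_one i₁ l
  have hx' : x ∈ XX V R ⊔ B := mem_sup_left hx
  have hy' : y ∈ XX V R ⊔ B := mem_sup_left hy
  refine ⟨x, hx', y, hy', ?_, ?_, ?_⟩
  · rw [D.mem_B_iff b hx', ex]
    exact fun h => hk (b.R_index h)
  · rw [D.mem_B_iff b hy', ey]
    exact fun h => hl (b.R_index h)
  · rw [D.coset b hx' hy', ex, ey]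
    exact fun h => hlk (b.R_index h).symm

theorem ptr : ParSys.Hall.HallData.PTr B U (XX V R ⊔ B) := by
  intro g hg hgB g' hg' hgB'
  obtain ⟨k, hk⟩ := D.exists_k b hg
  obtain ⟨l, hl⟩ := D.exists_k b hg'
  have hk1 : k ≠ i₁ := by
    rintro rfl
    exact hgB ((D.mem_B_iff b hg).2 hk)
  have hl1 : l ≠ i₁ := by
    rintro rfl
    exact hgB' ((D.mem_B_iff b hg').2 hl)
  obtain ⟨w, hw, e⟩ := b.trans i₁ hk1 hl1
  refine ⟨w, D.W_le hw, (w * g)⁻¹ * g', ?_, by group⟩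
  have hwP : w ∈ XX V R ⊔ B := mem_sup_left (W_le_X V R i₁ hw)
  rw [D.coset b (mul_mem hwP hg) hg', cj_mul, hk, hl, e]

theorem reg : ∀ u ∈ U, ∀ g ∈ XX V R ⊔ B, g ∉ B → g⁻¹ * u * g ∈ B → u ∈ Qk B (XX V R ⊔ B) := by
  intro u hu g hg hgB h
  obtain ⟨k, hk⟩ := D.exists_k b hg
  have hk1 : k ≠ i₁ := by
    rintro rfl
    exact hgB ((D.mem_B_iff b hg).2 hk)
  have h1 := cj_eq_self_iff.2 (D.B_R h)
  rw [cj_mul, cj_mul, hk] at h1
  have h2 := congrArg (cj g) h1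
  rw [cj_cj_inv, hk] at h2
  exact D.cen_Qk b (D.U_le hu) (D.cen_of_fix b hu hk1 h2)

/-- An element which fixes only the points `R i₁`, `R i₂` is fixed-point-free on `U / Qk`. -/
theorem fpf_of {i₂ : ι} (h12 : i₁ ≠ i₂) {t : G} (ht2 : cj t (R i₂) = R i₂)
    (hfix : ∀ k, cj t (R k) = R k → k = i₁ ∨ k = i₂) :
    ∀ u ∈ U, t * u * t⁻¹ * u⁻¹ ∈ Qk B (XX V R ⊔ B) → u ∈ Qk B (XX V R ⊔ B) := by
  intro u hu h
  have h1 := ((D.mem_Qk_iff b).1 h).2
  have huP : u ∈ XX V R ⊔ B := mem_sup_right (D.U_le hu)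
  obtain ⟨k, hk⟩ := b.perm u (D.P_V b huP) i₂
  have h2 := h1 k
  have ht2' : cj t⁻¹ (R i₂) = R i₂ := by
    conv_lhs => rw [← ht2]
    rw [cj_inv_cj]
  have hk' : cj u⁻¹ (R k) = R i₂ := by rw [← hk, cj_inv_cj]
  rw [cj_mul, cj_mul, cj_mul, hk', ht2', hk] at h2
  rcases hfix k h2 with rfl | rfl
  · exfalso
    apply h12
    have h3 := cj_eq_self_iff.2 (D.B_R (D.U_le hu))
    exact b.R_index (cj_injective (h3.trans hk.symm))
  · exact D.cen_Qk b (D.U_le hu) (D.cen_of_fix b hu h12.symm hk)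

end Nod

end Cfsg.Agent.Omega.HOne.End

end

-- merged: Cfsg.Agent.Mrg.Omega.HOne.EndPoly
section

section


/-!
# II.0h1, END: residues of rank two, from PATH and BRAID to a generalised polygon

`Duo`: two minimal parabolic subgroups `P false`, `P true` over a common Borel subgroup `B` with a torus `H` and
reflections `n i` normalising `H`.  `Duo.frame` is the corresponding `RankTwoClose.Frame`; with PATH and BRAID it
gives a `ParSys.Polygon` (`Duo.exists_polygon`).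
-/

set_option autoImplicit false

namespace Cfsg.Agent.Omega.HOne.End

open Subgroup Cfsg.Agent.ParSys Cfsg.Agent.RankTwoClose
open Cfsg.Agent.LieExceptional.BNPairCore

variable {G : Type*} [Group G]

/-- Two minimal parabolic subgroups with a common Borel subgroup and a torus. -/
structure Duo (p : ℕ) (B U H : Subgroup G) (P : Bool → Subgroup G) (n : Bool → G) : Prop where
  hall : Hall.HallData p B U H
  le : ∀ i, B ≤ P i
  ptr : ∀ i, Hall.HallData.PTr B U (P i)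
  fix : ∀ i, ∀ c ∈ U, c ∈ centralizer (H : Set G) → c ∈ Qk B (P i)
  inf : P false ⊓ P true = B
  n_mem : ∀ i, n i ∈ P i
  n_not : ∀ i, n i ∉ B
  n_norm : ∀ i, n i ∈ normalizer (H : Set G)
  thick : ∀ i, ∃ b ∈ B, n i * b * (n i)⁻¹ ∉ B

namespace Duo

variable {p : ℕ} {B U H : Subgroup G} {P : Bool → Subgroup G} {n : Bool → G}

/-- two `H`-fixed chambers `≠ B` of a panel coincide -/
theorem panel_unique [Finite G] [Fact p.Prime] (D : Duo p B U H P n) (i : Bool) {g g' : G} (hg : g ∈ P i)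
    (hgB : g ∉ B) (hg' : g' ∈ P i) (hgB' : g' ∉ B)
    (hfix : ∀ a ∈ H, g⁻¹ * a * g ∈ B) (hfix' : ∀ a ∈ H, g'⁻¹ * a * g' ∈ B) : g⁻¹ * g' ∈ B := by
  obtain ⟨u, hu, b, hb, he⟩ := D.ptr i g hg hgB g' hg' hgB'
  obtain ⟨c, hcU, hcC, hc⟩ := D.hall.fixed_trans (X := G ⧸ B) ((g : G) : G ⧸ B) ((g' : G) : G ⧸ B) (by
      intro a ha
      change ((a * g : G) : G ⧸ B) = _
      refine (QuotientGroup.eq.mpr ?_).symm
      rw [← mul_assoc]
      exact hfix a ha) (by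
      intro a ha
      change ((a * g' : G) : G ⧸ B) = _
      refine (QuotientGroup.eq.mpr ?_).symm
      rw [← mul_assoc]
      exact hfix' a ha) hu (by
      change ((u * g : G) : G ⧸ B) = _
      rw [he]
      exact (QuotientGroup.mk_mul_of_mem _ hb).symm)
  have h1 : ((c * g : G) : G ⧸ B) = ((g' : G) : G ⧸ B) := hc
  have h2 := QuotientGroup.eq.1 h1
  have h3 := D.fix i c hcU hcC g hg
  have h4 := mul_mem h3 h2
  have e : g⁻¹ * c * g * ((c * g)⁻¹ * g') = g⁻¹ * g' := by group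
  rwa [e] at h4

/-- the frame -/
def frame [Finite G] [Fact p.Prime] (D : Duo p B U H P n) : Frame G where
  B := B
  H := H
  P := P
  n := n
  memP i x := by
    constructor
    · intro hx
      by_cases hxB : x ∈ B
      · exact Or.inl hxB
      · obtain ⟨u, hu, b, hb, e⟩ := D.ptr i (n i) (D.n_mem i) (D.n_not i) x hx hxB
        exact Or.inr ⟨u, D.hall.U_le hu, b, hb, e⟩
    · rintro (hx | ⟨b, hb, c, hc, rfl⟩)
      · exact D.le i hx
      · exact mul_mem (mul_mem (D.le i hb) (D.n_mem i)) (D.le i hc)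
  inter := D.inf
  H_le := D.hall.H_le
  n_norm := D.n_norm
  n_not := D.n_not
  two i g hg h := by
    by_cases hgB : g ∈ B
    · exact Or.inl hgB
    · refine Or.inr (D.panel_unique i (D.n_mem i) (D.n_not i) hg hgB (fun a ha => ?_) h)
      have := (Subgroup.mem_normalizer_iff.mp (inv_mem (D.n_norm i)) a).mp ha
      rw [inv_inv] at this
      exact D.hall.H_le this

variable [Finite G] [Fact p.Prime] (D : Duo p B U H P n)

@[simp] theorem frame_B : D.frame.B = B := rfl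
@[simp] theorem frame_H : D.frame.H = H := rfl
@[simp] theorem frame_P (i : Bool) : D.frame.P i = P i := rfl
@[simp] theorem frame_n (i : Bool) : D.frame.n i = n i := rfl

include D in
/-- The (B,N)-pair of rank two of `P false ⊔ P true`. -/
theorem exists_bnPair {m : ℕ} (hbr : D.frame.Braid m) (hm : 1 ≤ m) (hp : ∀ k < m, D.frame.PathTo k) :
    ∃ (Q : Cfsg.BNPair ↥(P false ⊔ P true)) (s : Bool → ↥(P false ⊔ P true)),
      Q.B = B.subgroupOf (P false ⊔ P true) ∧ Q.S = {s false, s true} ∧ s false ≠ s true ∧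
      (∀ i, (s i : G) = n i) ∧ ∀ i, (P i).subgroupOf (P false ⊔ P true) = Q.parabolic {s i} := by
  set X := P false ⊔ P true with hX
  have hX' : ∀ i, D.frame.P i ≤ X := by
    rintro (_ | _)
    · exact le_sup_left
    · exact le_sup_right
  set R := D.frame.restrict X hX' with hR
  have hBX : B ≤ X := (D.le false).trans (hX' false)
  have g1 : R.P false ⊔ R.P true = ⊤ := by
    show (P false).subgroupOf X ⊔ (P true).subgroupOf X = ⊤
    have h0 : P false ≤ X := hX' false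
    have h1 : P true ≤ X := hX' true
    rw [← Subgroup.subgroupOf_sup h0 h1, ← hX]
    exact Subgroup.subgroupOf_self X
  have g2 : ∀ i, ∃ b ∈ R.B, R.n i * b * (R.n i)⁻¹ ∉ R.B := by
    intro i
    obtain ⟨b, hb, hnb⟩ := D.thick i
    exact ⟨⟨b, hBX hb⟩, Subgroup.mem_subgroupOf.2 hb, fun h => hnb (Subgroup.mem_subgroupOf.1 h)⟩
  set Q := R.toBNPair (m := m) hbr.restrict hm (fun k hk => (hp k hk).restrict) g1 g2 with hQ
  have hS : Q.S = {R.n false, R.n true} := rfl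
  refine ⟨Q, R.n, rfl, hS, R.n_ne, fun i => rfl, fun i => ?_⟩
  have hRn : R.n i ∈ Q.S := by
    rw [hS]; cases i <;> simp
  have hRP : (P i).subgroupOf X = R.P i := rfl
  rw [hRP]
  apply le_antisymm
  · intro x hx
    rcases (R.memP i x).1 hx with h | ⟨b, hb, c, hc, rfl⟩
    · exact (le_sup_left : Q.B ≤ _) h
    · exact mul_mem (mul_mem ((le_sup_left : Q.B ≤ _) hb)
        ((le_sup_right : closure {R.n i} ≤ _) (subset_closure rfl))) ((le_sup_left : Q.B ≤ _) hc)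
  · refine sup_le (R.B_le i) ?_
    rw [Subgroup.closure_le, Set.singleton_subset_iff]
    exact R.n_mem i

/-- **PATH and BRAID give a generalised polygon.** -/
theorem exists_polygon {m : ℕ} (hbr : D.frame.Braid m) (hm : 1 ≤ m) (hp : ∀ k < m, D.frame.PathTo k)
    {I : Type*} {R : I → Subgroup G} {a b : I} (ha : R a = P false) (hb : R b = P true) :
    ∃ k, 2 ≤ k ∧ Polygon B R a b k ∧
      (3 ≤ k ↔ n false * n true * (n false)⁻¹ * (n true)⁻¹ ∉ B) := by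
  obtain ⟨Q, s, hB, hS, hne, hs, hP⟩ := D.exists_bnPair hbr hm hp
  generalize hX0 : P false ⊔ P true = X at Q s hB hS hne hs hP
  obtain ⟨k, h2, hr, hbk, hlt⟩ := LieRecognition.FeitHigmanGroup.exists_max_red hS hne
  have hs0 : s false ∈ Q.S := by rw [hS]; simp
  have hs1 : s true ∈ Q.S := by rw [hS]; simp
  have hpol : Polygon Q.B (fun i => (R i).subgroupOf X) a b k := by
    refine polygon_of_red hs0 hs1 ?_ ?_ hr hbk
    · show (R a).subgroupOf X = _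
      rw [ha]; exact hP false
    · show (R b).subgroupOf X = _
      rw [hb]; exact hP true
  have hPX : ∀ i, i = a ∨ i = b → R i ≤ X := by
    rintro i (rfl | rfl)
    · rw [ha, ← hX0]; exact le_sup_left
    · rw [hb, ← hX0]; exact le_sup_right
  have hBR : ∀ i, i = a ∨ i = b → B ≤ R i := by
    rintro i (rfl | rfl)
    · rw [ha]; exact D.le false
    · rw [hb]; exact D.le true
  have hlink : Link B R a b Q.B (fun i => (R i).subgroupOf X)
      (fun g e => ∃ h : g ∈ X, ((MonoidHom.id X) ⟨g, h⟩)⁻¹ * (MonoidHom.id X) e ∈ Q.B) := by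
    refine link_of_hom X (MonoidHom.id X) (MonoidHom.id X) Q.B (fun i => (R i).subgroupOf X) hPX ?_ ?_ ?_ ?_ ?_ ?_ ?_
    · intro x
      rw [hB]; exact Iff.rfl
    · intro i _ x
      exact Iff.rfl
    · intro e; exact Iff.rfl
    · intro i _ e; exact Iff.rfl
    · intro i hi x hx
      rw [hB] at hx
      exact hBR i hi hx
    · intro e; exact ⟨e, rfl⟩
    · intro i _ y _
      exact ⟨y, 1, one_mem _, by simp⟩
  refine ⟨k, h2, hlink.polygon hpol, ?_⟩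
  -- the commutator of the reflections
  have e : (LieRecognition.FeitHigmanGroup.alt 2 (s false) (s true))⁻¹ *
      LieRecognition.FeitHigmanGroup.alt 2 (s true) (s false) =
      (s true)⁻¹ * (s false)⁻¹ * s true * s false := by
    simp only [LieRecognition.FeitHigmanGroup.alt_succ, LieRecognition.FeitHigmanGroup.alt_zero, mul_one]
    group
  have hst : s false * s true ∈ Q.N := mul_mem (mem_N hs0) (mem_N hs1)
  have hts : s true * s false ∈ Q.N := mul_mem (mem_N hs1) (mem_N hs0)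
  have key : s false * s true * (s false)⁻¹ * (s true)⁻¹ ∈ Q.B ↔
      (s true)⁻¹ * (s false)⁻¹ * s true * s false ∈ Q.B := by
    constructor
    · intro h1
      have h3 : s false * s true * (s false)⁻¹ * (s true)⁻¹ ∈ Q.N :=
        mul_mem (mul_mem hst (inv_mem (mem_N hs0))) (inv_mem (mem_N hs1))
      have h4 := conj_mem_inv (P := Q) hts h1 h3
      have h5 := inv_mem h4
      have e1 : ((s true * s false)⁻¹ * (s false * s true * (s false)⁻¹ * (s true)⁻¹) *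
          (s true * s false))⁻¹ = (s true)⁻¹ * (s false)⁻¹ * s true * s false := by group
      rwa [e1] at h5
    · intro h1
      have h3 : (s true)⁻¹ * (s false)⁻¹ * s true * s false ∈ Q.N :=
        mul_mem (mul_mem (mul_mem (inv_mem (mem_N hs1)) (inv_mem (mem_N hs0)))
        (mem_N hs1)) (mem_N hs0)
      have h4 := conj_mem' (P := Q) hts h1 h3
      have h5 := inv_mem h4
      have e1 : (s true * s false * ((s true)⁻¹ * (s false)⁻¹ * s true * s false) *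
          (s true * s false)⁻¹)⁻¹ = s false * s true * (s false)⁻¹ * (s true)⁻¹ := by group
      rwa [e1] at h5
  have hcoe : n false * n true * (n false)⁻¹ * (n true)⁻¹ ∈ B ↔
      s false * s true * (s false)⁻¹ * (s true)⁻¹ ∈ Q.B := by
    rw [hB, Subgroup.mem_subgroupOf]
    push_cast
    rw [hs, hs]
  rw [hcoe, key]
  constructor
  · intro h3 h4
    exact hlt 2 (by omega) (by omega) (by rw [e]; exact h4)
  · intro h3
    by_contra h4
    obtain rfl : k = 2 := by omega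
    rw [e] at hbk
    exact h3 hbk

end Duo

end Cfsg.Agent.Omega.HOne.End

end

section


/-!
# II.0h1, END: braid relations from a kernel which is central modulo a subgroup of the Borel subgroup

`CenMod L C J`: `C` and `J` are normal in `L` and `C / J` is central.  `braid_three`, `braid_four`: the braid relations
of length three and four in a `RankTwoClose.Frame` from relations which are known modulo `C`.
-/

set_option autoImplicit false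

namespace Cfsg.Agent.Omega.HOne.End

open Subgroup Cfsg.Agent.RankTwoClose
open scoped commutatorElement

variable {G : Type*} [Group G]

/-- `C` is normal in `L` and central modulo the normal subgroup `J` of `L`. -/
structure CenMod (L C J : Subgroup G) : Prop where
  C_le : C ≤ L
  J_le : J ≤ L
  J_norm : ∀ x ∈ L, ∀ c ∈ J, x * c * x⁻¹ ∈ J
  comm : ∀ x ∈ L, ∀ c ∈ C, x * c * x⁻¹ * c⁻¹ ∈ J

namespace CenMod

variable {L C J : Subgroup G} (h : CenMod L C J)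

include h

theorem comm_inv {x c : G} (hx : x ∈ L) (hc : c ∈ C) : x * c⁻¹ * x⁻¹ * c ∈ J := by
  have := h.comm x hx c⁻¹ (inv_mem hc)
  rwa [inv_inv] at this

theorem norm' {x c : G} (hx : x ∈ L) (hc : c ∈ J) : x⁻¹ * c * x ∈ J := by
  have := h.J_norm x⁻¹ (inv_mem hx) c hc
  rwa [inv_inv] at this

/-- Commutators do not change modulo `J` if the entries are multiplied by elements of `C`. -/
theorem commutator_mul {c c' d d' : G} (hc : c ∈ C) (hc' : c' ∈ C) (hd : d ∈ L) (hd' : d' ∈ L) :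
    ⁅c * d, c' * d'⁆ * ⁅d, d'⁆⁻¹ ∈ J := by
  have hcL := h.C_le hc
  have hcL' := h.C_le hc'
  have j1 := h.comm d hd c' hc'
  have j2 := h.comm_inv (x := d * d' * d⁻¹) (mul_mem (mul_mem hd hd') (inv_mem hd)) hc
  have j3 := h.comm_inv (x := ⁅d, d'⁆) (by
    rw [commutatorElement_def]
    exact mul_mem (mul_mem (mul_mem hd hd') (inv_mem hd)) (inv_mem hd')) hc'
  have j4 := h.comm c hcL c' hc'
  have k1 := h.J_norm c hcL _ j1
  have k2 := h.J_norm (c * c') (mul_mem hcL hcL') _ j2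
  have k3 := h.J_norm (c * c' * c⁻¹) (mul_mem (mul_mem hcL hcL') (inv_mem hcL)) _ j3
  have := mul_mem (mul_mem (mul_mem k1 k2) k3) j4
  have e : c * (d * c' * d⁻¹ * c'⁻¹) * c⁻¹ *
      (c * c' * (d * d' * d⁻¹ * c⁻¹ * (d * d' * d⁻¹)⁻¹ * c) * (c * c')⁻¹) *
      (c * c' * c⁻¹ * (⁅d, d'⁆ * c'⁻¹ * ⁅d, d'⁆⁻¹ * c') * (c * c' * c⁻¹)⁻¹) *
      (c * c' * c⁻¹ * c'⁻¹) = ⁅c * d, c' * d'⁆ * ⁅d, d'⁆⁻¹ := by
    simp only [commutatorElement_def]
    group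
  rwa [e] at this

/-- `C` is normal in `L` if `J ≤ C`. -/
theorem C_norm (hJ : J ≤ C) {x c : G} (hx : x ∈ L) (hc : c ∈ C) : x * c * x⁻¹ ∈ C := by
  have := mul_mem (hJ (h.comm x hx c hc)) hc
  rwa [inv_mul_cancel_right] at this

theorem commutator_sup (hJ : J ≤ C) {D : Subgroup G} (hD : D ≤ L) : ⁅D ⊔ C, D ⊔ C⁆ ≤ ⁅D, D⁆ ⊔ J := by
  have hn : D ≤ normalizer (C : Set G) := by
    intro x hx
    rw [Subgroup.mem_normalizer_iff]
    intro c
    refine ⟨h.C_norm hJ (hD hx), fun hc => ?_⟩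
    have := h.C_norm hJ (inv_mem (hD hx)) hc
    have e : x⁻¹ * (x * c * x⁻¹) * x⁻¹⁻¹ = c := by group
    rwa [e] at this
  rw [Subgroup.commutator_le]
  intro x hx y hy
  obtain ⟨c, hc, d, hd, rfl⟩ := Solvable.Glauberman.exists_mul_of_mem_sup D C hn hx
  obtain ⟨c', hc', d', hd', rfl⟩ := Solvable.Glauberman.exists_mul_of_mem_sup D C hn hy
  have h1 := h.commutator_mul hc hc' (hD hd) (hD hd')
  have h2 : ⁅d, d'⁆ ∈ ⁅D, D⁆ := Subgroup.commutator_mem_commutator hd hd'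
  have h3 := mul_mem ((le_sup_right : J ≤ ⁅D, D⁆ ⊔ J) h1) ((le_sup_left : ⁅D, D⁆ ≤ _ ⊔ J) h2)
  rwa [inv_mul_cancel_right] at h3

/-- If `t` centralises the perfect group `M` modulo `C`, then it centralises it modulo `J`. -/
theorem perfect {M : Subgroup G} (hM : M ≤ L) (hp : ⁅M, M⁆ = M) {t : G} (_ : t ∈ L)
    (hc : ∀ m ∈ M, t * m * t⁻¹ * m⁻¹ ∈ C) {m : G} (hm : m ∈ M) : t * m * t⁻¹ * m⁻¹ ∈ J := by
  let K : Subgroup G :=
    { carrier := {x | x ∈ L ∧ t * x * t⁻¹ * x⁻¹ ∈ J}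
      one_mem' := ⟨one_mem _, by simp⟩
      mul_mem' := by
        rintro a b ⟨ha, ha'⟩ ⟨hb, hb'⟩
        refine ⟨mul_mem ha hb, ?_⟩
        have h1 := mul_mem ha' (h.J_norm a ha _ hb')
        have e : t * a * t⁻¹ * a⁻¹ * (a * (t * b * t⁻¹ * b⁻¹) * a⁻¹) = t * (a * b) * t⁻¹ * (a * b)⁻¹ := by group
        rwa [e] at h1
      inv_mem' := by
        rintro a ⟨ha, ha'⟩
        refine ⟨inv_mem ha, ?_⟩
        have h1 := h.norm' ha (inv_mem ha')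
        have e : a⁻¹ * (t * a * t⁻¹ * a⁻¹)⁻¹ * a = t * a⁻¹ * t⁻¹ * a⁻¹⁻¹ := by group
        rwa [e] at h1 }
  have key : ⁅M, M⁆ ≤ K := by
    rw [Subgroup.commutator_le]
    intro x hx y hy
    have hxL := hM hx
    have hyL := hM hy
    refine ⟨by
      rw [commutatorElement_def]
      exact mul_mem (mul_mem (mul_mem hxL hyL) (inv_mem hxL)) (inv_mem hyL), ?_⟩
    have h1 := h.commutator_mul (hc x hx) (hc y hy) hxL hyL
    have e : ⁅t * x * t⁻¹ * x⁻¹ * x, t * y * t⁻¹ * y⁻¹ * y⁆ * ⁅x, y⁆⁻¹ = t * ⁅x, y⁆ * t⁻¹ * ⁅x, y⁆⁻¹ := by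
      simp only [commutatorElement_def]
      group
    rwa [e] at h1
  rw [hp] at key
  exact (key hm).2

end CenMod

/-- `Bf` : a subgroup of `B` normalised by the reflections (the elements of `B` fixing the whole frame). -/
structure FixPart (F : Frame G) (Bf : Subgroup G) : Prop where
  le : Bf ≤ F.B
  norm : ∀ i, F.n i ∈ normalizer (Bf : Set G)

namespace FixPart

variable {F : Frame G} {Bf : Subgroup G} (hf : FixPart F Bf)

include hf

theorem conj (i : Bool) {b : G} (hb : b ∈ Bf) : F.n i * b * (F.n i)⁻¹ ∈ Bf :=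
  (Subgroup.mem_normalizer_iff.1 (hf.norm i) b).1 hb

theorem conj' (i : Bool) {b : G} (hb : b ∈ Bf) : (F.n i)⁻¹ * b * F.n i ∈ Bf := by
  have := (Subgroup.mem_normalizer_iff.1 (inv_mem (hf.norm i)) b).1 hb
  rwa [inv_inv] at this

end FixPart

variable (F : Frame G)

theorem braid_of_conj {m : ℕ} {i : Bool}
    (hm : (alt F.n (!i) m)⁻¹ * F.n i * alt F.n (!i) m ∈ F.P (nxt (!i) m)) : F.Braid (m + 1) :=
  F.braid_of_mem (i := i) (l := F.n i) (by rw [inv_mul_cancel]; exact one_mem _) hm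

/-- **The braid relation of length three**: `D ≤ P i` is conjugate, modulo `C`, to `D' ≤ P (!i)` under
`w = n (!i) n i`; `n i` lies in `[D, D] Bf`. -/
theorem braid_three {L C J Bf D D' : Subgroup G} (h : CenMod L C J) (hJC : J ≤ C) (hJ : J ≤ F.B)
    (hf : FixPart F Bf) (i : Bool) (hD' : D' ≤ F.P (!i)) (hD'L : D' ≤ L)
    (hconj : ∀ x ∈ D, (F.n (!i) * F.n i)⁻¹ * x * (F.n (!i) * F.n i) ∈ D' ⊔ C)
    {l : G} (hl : l ∈ ⁅D, D⁆) (hb : (F.n i)⁻¹ * l ∈ Bf) : F.Braid 3 := by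
  have hw : alt F.n (!i) 2 = F.n (!i) * F.n i := by simp [alt_succ]
  apply braid_of_conj F (m := 2) (i := i)
  have hnxt : nxt (!i) 2 = !i := by simp [nxt]
  rw [hnxt, hw]
  set w := F.n (!i) * F.n i with hwdef
  -- `w⁻¹ l w ∈ P (!i)`
  have h1 : ⁅D, D⁆ ≤ (⁅D' ⊔ C, D' ⊔ C⁆ : Subgroup G).comap (MulAut.conj w⁻¹).toMonoidHom := by
    rw [Subgroup.commutator_le]
    intro x hx y hy
    rw [Subgroup.mem_comap]
    have e : (MulAut.conj w⁻¹).toMonoidHom ⁅x, y⁆ = ⁅w⁻¹ * x * w, w⁻¹ * y * w⁆ := by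
      rw [MulEquiv.coe_toMonoidHom, map_commutatorElement, MulAut.conj_apply, MulAut.conj_apply, inv_inv]
    rw [e]
    exact Subgroup.commutator_mem_commutator (hconj x hx) (hconj y hy)
  have h2 : w⁻¹ * l * w ∈ ⁅D' ⊔ C, D' ⊔ C⁆ := by
    have := h1 hl
    rw [Subgroup.mem_comap] at this
    have e : (MulAut.conj w⁻¹).toMonoidHom l = w⁻¹ * l * w := by
      rw [MulEquiv.coe_toMonoidHom, MulAut.conj_apply, inv_inv]
    rwa [e] at this
  have h3 : w⁻¹ * l * w ∈ F.P (!i) := by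
    refine (sup_le ?_ (hJ.trans (F.B_le _))) (h.commutator_sup hJC hD'L h2)
    exact (Subgroup.commutator_le.2 fun x hx y hy => by
      rw [commutatorElement_def]
      exact mul_mem (mul_mem (mul_mem (hD' hx) (hD' hy)) (inv_mem (hD' hx))) (inv_mem (hD' hy)))
  -- `w⁻¹ b w ∈ B`
  have h4 : w⁻¹ * ((F.n i)⁻¹ * l) * w ∈ F.B := by
    have := hf.le (hf.conj' i (hf.conj' (!i) hb))
    have e : (F.n i)⁻¹ * ((F.n (!i))⁻¹ * ((F.n i)⁻¹ * l) * F.n (!i)) * F.n i =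
        w⁻¹ * ((F.n i)⁻¹ * l) * w := by rw [hwdef]; group
    rwa [e] at this
  have h5 := mul_mem h3 (F.B_le (!i) (inv_mem h4))
  have e : w⁻¹ * l * w * (w⁻¹ * ((F.n i)⁻¹ * l) * w)⁻¹ = w⁻¹ * F.n i * w := by group
  rwa [e] at h5

end Cfsg.Agent.Omega.HOne.End

end

section


/-!
# II.0h1, END: the residue of type A2

`Pl`: the points of `N` and their `κ`-conjugates form an `L`-invariant family `Ω`; this determines the groups of
elations of the frame `R₁, R₂, R₃` modulo the kernel `C`, and gives the braid relation of length three.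
-/

set_option autoImplicit false

namespace Cfsg.Agent.Omega.HOne.End

open Subgroup Cfsg.Agent.RankTwoClose
open scoped commutatorElement

variable {G : Type*} [Group G]

/-- The conjugate `g⁻¹ A g`. -/
def rc (A : Subgroup G) (g : G) : Subgroup G := A.comap (MulAut.conj g).toMonoidHom

theorem mem_rc {A : Subgroup G} {g x : G} : x ∈ rc A g ↔ g * x * g⁻¹ ∈ A := Iff.rfl

theorem rc_rc (A : Subgroup G) (g h : G) : rc (rc A g) h = rc A (g * h) := by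
  ext x
  rw [mem_rc, mem_rc, mem_rc]
  have e : g * (h * x * h⁻¹) * g⁻¹ = g * h * x * (g * h)⁻¹ := by group
  rw [e]

@[simp] theorem rc_one (A : Subgroup G) : rc A 1 = A := by
  ext x; rw [mem_rc]; simp

theorem rc_mono {A A' : Subgroup G} (h : A ≤ A') (g : G) : rc A g ≤ rc A' g := fun _ hx => h hx

theorem rc_inj {A A' : Subgroup G} {g : G} (h : rc A g = rc A' g) : A = A' := by
  have := congrArg (fun K => rc K g⁻¹) h
  simpa [rc_rc] using this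

theorem rc_bot (g : G) : rc (⊥ : Subgroup G) g = ⊥ := by
  ext x
  rw [mem_rc, Subgroup.mem_bot, Subgroup.mem_bot]
  constructor
  · intro h
    have e : x = g⁻¹ * (g * x * g⁻¹) * g := by group
    rw [e, h]; group
  · rintro rfl; group

theorem mem_rc_conj {A : Subgroup G} {g x : G} (hx : x ∈ A) : g⁻¹ * x * g ∈ rc A g := by
  rw [mem_rc]
  have e : g * (g⁻¹ * x * g) * g⁻¹ = x := by group
  rwa [e]

theorem rc_sup (A A' : Subgroup G) (g : G) : rc (A ⊔ A') g = rc A g ⊔ rc A' g := by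
  apply le_antisymm
  · intro x hx
    rw [mem_rc] at hx
    have key : A ⊔ A' ≤ rc (rc A g ⊔ rc A' g) g⁻¹ := by
      refine sup_le (fun y hy => ?_) (fun y hy => ?_)
      · exact (rc_mono (le_sup_left : rc A g ≤ rc A g ⊔ rc A' g) g⁻¹) (by rw [rc_rc]; simpa using hy)
      · exact (rc_mono (le_sup_right : rc A' g ≤ rc A g ⊔ rc A' g) g⁻¹) (by rw [rc_rc]; simpa using hy)
    have := key hx
    rw [mem_rc] at this
    have e : g⁻¹ * (g * x * g⁻¹) * g⁻¹⁻¹ = x := by group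
    rwa [e] at this
  · exact sup_le (rc_mono le_sup_left g) (rc_mono le_sup_right g)

theorem rc_eq_of_mem_normalizer {A : Subgroup G} {g : G} (h : g ∈ normalizer (A : Set G)) : rc A g = A := by
  ext x
  rw [mem_rc]
  exact (Subgroup.mem_normalizer_iff.1 h x).symm

theorem mem_normalizer_of_rc_eq {A : Subgroup G} {g : G} (h : rc A g = A) : g ∈ normalizer (A : Set G) := by
  rw [Subgroup.mem_normalizer_iff]
  intro x
  have : x ∈ rc A g ↔ x ∈ A := by rw [h]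
  exact this.symm

/-- `g` centralises `A`. -/
def Ce (A : Subgroup G) (g : G) : Prop := ∀ r ∈ A, g * r = r * g

theorem Ce.conj {A : Subgroup G} {g : G} (h : Ce A g) (k : G) : Ce (rc A k) (k⁻¹ * g * k) := by
  intro r hr
  have h1 := h _ hr
  have e1 : k⁻¹ * g * k * r = k⁻¹ * (g * (k * r * k⁻¹)) * k := by group
  have e2 : r * (k⁻¹ * g * k) = k⁻¹ * ((k * r * k⁻¹) * g) * k := by group
  rw [e1, e2]
  exact congrArg (fun z => k⁻¹ * z * k) h1

theorem Ce.mul {A : Subgroup G} {g h : G} (hg : Ce A g) (hh : Ce A h) : Ce A (g * h) := by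
  intro r hr
  rw [mul_assoc, hh r hr, ← mul_assoc, hg r hr, mul_assoc]

theorem Ce.inv {A : Subgroup G} {g : G} (hg : Ce A g) : Ce A g⁻¹ := by
  intro r hr
  have := hg r hr
  calc g⁻¹ * r = g⁻¹ * (r * g) * g⁻¹ := by group
    _ = g⁻¹ * (g * r) * g⁻¹ := by rw [this]
    _ = r * g⁻¹ := by group

theorem Ce.rc_eq {A : Subgroup G} {g : G} (hg : Ce A g) : rc A g = A := by
  ext x
  rw [mem_rc]
  constructor
  · intro h
    have h1 := hg.inv _ h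
    have e : g⁻¹ * (g * x * g⁻¹) = x * g⁻¹ := by group
    rw [e] at h1
    have h2 : x = g * x * g⁻¹ := by
      have := congrArg (· * g) h1
      simpa only [mul_assoc, _root_.inv_mul_cancel, _root_.mul_one] using this
    rwa [h2]
  · intro h
    rw [hg x h, mul_inv_cancel_right]
    exact h

/-- `g` is an elation: it centralises `A` and `D` and moves `B` inside `A B`. -/
structure Mv (L A B D : Subgroup G) (g : G) : Prop where
  mem : g ∈ L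
  fixA : Ce A g
  fixD : Ce D g
  move : ∀ r ∈ B, r⁻¹ * (g⁻¹ * r * g) ∈ A

theorem Mv.conj {L A B D : Subgroup G} {g : G} (h : Mv L A B D g) {k : G} (hk : k ∈ normalizer (L : Set G)) :
    Mv L (rc A k) (rc B k) (rc D k) (k⁻¹ * g * k) where
  mem := by
    have := (Subgroup.mem_normalizer_iff.1 (inv_mem hk) g).1 h.mem
    rwa [inv_inv] at this
  fixA := h.fixA.conj k
  fixD := h.fixD.conj k
  move := by
    intro r hr
    rw [mem_rc] at hr ⊢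
    have := h.move _ hr
    have e : (k * r * k⁻¹)⁻¹ * (g⁻¹ * (k * r * k⁻¹) * g) =
        k * (r⁻¹ * ((k⁻¹ * g * k)⁻¹ * r * (k⁻¹ * g * k))) * k⁻¹ := by group
    rwa [e] at this

/-- **Elations modulo the kernel.** -/
theorem Mv.mem_mul {L A B D Y : Subgroup G} {Ω : Set (Subgroup G)}
    (hΩ : ∀ g ∈ L, ∀ p ∈ Ω, rc p g ∈ Ω) (hB : B ∈ Ω) (hAB : A ⊓ B = ⊥) (hA : A ≠ ⊥)
    (hY : ∀ y ∈ Y, Mv L A B D y)
    (htr : ∀ p ∈ Ω, p ≤ A ⊔ B → p ≠ A → ∃ y ∈ Y, rc p y = B) {g : G} (hg : Mv L A B D g) :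
    ∃ y ∈ Y, ∃ c ∈ L, Ce A c ∧ Ce B c ∧ Ce D c ∧ g = c * y := by
  have h1 : rc B g ≤ A ⊔ B := by
    intro x hx
    rw [mem_rc] at hx
    have h2 := hg.move _ hx
    have h3 : (g * x * g⁻¹) * ((g * x * g⁻¹)⁻¹ * (g⁻¹ * (g * x * g⁻¹) * g)) = x := by group
    rw [← h3]
    exact mul_mem (Subgroup.mem_sup_right hx) (Subgroup.mem_sup_left h2)
  have h2 : rc B g ≠ A := by
    intro h3
    have h4 : rc A g = A := hg.fixA.rc_eq
    have h5 : B = A := rc_inj (h3.trans h4.symm)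
    rw [h5, inf_idem] at hAB
    exact hA hAB
  obtain ⟨y, hy, hyB⟩ := htr _ (hΩ g hg.mem B hB) h1 h2
  have hyM := hY y hy
  refine ⟨y⁻¹, inv_mem hy, g * y, mul_mem hg.mem hyM.mem, hg.fixA.mul hyM.fixA, ?_, hg.fixD.mul hyM.fixD, by group⟩
  rw [rc_rc] at hyB
  intro r hr
  -- `r⁻¹ (gy)⁻¹ r (gy) ∈ A ∩ B`
  have h3 : (g * y)⁻¹ * r * (g * y) ∈ B := by
    have h4 := mem_rc_conj (g := g * y) hr
    rwa [hyB] at h4
  have h5 : r⁻¹ * ((g * y)⁻¹ * r * (g * y)) ∈ A := by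
    have h6 := hg.move r hr
    -- `y⁻¹ (g⁻¹ r g) y = y⁻¹ r (r⁻¹ g⁻¹ r g) y`
    have h7 := hyM.move r hr
    have h8 := hyM.fixA.inv _ h6
    have e : r⁻¹ * ((g * y)⁻¹ * r * (g * y)) = (r⁻¹ * (y⁻¹ * r * y)) * (y⁻¹ * (r⁻¹ * (g⁻¹ * r * g)) * y) := by
      group
    rw [e, h8, inv_mul_cancel_right]
    exact mul_mem h7 h6
  have h9 : r⁻¹ * ((g * y)⁻¹ * r * (g * y)) ∈ A ⊓ B := Subgroup.mem_inf.2 ⟨h5, mul_mem (inv_mem hr) h3⟩
  rw [hAB, Subgroup.mem_bot] at h9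
  have h10 : (g * y)⁻¹ * r * (g * y) = r := by
    have := congrArg (r * ·) h9
    simpa only [_root_.mul_inv_rev, _root_.mul_inv_cancel_left, _root_.mul_one] using this
  have h11 := congrArg ((g * y) * ·) h10
  have e : (g * y) * ((g * y)⁻¹ * r * (g * y)) = r * (g * y) := by group
  rw [← e]
  exact h11.symm ▸ rfl

/-- The stabiliser of a family of subgroups. -/
def StO (Ω : Set (Subgroup G)) : Subgroup G where
  carrier := {b | ∀ q, rc q b ∈ Ω ↔ q ∈ Ω}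
  one_mem' := fun q => by simp
  mul_mem' := fun {a b} ha hb q => by rw [← rc_rc, hb, ha]
  inv_mem' := fun {a} ha q => by rw [← ha (rc q a⁻¹), rc_rc, inv_mul_cancel, rc_one]

theorem mem_StO_of {Ω : Set (Subgroup G)} {b : G} (h : ∀ q ∈ Ω, rc q b ∈ Ω) (h' : ∀ q ∈ Ω, rc q b⁻¹ ∈ Ω) :
    b ∈ StO Ω := by
  intro q
  refine ⟨fun hq => ?_, h q⟩
  have := h' _ hq
  rwa [rc_rc, mul_inv_cancel, rc_one] at this

theorem mem_StO_of_finite [Finite G] {Ω : Set (Subgroup G)} {b : G} (h : ∀ q ∈ Ω, rc q b ∈ Ω) : b ∈ StO Ω := by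
  refine mem_StO_of h ?_
  have h1 : ∀ n : ℕ, ∀ q ∈ Ω, rc q (b ^ n) ∈ Ω := by
    intro n
    induction n with
    | zero => intro q hq; simpa using hq
    | succ n ih => intro q hq; rw [pow_succ, ← rc_rc]; exact h _ (ih q hq)
  have e : b⁻¹ = b ^ (orderOf b - 1) := by
    rw [inv_eq_iff_mul_eq_one, ← pow_succ', Nat.sub_add_cancel (orderOf_pos b), pow_orderOf_eq_one]
  rw [e]
  exact h1 _

/-- The local data for a residue of type A2: `pts` = the points of `N`, `κ` = the perfect group of the node `j`. -/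
structure Pl (L κ Pf U₁ U₂ : Subgroup G) (pts : Set (Subgroup G)) (R₁ R₂ R₃ : Subgroup G) (n₁ n₂ : G) : Prop where
  /-- `L` is generated by `κ`, a group `Pf` fixing `N` and normalising `κ`, and `n₁` -/
  gen : L ≤ (Pf ⊔ κ) ⊔ zpowers n₁
  Pf_norm : ∀ b ∈ Pf, ∀ k ∈ κ, b⁻¹ * k * b ∈ κ
  Pf_pts : ∀ b ∈ Pf, ∀ p ∈ pts, rc p b ∈ pts
  n₁_pts : ∀ p ∈ pts, rc p n₁ ∈ pts
  U₁_le : U₁ ≤ Pf
  U₂_le : U₂ ≤ Pf
  U₁_n₁ : rc U₁ n₁ = U₂
  U₂_n₁ : rc U₂ n₁ = U₁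
  R₁_n₁ : rc R₁ n₁ = R₂
  R₂_n₁ : rc R₂ n₁ = R₁
  R₃_n₁ : rc R₃ n₁ = R₃
  mem₁ : R₁ ∈ pts
  mem₂ : R₂ ∈ pts
  /-- `κ` moves `N` to `N` or, up to `U₂`, to `N n₂` -/
  line : ∀ k ∈ κ, (∀ p ∈ pts, rc p k ∈ pts) ∨ ∃ u ∈ U₂, ∀ p ∈ pts, ∃ p' ∈ pts, rc p (k * u) = rc p' n₂
  /-- `U₁` is transitive on the points `≠ R₁` of `N n₂` -/
  point : ∀ p ∈ pts, rc p n₂ = R₁ ∨ ∃ u ∈ U₁, rc (rc p n₂) u = R₃
  n₂_mem : n₂ ∈ κ ⊔ Pf
  R₁_n₂ : rc R₁ n₂ = R₁
  R₂_n₂ : rc R₂ n₂ = R₃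
  R₃_n₂ : rc R₃ n₂ = R₂
  /-- `N` -/
  N_Y : ∀ b ∈ U₁ ⊔ U₂, rc (R₁ ⊔ R₂) b = R₁ ⊔ R₂
  R₃_not : ¬ R₃ ≤ R₁ ⊔ R₂

namespace Pl

variable {L κ Pf U₁ U₂ : Subgroup G} {pts : Set (Subgroup G)} {R₁ R₂ R₃ : Subgroup G} {n₁ n₂ : G}
  (D : Pl L κ Pf U₁ U₂ pts R₁ R₂ R₃ n₁ n₂)

/-- All points of the plane. -/
def Om (κ : Subgroup G) (pts : Set (Subgroup G)) : Set (Subgroup G) := {q | ∃ p ∈ pts, ∃ k ∈ κ, q = rc p k}

theorem pts_sub {p : Subgroup G} (hp : p ∈ pts) : p ∈ Om κ pts := ⟨p, hp, 1, one_mem _, by simp⟩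

theorem Om_κ {k : G} (hk : k ∈ κ) {q : Subgroup G} (hq : q ∈ Om κ pts) : rc q k ∈ Om κ pts := by
  obtain ⟨p, hp, k', hk', rfl⟩ := hq
  exact ⟨p, hp, k' * k, mul_mem hk' hk, rc_rc _ _ _⟩

include D

theorem Om_Pf {b : G} (hb : b ∈ Pf) {q : Subgroup G} (hq : q ∈ Om κ pts) : rc q b ∈ Om κ pts := by
  obtain ⟨p, hp, k, hk, rfl⟩ := hq
  refine ⟨rc p b, D.Pf_pts b hb p hp, b⁻¹ * k * b, D.Pf_norm b hb k hk, ?_⟩
  rw [rc_rc, rc_rc]
  congr 1
  group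

theorem Om_sup {b : G} (hb : b ∈ κ ⊔ Pf) {q : Subgroup G} (hq : q ∈ Om κ pts) : rc q b ∈ Om κ pts := by
  have key : κ ⊔ Pf ≤ StO (Om κ pts) := by
    refine sup_le (fun b hb => mem_StO_of (fun q hq => Om_κ hb hq) (fun q hq => Om_κ (inv_mem hb) hq))
      (fun b hb => mem_StO_of (fun q hq => D.Om_Pf hb hq) (fun q hq => D.Om_Pf (inv_mem hb) hq))
  exact (key hb q).2 hq

theorem R₃_mem : R₃ ∈ Om κ pts := by
  rw [← D.R₂_n₂]
  exact D.Om_sup D.n₂_mem (pts_sub D.mem₂)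

/-- The points outside `N` are conjugate to `R₃` under `Y = U₁ U₂`. -/
theorem cases {q : Subgroup G} (hq : q ∈ Om κ pts) : q ∈ pts ∨ ∃ y ∈ U₁ ⊔ U₂, rc q y = R₃ := by
  obtain ⟨p, hp, k, hk, rfl⟩ := hq
  rcases D.line k hk with h | ⟨u, hu, h⟩
  · exact Or.inl (h p hp)
  · obtain ⟨p', hp', e⟩ := h p hp
    rcases D.point p' hp' with h1 | ⟨v, hv, h1⟩
    · -- `rc p (k u) = R₁`
      left
      rw [h1] at e
      have e2 : rc p k = rc R₁ u⁻¹ := by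
        rw [← e, rc_rc]; congr 1; group
      rw [e2]
      exact D.Pf_pts _ (D.U₂_le (inv_mem hu)) _ D.mem₁
    · right
      refine ⟨u * v, mul_mem (Subgroup.mem_sup_right hu) (Subgroup.mem_sup_left hv), ?_⟩
      rw [rc_rc, ← mul_assoc, ← rc_rc, e, h1]

theorem Om_n₁ {q : Subgroup G} (hq : q ∈ Om κ pts) : rc q n₁ ∈ Om κ pts := by
  rcases D.cases hq with h | ⟨y, hy, h⟩
  · exact pts_sub (D.n₁_pts q h)
  · -- `rc q n₁ = rc R₃ (y⁻¹ n₁) = rc R₃ (n₁⁻¹ y⁻¹ n₁)`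
    have hY : n₁⁻¹ * y⁻¹ * n₁ ∈ U₁ ⊔ U₂ := by
      have h1 : rc (U₁ ⊔ U₂) n₁ = U₁ ⊔ U₂ := by rw [rc_sup, D.U₁_n₁, D.U₂_n₁, sup_comm]
      have h2 := mem_rc_conj (g := n₁) (inv_mem hy)
      rwa [h1] at h2
    have hYPf : n₁⁻¹ * y⁻¹ * n₁ ∈ Pf := (sup_le D.U₁_le D.U₂_le) hY
    have e : rc q n₁ = rc R₃ (n₁⁻¹ * y⁻¹ * n₁) := by
      have e1 : rc R₃ n₁⁻¹ = R₃ := by
        conv_lhs => rw [← D.R₃_n₁]
        rw [rc_rc, mul_inv_cancel, rc_one]
      rw [mul_assoc, ← rc_rc R₃ n₁⁻¹, e1, ← h, rc_rc]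
      congr 1
      group
    rw [e]
    exact D.Om_Pf hYPf D.R₃_mem

/-- **The plane is invariant under `⟨B, κ, n₁⟩`.** -/
theorem Om_all [Finite G] {g : G} (hg : g ∈ (Pf ⊔ κ) ⊔ zpowers n₁) {q : Subgroup G} (hq : q ∈ Om κ pts) :
    rc q g ∈ Om κ pts := by
  have key : (Pf ⊔ κ) ⊔ zpowers n₁ ≤ StO (Om κ pts) := by
    refine sup_le (sup_le (fun b hb => mem_StO_of_finite fun q hq => D.Om_Pf hb hq)
      (fun b hb => mem_StO_of_finite fun q hq => Om_κ hb hq)) ?_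
    rw [Subgroup.zpowers_le]
    exact mem_StO_of_finite fun q hq => D.Om_n₁ hq
  exact (key hg q).2 hq

/-- **The plane is invariant under `L`.** -/
theorem Om_L [Finite G] {g : G} (hg : g ∈ L) {q : Subgroup G} (hq : q ∈ Om κ pts) : rc q g ∈ Om κ pts :=
  D.Om_all (D.gen hg) hq

/-- the points of the plane contained in `N` -/
theorem mem_pts {q : Subgroup G} (hq : q ∈ Om κ pts) (hN : q ≤ R₁ ⊔ R₂) : q ∈ pts := by
  rcases D.cases hq with h | ⟨y, hy, h⟩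
  · exact h
  · exfalso
    apply D.R₃_not
    rw [← h, ← D.N_Y y hy]
    exact rc_mono hN y

/-- `U₂` is transitive on the points `≠ R₂` of `R₂ R₃` -/
theorem trans₂₃ [Finite G] {q : Subgroup G} (hq : q ∈ Om κ pts) (h : q ≤ R₂ ⊔ R₃)
    (hne : q ≠ R₂) : ∃ y ∈ U₂, rc q y = R₃ := by
  have e1 : rc (R₁ ⊔ R₃) n₁ = R₂ ⊔ R₃ := by rw [rc_sup, D.R₁_n₁, D.R₃_n₁]
  have e2 : rc (R₁ ⊔ R₂) n₂ = R₁ ⊔ R₃ := by rw [rc_sup, D.R₁_n₂, D.R₂_n₂]
  set q1 := rc q n₁⁻¹ with hq1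
  have hq1' : rc q1 n₁ = q := by rw [hq1, rc_rc, inv_mul_cancel, rc_one]
  have h1 : q1 ≤ R₁ ⊔ R₃ := by
    have := rc_mono h n₁⁻¹
    rwa [← e1, rc_rc (R₁ ⊔ R₃), mul_inv_cancel, rc_one] at this
  have hq1m : q1 ∈ Om κ pts := D.Om_all (Subgroup.mem_sup_right (inv_mem (Subgroup.mem_zpowers n₁))) hq
  set q2 := rc q1 n₂⁻¹ with hq2
  have hq2' : rc q2 n₂ = q1 := by rw [hq2, rc_rc, inv_mul_cancel, rc_one]
  have h2 : q2 ≤ R₁ ⊔ R₂ := by
    have := rc_mono h1 n₂⁻¹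
    rwa [← e2, rc_rc (R₁ ⊔ R₂), mul_inv_cancel, rc_one] at this
  have hq2m : q2 ∈ pts := D.mem_pts (D.Om_sup (inv_mem D.n₂_mem) hq1m) h2
  rcases D.point q2 hq2m with h3 | ⟨u, hu, h3⟩
  · exfalso
    apply hne
    rw [hq2'] at h3
    rw [← hq1', h3, D.R₁_n₁]
  · rw [hq2'] at h3
    refine ⟨n₁⁻¹ * u * n₁, ?_, ?_⟩
    · have := mem_rc_conj (g := n₁) hu
      rwa [D.U₁_n₁] at this
    · have e : rc q (n₁⁻¹ * u * n₁) = rc (rc q1 u) n₁ := by
        rw [hq1, rc_rc, rc_rc, mul_assoc]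
      rw [e, h3, D.R₃_n₁]

/-- **The braid relation of length three.** -/
theorem braid [Finite G] {F : Frame G} {C J Bf : Subgroup G} {i : Bool} (hi : F.n i = n₁) (hi' : F.n (!i) = n₂)
    (hL : CenMod L C J) (hJC : J ≤ C) (hJ : J ≤ F.B) (hf : FixPart F Bf)
    (hC : ∀ c ∈ L, Ce R₁ c → Ce R₂ c → Ce R₃ c → c ∈ C) (hn₁ : n₁ ∈ normalizer (L : Set G))
    (hn₂ : n₂ ∈ normalizer (L : Set G)) (hCn : rc C n₂ ≤ C)
    (hU₂B : U₂ ≤ F.B) (hU₂ : ∀ u ∈ U₂, Mv L R₂ R₃ R₁ u) (hsq : rc U₁ (n₂ * n₂) = U₁)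
    (h23 : R₂ ⊓ R₃ = ⊥) (hR₂ : R₂ ≠ ⊥)
    {l : G} (hl : l ∈ ⁅rc U₁ n₂ ⊔ rc U₁ (n₂ * n₁), rc U₁ n₂ ⊔ rc U₁ (n₂ * n₁)⁆) (hb : n₁⁻¹ * l ∈ Bf) :
    F.Braid 3 := by
  -- elations
  have k23 : ∀ g, Mv L R₂ R₃ R₁ g → g ∈ U₂ ⊔ C := by
    intro g hg
    obtain ⟨y, hy, c, hc, c1, c2, c3, rfl⟩ := Mv.mem_mul (Ω := Om κ pts) (fun g hg p hp => D.Om_L hg hp) D.R₃_mem h23
      hR₂ hU₂ (fun p hp h1 h2 => D.trans₂₃ hp h1 h2) hg
    exact mul_mem (Subgroup.mem_sup_right (hC c hc c3 c1 c2)) (Subgroup.mem_sup_left hy)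
  have k32 : ∀ g, Mv L R₃ R₂ R₁ g → g ∈ rc U₂ n₂ ⊔ C := by
    intro g hg
    have h1 := hg.conj (k := n₂⁻¹) (inv_mem hn₂)
    have e1 : rc R₃ n₂⁻¹ = R₂ := by rw [← D.R₂_n₂, rc_rc, mul_inv_cancel, rc_one]
    have e2 : rc R₂ n₂⁻¹ = R₃ := by
      conv_lhs => rw [← D.R₃_n₂]
      rw [rc_rc, mul_inv_cancel, rc_one]
    have e3 : rc R₁ n₂⁻¹ = R₁ := by
      conv_lhs => rw [← D.R₁_n₂]
      rw [rc_rc, mul_inv_cancel, rc_one]
    rw [e1, e2, e3] at h1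
    have h2 := mem_rc_conj (g := n₂) (k23 _ h1)
    have e : n₂⁻¹ * (n₂⁻¹⁻¹ * g * n₂⁻¹) * n₂ = g := by group
    rw [e, rc_sup] at h2
    exact (sup_le_sup_left hCn _ : rc U₂ n₂ ⊔ rc C n₂ ≤ rc U₂ n₂ ⊔ C) h2
  have hU₁ : ∀ u ∈ U₁, Mv L R₁ R₃ R₂ u := by
    intro u hu
    have h1 : n₁⁻¹ * u * n₁ ∈ U₂ := by
      have := mem_rc_conj (g := n₁) hu
      rwa [D.U₁_n₁] at this
    have h2 := (hU₂ _ h1).conj (k := n₁⁻¹) (inv_mem hn₁)
    have e1 : rc R₂ n₁⁻¹ = R₁ := by rw [← D.R₁_n₁, rc_rc, mul_inv_cancel, rc_one]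
    have e2 : rc R₁ n₁⁻¹ = R₂ := by
      conv_lhs => rw [← D.R₂_n₁]
      rw [rc_rc, mul_inv_cancel, rc_one]
    have e3 : rc R₃ n₁⁻¹ = R₃ := by
      conv_lhs => rw [← D.R₃_n₁]
      rw [rc_rc, mul_inv_cancel, rc_one]
    rw [e1, e2, e3] at h2
    have e : n₁⁻¹⁻¹ * (n₁⁻¹ * u * n₁) * n₁⁻¹ = u := by group
    rwa [e] at h2
  have w1 : rc R₁ (n₂ * n₁) = R₂ := by rw [← rc_rc, D.R₁_n₂, D.R₁_n₁]
  have w2 : rc R₂ (n₂ * n₁) = R₃ := by rw [← rc_rc, D.R₂_n₂, D.R₃_n₁]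
  have w3 : rc R₃ (n₂ * n₁) = R₁ := by rw [← rc_rc, D.R₃_n₂, D.R₂_n₁]
  have hU₂L : U₂ ≤ L := fun u hu => (hU₂ u hu).mem
  have hn₂P : n₂ ∈ F.P (!i) := hi' ▸ F.n_mem (!i)
  subst hi hi'
  refine braid_three F hL hJC hJ hf i (D := rc U₁ (F.n (!i)) ⊔ rc U₁ (F.n (!i) * F.n i))
    (D' := U₂ ⊔ rc U₂ (F.n (!i))) ?_ ?_ ?_ hl hb
  · refine sup_le (hU₂B.trans (F.B_le _)) ?_
    intro x hx
    rw [mem_rc] at hx
    have := mul_mem (mul_mem (inv_mem hn₂P) (F.B_le _ (hU₂B hx))) hn₂P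
    have e : (F.n (!i))⁻¹ * (F.n (!i) * x * (F.n (!i))⁻¹) * F.n (!i) = x := by group
    rwa [e] at this
  · refine sup_le hU₂L ?_
    intro x hx
    rw [mem_rc] at hx
    have := (Subgroup.mem_normalizer_iff.1 (inv_mem hn₂) _).1 (hU₂L hx)
    have e : (F.n (!i))⁻¹ * (F.n (!i) * x * (F.n (!i))⁻¹) * (F.n (!i))⁻¹⁻¹ = x := by group
    rwa [e] at this
  · have key : rc U₁ (F.n (!i)) ⊔ rc U₁ (F.n (!i) * F.n i) ≤
        rc ((U₂ ⊔ rc U₂ (F.n (!i))) ⊔ C) (F.n (!i) * F.n i)⁻¹ := by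
      refine sup_le (fun x hx => ?_) (fun x hx => ?_)
      · rw [mem_rc]
        have h1 := mem_rc_conj (g := F.n (!i) * F.n i) hx
        rw [rc_rc, ← mul_assoc, ← rc_rc, hsq, D.U₁_n₁] at h1
        rw [inv_inv]
        exact Subgroup.mem_sup_left (Subgroup.mem_sup_left h1)
      · rw [mem_rc, inv_inv]
        rw [mem_rc] at hx
        have h1 := ((hU₁ _ hx).conj (k := F.n (!i) * F.n i) (mul_mem hn₂ hn₁)).conj
          (k := F.n (!i) * F.n i) (mul_mem hn₂ hn₁)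
        rw [w1, w2, w3, w1] at h1
        have e : (F.n (!i) * F.n i)⁻¹ * ((F.n (!i) * F.n i)⁻¹ * (F.n (!i) * F.n i * x * (F.n (!i) * F.n i)⁻¹) *
          (F.n (!i) * F.n i)) * (F.n (!i) * F.n i) = (F.n (!i) * F.n i)⁻¹ * x * (F.n (!i) * F.n i) := by group
        rw [e] at h1
        have h2 := k32 _ h1
        exact (sup_le_sup_right le_sup_right C) h2
    intro x hx
    have := key hx
    rwa [mem_rc, inv_inv] at this

end Pl

end Cfsg.Agent.Omega.HOne.End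

end

section


/-!
# II.0h1, END: the residue of type C2, and the PATH conditions

`braid_quad`: the braid relation of length four for the residue `Sp4(q)` from the frame `R₁, R₂, R₋₂, R₋₁` of `V / Z`.
`path_three`, `path_four`: the conditions `PathTo k` for `k < 3`, `k < 4`.
-/

set_option autoImplicit false

namespace Cfsg.Agent.Omega.HOne.End

open Subgroup Cfsg.Agent.RankTwoClose
open scoped commutatorElement

variable {G : Type*} [Group G]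

/-! ### PATH -/

section path

variable {F : Frame G}

/-- conjugation by `g` on the left: `x ∈ rc A g` gives `g x g⁻¹ ∈ A` -/
theorem conj_of_rc {A A' : Subgroup G} {g x : G} (h : rc A g = A') (hx : x ∈ A') : g * x * g⁻¹ ∈ A := by
  rw [← h] at hx
  exact hx

/-- **PATH for a residue of type A2** (`a` = the node of `N`). -/
theorem path_three {U₁ U₂ : Subgroup G} (a : Bool)
    (h12 : rc U₁ (F.n a) = U₂) (h21 : rc U₂ (F.n a) = U₁) (hU₁ : U₁ ≤ F.B) (hU₂ : U₂ ≤ F.B)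
    (hn : ∀ x ∈ U₁, F.n (!a) * x * (F.n (!a))⁻¹ ∈ F.B) (hn' : rc U₁ (F.n (!a)) ≤ F.B)
    (t₁ : ∀ b ∈ F.B, ∃ x ∈ rc U₁ (F.n (!a)), ∃ c ∈ F.B, b = x * c ∧ (F.n a)⁻¹ * c * F.n a ∈ F.B)
    (t₂ : ∀ b ∈ F.B, ∃ x ∈ U₂, ∃ c ∈ F.B, b = x * c ∧ (F.n (!a))⁻¹ * c * F.n (!a) ∈ F.B) :
    ∀ k < 3, F.PathTo k := by
  set X : Bool → Set G := fun i => if i = a then (rc U₁ (F.n (!a)) : Set G) else (U₂ : Set G) with hX
  have hXa : X a = (rc U₁ (F.n (!a)) : Set G) := by simp [hX]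
  have hXb : X (!a) = (U₂ : Set G) := by simp [hX]
  have hXt : ∀ i, ∀ b ∈ F.B, ∃ x ∈ X i, ∃ c ∈ F.B, b = x * c ∧ (F.n i)⁻¹ * c * F.n i ∈ F.B := by
    intro i
    rcases Bool.eq_or_eq_not i a with rfl | h
    · rw [hXa]; exact t₁
    · rw [h, hXb]; exact t₂
  intro k hk
  refine F.pathTo_of_root X hXt ?_
  intro i x hx
  interval_cases k
  · rw [nxt_zero] at hx
    have : x ∈ F.B := by
      rcases Bool.eq_or_eq_not i a with rfl | h
      · rw [hXa] at hx; exact hn' hx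
      · rw [h, hXb] at hx; exact hU₂ hx
    simpa using this
  · have e1 : nxt i 1 = !i := by simp [nxt]
    rw [e1] at hx
    rw [alt_one]
    rcases Bool.eq_or_eq_not i a with rfl | h
    · rw [hXb] at hx
      exact hU₁ (conj_of_rc h12 hx)
    · rw [h, Bool.not_not, hXa] at hx
      rw [h]
      exact hU₁ hx
  · have e1 : nxt i 2 = i := by simp [nxt]
    rw [e1] at hx
    have e2 : alt F.n i 2 = F.n i * F.n (!i) := by simp [alt_succ]
    have e3 : alt F.n i 2 * x * (alt F.n i 2)⁻¹ = F.n i * (F.n (!i) * x * (F.n (!i))⁻¹) * (F.n i)⁻¹ := by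
      rw [e2]; group
    rw [e3]
    rcases Bool.eq_or_eq_not i a with rfl | h
    · rw [hXa] at hx
      exact hU₂ (conj_of_rc h21 hx)
    · rw [h, hXb] at hx
      rw [h, Bool.not_not]
      exact hn _ (conj_of_rc h12 hx)

end path

end Cfsg.Agent.Omega.HOne.End

end

end

-- merged: Cfsg.Agent.Mrg.Omega.HOne.EndBase
section

section


/-!
# II.0h1, END: the node of `V` and another node, common part

`Base`: the node of `V` (`P₁ = XX V R ⊔ B`) and a second minimal parabolic subgroup `P₂ ≤ N(R i₁)` which moves `V`.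
`Base.exists_fr`: reflections `n₁`, `n₂` which normalise `H`, and the second point `R i₂` fixed by `H`.
-/

set_option autoImplicit false
set_option linter.unusedSectionVars false

namespace Cfsg.Agent.Omega.HOne.End

open Subgroup Cfsg.Agent.Omega.BTwo Cfsg.Agent.Lib.SL2Mat
open Cfsg.Agent.ParSys (Qk FpfG SepG mem_Qk Qk_le Qk_conj Qk_conj')
open Cfsg.Agent.ParSys.Hall (HallData)
open Cfsg.Agent.ParSys.Hall.HallData (PTr)

variable {G : Type*} [Group G] {ι : Type*}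

theorem rc_eq_cj (A : Subgroup G) (g : G) : rc A g = cj g⁻¹ A := by
  ext x
  rw [mem_rc, mem_cj, inv_inv]

theorem rc_inv_eq_cj (A : Subgroup G) (g : G) : rc A g⁻¹ = cj g A := by rw [rc_eq_cj, inv_inv]

theorem rc_cj (A : Subgroup G) (g : G) : rc (cj g A) g = A := by rw [rc_eq_cj, cj_inv_cj]

theorem cj_eq_iff_rc {A A' : Subgroup G} {g : G} : cj g A = A' ↔ rc A' g = A := by
  rw [rc_eq_cj]
  constructor
  · rintro rfl; rw [cj_inv_cj]
  · rintro rfl; rw [cj_cj_inv]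

/-! ### one panel -/

/-- two `H`-fixed chambers `≠ B` of a panel coincide -/
theorem panel_unique [Finite G] [Fact (Nat.Prime 2)] {B U H P : Subgroup G} (hall : HallData 2 B U H)
    (ptr : PTr B U P) (fix : ∀ c ∈ U, c ∈ centralizer (H : Set G) → c ∈ Qk B P) {g g' : G} (hg : g ∈ P)
    (hgB : g ∉ B) (hg' : g' ∈ P) (hgB' : g' ∉ B)
    (hfix : ∀ a ∈ H, g⁻¹ * a * g ∈ B) (hfix' : ∀ a ∈ H, g'⁻¹ * a * g' ∈ B) : g⁻¹ * g' ∈ B := by
  obtain ⟨u, hu, b, hb, he⟩ := ptr g hg hgB g' hg' hgB'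
  obtain ⟨c, hcU, hcC, hc⟩ := hall.fixed_trans (X := G ⧸ B) ((g : G) : G ⧸ B) ((g' : G) : G ⧸ B) (by
      intro a ha
      change ((a * g : G) : G ⧸ B) = _
      refine (QuotientGroup.eq.mpr ?_).symm
      rw [← mul_assoc]
      exact hfix a ha) (by
      intro a ha
      change ((a * g' : G) : G ⧸ B) = _
      refine (QuotientGroup.eq.mpr ?_).symm
      rw [← mul_assoc]
      exact hfix' a ha) hu (by
      change ((u * g : G) : G ⧸ B) = _
      rw [he]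
      exact (QuotientGroup.mk_mul_of_mem _ hb).symm)
  have h1 : ((c * g : G) : G ⧸ B) = ((g' : G) : G ⧸ B) := hc
  have h2 := QuotientGroup.eq.1 h1
  have h3 := fix c hcU hcC g hg
  have h4 := mul_mem h3 h2
  have e : g⁻¹ * c * g * ((c * g)⁻¹ * g') = g⁻¹ * g' := by group
  rwa [e] at h4

section panel

variable [Finite G] [Fact (Nat.Prime 2)] {B U H P : Subgroup G} (hall : HallData 2 B U H)
    (ptr : PTr B U P) (fix : ∀ c ∈ U, c ∈ centralizer (H : Set G) → c ∈ Qk B P) (hle : B ≤ P)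
    {n : G} (hn : n ∈ P) (hnB : n ∉ B) (hnH : n ∈ normalizer (H : Set G))

include hall ptr fix hle hn hnB hnH

theorem sq_mem_of_norm : n * n ∈ B := by
  have h1 : ∀ a ∈ H, n⁻¹ * a * n ∈ B := fun a ha => hall.H_le (conj_inv_mem_of_normalizer hnH ha)
  have h2 : ∀ a ∈ H, n⁻¹⁻¹ * a * n⁻¹ ∈ B := fun a ha => hall.H_le (by
    rw [inv_inv]
    exact conj_mem_of_normalizer hnH ha)
  have h3 : n⁻¹ ∉ B := fun h => hnB (by simpa using inv_mem h)
  have := inv_mem (panel_unique hall ptr fix hn hnB (inv_mem hn) h3 h1 h2)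
  simpa using this

end panel

/-- every chamber `≠ B` of a panel is `U`-conjugate to one fixed by `H`; the representative is changed by `U` only -/
theorem exists_n_of [Finite G] [Fact (Nat.Prime 2)] {B U H P : Subgroup G} (D : HallData 2 B U H) (hBP : B ≤ P)
    (htr : PTr B U P) {g : G} (hgP : g ∈ P) (hgB : g ∉ B) :
    ∃ u ∈ U, ∃ w ∈ U, u * g * w ∈ normalizer (H : Set G) := by
  obtain ⟨u, hu, hfix⟩ := D.exists_fixed (X := G ⧸ B) ((g : G) : G ⧸ B) (by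
    intro a ha
    have haB := D.H_le ha
    obtain ⟨v, hv, b, hb, hvb⟩ := htr g hgP hgB (a * g) (P.mul_mem (hBP haB) hgP)
      (fun h => hgB (by simpa using B.mul_mem (B.inv_mem haB) h))
    refine ⟨v, hv, ?_⟩
    change ((a * g : G) : G ⧸ B) = ((v * g : G) : G ⧸ B)
    rw [hvb]
    exact QuotientGroup.mk_mul_of_mem _ hb)
  have hHB : ∀ a ∈ H, (u * g)⁻¹ * a * (u * g) ∈ B := by
    intro a ha
    have h1 : ((a * (u * g) : G) : G ⧸ B) = ((u * g : G) : G ⧸ B) := hfix a ha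
    have h2 := QuotientGroup.eq.mp h1.symm
    rwa [← mul_assoc] at h2
  obtain ⟨w, hw, e⟩ := D.conj (K := cj (u * g)⁻¹ H) (by
      rintro _ ⟨a, ha, rfl⟩
      have := hHB a ha
      change (u * g)⁻¹ * a * (u * g)⁻¹⁻¹ ∈ B
      rwa [inv_inv]) (card_cj _ _)
  refine ⟨u, hu, w, hw, ?_⟩
  rw [← cj_eq_self_iff, cj_mul]
  have e' : cj w H = cj (u * g)⁻¹ H := by
    rw [← e]; rfl
  rw [e', cj_cj_inv]

/-- **The node of `V` and a second node `P₂ ≤ N(R i₁)`.** -/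
structure Base (F : Type*) [Field F] (V : Subgroup G) (R : ι → Subgroup G) (U B H P₂ : Subgroup G) (i₁ : ι) :
    Prop where
  bt : BT V R
  nod : Nod V R U B i₁
  hall : HallData 2 B U H
  sup : U ⊔ H = B
  U_UU : ∀ i, UU V R i ≤ U
  le₂ : B ≤ P₂
  three₂ : ∃ x ∈ P₂, ∃ y ∈ P₂, x ∉ B ∧ y ∉ B ∧ x⁻¹ * y ∉ B
  ptr₂ : PTr B U P₂
  reg₂ : ∀ u ∈ U, ∀ g ∈ P₂, g ∉ B → g⁻¹ * u * g ∈ B → u ∈ Qk B P₂
  fix₂ : ∀ c ∈ U, c ∈ centralizer (H : Set G) → c ∈ Qk B P₂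
  P₂_R : P₂ ≤ normalizer (R i₁ : Set G)
  NV₂ : P₂ ⊓ normalizer (V : Set G) ≤ B
  coord : ∀ j, i₁ ≠ j → ∃ (v : F → F → G) (w1 w2 : F → G), Coord V R i₁ j v w1 w2
  big : ∃ a : F, a ≠ 0 ∧ a ≠ 1

namespace Base

variable {F : Type*} [Field F] {V : Subgroup G} {R : ι → Subgroup G} {U B H P₂ : Subgroup G} {i₁ : ι}
  (D : Base F V R U B H P₂ i₁)
include D

/-- 2-elements of `B` lie in `U` -/
theorem mem_U [Finite G] [Fact (Nat.Prime 2)] {x : G} (hx : x ∈ B) (h2 : ∃ k, x ^ 2 ^ k = 1) : x ∈ U := by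
  obtain ⟨k, hk⟩ := h2
  exact D.hall.pgroup_le_of_le_sup (D.sup.symm ▸ hx) hk

theorem two_elt [Finite G] [Fact (Nat.Prime 2)] {u g : G} (hu : u ∈ U) (h : g⁻¹ * u * g ∈ B) : g⁻¹ * u * g ∈ U := by
  refine D.mem_U h ?_
  obtain ⟨k, hk⟩ := D.hall.U_pgroup ⟨u, hu⟩
  refine ⟨k, ?_⟩
  have hk' : u ^ 2 ^ k = 1 := by simpa only [_root_.SubmonoidClass.mk_pow, _root_.OneMemClass.coe_one] using congrArg Subtype.val hk
  have e : g⁻¹ * u * g = MulAut.conj g⁻¹ u := by rw [MulAut.conj_apply, inv_inv]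
  rw [e, ← map_pow, hk', map_one]

theorem ptr₁ : PTr B U (XX V R ⊔ B) := D.nod.ptr D.bt

/-- every element of `B` is `u h` -/
theorem exists_uh [Finite G] [Fact (Nat.Prime 2)] {b : G} (hb : b ∈ B) : ∃ u ∈ U, ∃ h ∈ H, b = u * h := by
  rw [← D.sup, sup_comm] at hb
  obtain ⟨u, hu, h, hh, rfl⟩ := Solvable.Glauberman.exists_mul_of_mem_sup H U D.hall.H_norm_U hb
  exact ⟨u, hu, h, hh, rfl⟩

/-- an element of `B` which fixes two points acts on `V` as an element of `H` -/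
theorem exists_h [Finite G] [Fact (Nat.Prime 2)] {i₂ : ι} (h12 : i₁ ≠ i₂) (hH : H ≤ normalizer (R i₂ : Set G)) {b : G} (hb : b ∈ B)
    (hb2 : cj b (R i₂) = R i₂) : ∃ u ∈ U, u ∈ centralizer (V : Set G) ∧ ∃ h ∈ H, b = u * h := by
  obtain ⟨u, hu, h, hh, rfl⟩ := D.exists_uh hb
  refine ⟨u, hu, ?_, h, hh, rfl⟩
  refine D.nod.cen_of_fix D.bt hu h12.symm ?_
  rw [cj_mul, cj_eq_self_iff.2 (hH hh)] at hb2
  exact hb2

/-- the second point fixed by `H`, before the choice of the coordinates -/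
theorem exists_fixed [Finite G] [Fact (Nat.Prime 2)] :
    ∃ i₂, i₁ ≠ i₂ ∧ H ≤ normalizer (R i₂ : Set G) := by
  obtain ⟨x, hx, -, -, hxB, -, -⟩ := D.nod.three D.bt
  obtain ⟨n, hn, hnB, hnH⟩ := D.hall.exists_n (P := XX V R ⊔ B) le_sup_right ⟨x, hx, hxB⟩ D.ptr₁
  obtain ⟨k, hk⟩ := D.nod.exists_k D.bt hn
  refine ⟨k, ?_, ?_⟩
  · rintro rfl
    exact hnB ((D.nod.mem_B_iff D.bt hn).2 hk)
  · intro h hh
    rw [← cj_eq_self_iff, ← hk, ← cj_mul]
    have h1 := conj_inv_mem_of_normalizer hnH hh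
    have h2 := cj_eq_self_iff.2 (D.nod.B_R (D.hall.H_le h1))
    have e : h * n = n * (n⁻¹ * h * n) := by group
    rw [e, cj_mul, h2]

/-- a torus element: `h ∈ H` acts on `V` as `diag(a, a⁻¹)` -/
theorem exists_tor [Finite G] [Fact (Nat.Prime 2)] [CharP F 2] {i₂ : ι} (h12 : i₁ ≠ i₂)
    (hH : H ≤ normalizer (R i₂ : Set G)) {v : F → F → G} {w1 w2 : F → G} (c : Coord V R i₁ i₂ v w1 w2)
    {a : F} (ha : a ≠ 0) : ∃ h ∈ H, (∀ x y, h * v x y * h⁻¹ = v (a * x) (a⁻¹ * y)) ∧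
      ∃ u ∈ U, u ∈ centralizer (V : Set G) ∧ hh w1 w2 a = u * h := by
  have h1 : hh w1 w2 a ∈ B := D.nod.X_B ⟨c.hh_mem_X D.bt a, cj_eq_self_iff.1 (c.hh_R1 D.bt ha)⟩
  obtain ⟨u, hu, hc, h, hh', e⟩ := D.exists_h h12 hH h1 (c.hh_R2 D.bt ha)
  refine ⟨h, hh', fun x y => ?_, u, hu, hc, e⟩
  rw [← c.hh_act ha x y, e]
  have h2 := mem_centralizer_iff.1 hc _ (c.v_mem (a * x) (a⁻¹ * y))
  have e2 : u * h * v x y * (u * h)⁻¹ = u * (h * v x y * h⁻¹) * u⁻¹ := by group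
  rw [e2]
  have h3 : h * v x y * h⁻¹ ∈ V := conj_mem_of_normalizer (D.nod.B_V (D.hall.H_le hh')) (c.v_mem x y)
  rw [← mem_centralizer_iff.1 hc _ h3, mul_inv_cancel_right]

/-- an element with two different eigenvalues fixes only two points -/
theorem fix_two' {i₂ : ι} (h12 : i₁ ≠ i₂) {v : F → F → G} {w1 w2 : F → G}
    (c : Coord V R i₁ i₂ v w1 w2) {a s : F} (ha1 : a ≠ s) {h : G}
    (hact : ∀ x y, h * v x y * h⁻¹ = v (a * x) (s * y)) (k : ι) (hk : cj h (R k) = R k) : k = i₁ ∨ k = i₂ := by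
  by_contra hc
  push Not at hc
  obtain ⟨h1, h2⟩ := hc
  obtain ⟨w, hw, e⟩ := D.bt.trans i₁ (Ne.symm h12) h1
  obtain ⟨d, hd⟩ := c.W1_act w hw
  -- `R k = {v (d y) y}`
  have h3 : w * v 0 1 * w⁻¹ ∈ R k := by
    rw [← e]; exact conj_mem_cj ((c.mem_R2 _).2 ⟨1, rfl⟩)
  rw [hd, zero_add, mul_one] at h3
  have h4 : h * v d 1 * h⁻¹ ∈ R k := by
    rw [← hk]; exact conj_mem_cj h3
  rw [hact, mul_one] at h4
  -- also `w v 0 s w⁻¹ ∈ R k`
  have h5 : w * v 0 s * w⁻¹ ∈ R k := by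
    rw [← e]; exact conj_mem_cj ((c.mem_R2 _).2 ⟨_, rfl⟩)
  rw [hd, zero_add] at h5
  have h6 : v (a * d - d * s) 0 ∈ R k := by
    have h7 := mul_mem h4 (inv_mem h5)
    have h8 := c.v_add (a * d - d * s) 0 (d * s) s
    rw [sub_add_cancel, zero_add] at h8
    rwa [h8, mul_inv_cancel_right] at h7
  have h9 := D.bt.eq_one h1 h6 ((c.mem_R1 _).2 ⟨_, rfl⟩)
  have h10 := (c.v_one _ _ h9).1
  have h11 : d ≠ 0 := by
    rintro rfl
    apply h2
    have h12' : v 0 1 = 1 := by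
      refine D.bt.eq_one h2 h3 ((c.mem_R2 _).2 ⟨_, rfl⟩)
    exact absurd (c.v_one _ _ h12').2 one_ne_zero
  have h13 : (a - s) * d = 0 := by rw [← h10]; ring
  rcases mul_eq_zero.1 h13 with h14 | h14
  · exact ha1 (sub_eq_zero.1 h14)
  · exact absurd h14 h11

/-- a torus element `≠ 1` fixes only two points -/
theorem fix_two [CharP F 2] {i₂ : ι} (h12 : i₁ ≠ i₂) {v : F → F → G} {w1 w2 : F → G}
    (c : Coord V R i₁ i₂ v w1 w2) {a : F} (ha : a ≠ 0) (ha1 : a ≠ 1) {h : G}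
    (hact : ∀ x y, h * v x y * h⁻¹ = v (a * x) (a⁻¹ * y)) (k : ι) (hk : cj h (R k) = R k) : k = i₁ ∨ k = i₂ := by
  refine D.fix_two' h12 c ?_ hact k hk
  intro h14
  apply ha1
  have h15 : a * a = 1 := by
    nth_rw 2 [h14]
    exact mul_inv_cancel₀ ha
  have h16 : (a - 1) * (a - 1) = 0 := by
    have h17 : (2 : F) = 0 := by exact_mod_cast CharP.cast_eq_zero F 2
    have : (a - 1) * (a - 1) = a * a - 1 + 2 * (1 - a) := by ring
    rw [this, h15, h17]; ring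
  exact sub_eq_zero.1 (mul_self_eq_zero.1 h16)

/-- `C_U(H)` acts trivially on the panel of `V` -/
theorem fix₁ [Finite G] [Fact (Nat.Prime 2)] [CharP F 2] :
    ∀ c ∈ U, c ∈ centralizer (H : Set G) → c ∈ Qk B (XX V R ⊔ B) := by
  obtain ⟨i₂, h12, hH⟩ := D.exists_fixed
  obtain ⟨v, w1, w2, c⟩ := D.coord i₂ h12
  obtain ⟨a, ha, ha1⟩ := D.big
  obtain ⟨h, hh', hact, -⟩ := D.exists_tor h12 hH c ha
  intro x hx hxC
  refine D.nod.fpf_of D.bt h12 (cj_eq_self_iff.2 (hH hh')) (fun k hk => D.fix_two h12 c ha ha1 hact k hk) x hx ?_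
  have : h * x * h⁻¹ * x⁻¹ = 1 := by
    rw [mem_centralizer_iff.1 hxC h hh']; group
  rw [this]
  exact one_mem _

/-- `H` fixes only two points -/
theorem fixed_unique [Finite G] [Fact (Nat.Prime 2)] [CharP F 2] {k l : ι} (hk : i₁ ≠ k) (hl : i₁ ≠ l)
    (hHk : H ≤ normalizer (R k : Set G)) (hHl : H ≤ normalizer (R l : Set G)) : k = l := by
  obtain ⟨x, hx, ex⟩ := D.bt.trans_X_one i₁ k
  obtain ⟨y, hy, ey⟩ := D.bt.trans_X_one i₁ l
  have hx' : x ∈ XX V R ⊔ B := mem_sup_left hx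
  have hy' : y ∈ XX V R ⊔ B := mem_sup_left hy
  have key : ∀ {z : G} {m : ι}, z ∈ XX V R ⊔ B → cj z (R i₁) = R m → H ≤ normalizer (R m : Set G) →
      ∀ a ∈ H, z⁻¹ * a * z ∈ B := by
    intro z m hz ez hm a ha
    have haP : a ∈ XX V R ⊔ B := mem_sup_right (D.hall.H_le ha)
    rw [D.nod.mem_B_iff D.bt (mul_mem (mul_mem (inv_mem hz) haP) hz), cj_mul, cj_mul, ez,
      cj_eq_self_iff.2 (hm ha), ← ez, cj_inv_cj]
  have hxB : x ∉ B := fun h => hk (D.bt.R_index (((D.nod.mem_B_iff D.bt hx').1 h).symm.trans ex))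
  have hyB : y ∉ B := fun h => hl (D.bt.R_index (((D.nod.mem_B_iff D.bt hy').1 h).symm.trans ey))
  have h1 := panel_unique D.hall D.ptr₁ D.fix₁ hx' hxB hy' hyB (key hx' ex hHk) (key hy' ey hHl)
  rw [D.nod.coset D.bt hx' hy', ex, ey] at h1
  exact D.bt.R_index h1

end Base

/-- The reflections. -/
structure Fr (V : Subgroup G) (R : ι → Subgroup G) (U B H P₂ : Subgroup G) (i₁ i₂ : ι) (n₁ n₂ : G) : Prop where
  ne : i₁ ≠ i₂
  H_R : H ≤ normalizer (R i₂ : Set G)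
  n₁_mem : n₁ ∈ XX V R ⊔ B
  n₁_XU : n₁ ∈ XX V R ⊔ U
  n₁_not : n₁ ∉ B
  n₁_H : n₁ ∈ normalizer (H : Set G)
  n₂_mem : n₂ ∈ P₂
  n₂_not : n₂ ∉ B
  n₂_H : n₂ ∈ normalizer (H : Set G)
  /-- `n₁` interchanges the two points -/
  n₁_1 : rc (R i₁) n₁ = R i₂
  n₁_2 : rc (R i₂) n₁ = R i₁

namespace Base

variable {F : Type*} [Field F] {V : Subgroup G} {R : ι → Subgroup G} {U B H P₂ : Subgroup G} {i₁ : ι}
  (D : Base F V R U B H P₂ i₁) [Finite G] [Fact (Nat.Prime 2)] [CharP F 2]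
include D

/-- the reflections; `n₂` can be chosen in any coset `U g U` -/
theorem exists_fr_of {y : G} (hy : y ∈ P₂) (hyB : y ∉ B) :
    ∃ i₂ n₁ n₂, Fr V R U B H P₂ i₁ i₂ n₁ n₂ ∧ ∃ u ∈ U, ∃ w ∈ U, n₂ = u * y * w := by
  obtain ⟨m, hm, -⟩ := D.bt.third i₁ i₁
  obtain ⟨x, hx, ex⟩ := D.bt.trans_X_one i₁ m
  have hxP : x ∈ XX V R ⊔ B := mem_sup_left hx
  have hxB : x ∉ B := fun h => hm (D.bt.R_index (ex.symm.trans ((D.nod.mem_B_iff D.bt hxP).1 h)))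
  obtain ⟨u, hu, w, hw, hn₁H⟩ := exists_n_of D.hall le_sup_right D.ptr₁ hxP hxB
  obtain ⟨u', hu', w', hw', hn₂H⟩ := exists_n_of D.hall D.le₂ D.ptr₂ hy hyB
  have hUB := D.nod.U_le
  set n₁ := u * x * w with hn₁def
  have hn₁ : n₁ ∈ XX V R ⊔ B := mul_mem (mul_mem (mem_sup_right (hUB hu)) hxP) (mem_sup_right (hUB hw))
  have hn₁U : n₁ ∈ XX V R ⊔ U := mul_mem (mul_mem (mem_sup_right hu) (mem_sup_left hx)) (mem_sup_right hw)
  have hn₁B : n₁ ∉ B := fun h => hxB (by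
    have := mul_mem (mul_mem (inv_mem (hUB hu)) h) (inv_mem (hUB hw))
    have e : u⁻¹ * n₁ * w⁻¹ = x := by rw [hn₁def]; group
    rwa [e] at this)
  have hn₂ : u' * y * w' ∈ P₂ := mul_mem (mul_mem (D.le₂ (hUB hu')) hy) (D.le₂ (hUB hw'))
  have hn₂B : u' * y * w' ∉ B := fun h => hyB (by
    have := mul_mem (mul_mem (inv_mem (hUB hu')) h) (inv_mem (hUB hw'))
    have e : u'⁻¹ * (u' * y * w') * w'⁻¹ = y := by group
    rwa [e] at this)
  have key : ∀ {n : G} {k : ι}, n ∈ XX V R ⊔ B → n ∉ B → n ∈ normalizer (H : Set G) → cj n (R i₁) = R k →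
      i₁ ≠ k ∧ H ≤ normalizer (R k : Set G) := by
    intro n k hn hnB hnH hk
    refine ⟨?_, ?_⟩
    · rintro rfl
      exact hnB ((D.nod.mem_B_iff D.bt hn).2 hk)
    · intro h hh
      rw [← cj_eq_self_iff, ← hk, ← cj_mul]
      have h1 := conj_inv_mem_of_normalizer hnH hh
      have h2 := cj_eq_self_iff.2 (D.nod.B_R (D.hall.H_le h1))
      have e : h * n = n * (n⁻¹ * h * n) := by group
      rw [e, cj_mul, h2]
  obtain ⟨k, hk⟩ := D.nod.exists_k D.bt hn₁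
  obtain ⟨l, hl⟩ := D.nod.exists_k D.bt (inv_mem hn₁)
  obtain ⟨k1, k2⟩ := key hn₁ hn₁B hn₁H hk
  obtain ⟨l1, l2⟩ := key (inv_mem hn₁) (fun h => hn₁B (by simpa using inv_mem h)) (inv_mem hn₁H) hl
  have hkl := D.fixed_unique k1 l1 k2 l2
  subst hkl
  refine ⟨k, n₁, u' * y * w', ⟨k1, k2, hn₁, hn₁U, hn₁B, hn₁H, hn₂, hn₂B, hn₂H, ?_, ?_⟩, u', hu', w', hw', rfl⟩
  · rw [rc_eq_cj, hl]
  · rw [← hk, rc_cj]

theorem exists_fr : ∃ i₂ n₁ n₂, Fr V R U B H P₂ i₁ i₂ n₁ n₂ := by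
  obtain ⟨y, hy, -, -, hyB, -, -⟩ := D.three₂
  obtain ⟨i₂, n₁, n₂, E, -⟩ := D.exists_fr_of hy hyB
  exact ⟨i₂, n₁, n₂, E⟩

variable {i₂ : ι} {n₁ n₂ : G} (E : Fr V R U B H P₂ i₁ i₂ n₁ n₂)
include E

theorem n₂_sq : n₂ * n₂ ∈ B := sq_mem_of_norm D.hall D.ptr₂ D.fix₂ D.le₂ E.n₂_mem E.n₂_not E.n₂_H

/-- an element of `B` normalising `H` fixes `R i₂` -/
theorem norm_R₂ {c : G} (hc : c ∈ B) (hcH : c ∈ normalizer (H : Set G)) : cj c (R i₂) = R i₂ := by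
  obtain ⟨k, hk⟩ := D.bt.perm c (D.nod.B_V hc) i₂
  have h1 : i₁ ≠ k := by
    rintro rfl
    have h2 := cj_eq_self_iff.2 (D.nod.B_R hc)
    exact E.ne (D.bt.R_index (cj_injective (h2.trans hk.symm)))
  have h2 : H ≤ normalizer (R k : Set G) := by
    intro h hh
    rw [← cj_eq_self_iff, ← hk, ← cj_mul]
    have h3 := conj_inv_mem_of_normalizer hcH hh
    have h4 := cj_eq_self_iff.2 (E.H_R h3)
    have e : h * c = c * (c⁻¹ * h * c) := by group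
    rw [e, cj_mul, h4]
  rw [hk, D.fixed_unique h1 E.ne h2 E.H_R]

theorem n₂_R : rc (R i₁) n₂ = R i₁ := rc_eq_of_mem_normalizer (D.P₂_R E.n₂_mem)

theorem n₁_V : n₁ ∈ normalizer (V : Set G) := D.nod.P_V D.bt E.n₁_mem

theorem V_eq : V = R i₁ ⊔ R i₂ := (D.bt.R_sup i₁ i₂ E.ne).symm

theorem n₁_2' : rc (R i₂) n₁⁻¹ = R i₁ := by
  rw [← E.n₁_1, rc_rc, mul_inv_cancel, rc_one]

theorem U₁_n₁ : rc (UU V R i₁) n₁ = UU V R i₂ := by
  rw [rc_eq_cj]
  refine D.bt.cj_UU (inv_mem (D.n₁_V E)) ?_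
  rw [← rc_eq_cj, E.n₁_1]

theorem U₂_n₁ : rc (UU V R i₂) n₁ = UU V R i₁ := by
  rw [rc_eq_cj]
  refine D.bt.cj_UU (inv_mem (D.n₁_V E)) ?_
  rw [← rc_eq_cj, E.n₁_2]

theorem W₁_n₁ : rc (WW V (R i₁)) n₁ = WW V (R i₂) := by
  rw [rc_eq_cj]
  refine D.bt.cj_WW ?_
  rw [← rc_eq_cj, E.n₁_1]

theorem W₁_n₂ : rc (WW V (R i₁)) n₂ = WW V (R i₁) :=
  rc_eq_of_mem_normalizer (normalizer_le_WW V (R i₁) (D.P₂_R E.n₂_mem))

/-- `H` normalises `U₁` -/
theorem B_U₁ : B ≤ normalizer (UU V R i₁ : Set G) := by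
  intro x hx
  rw [← cj_eq_self_iff]
  exact D.bt.cj_UU (D.nod.B_V hx) (cj_eq_self_iff.2 (D.nod.B_R hx))

theorem U₁_sq : rc (UU V R i₁) (n₂ * n₂) = UU V R i₁ :=
  rc_eq_of_mem_normalizer (D.B_U₁ E (D.n₂_sq E))

theorem U₁_n₂_le : rc (UU V R i₁) n₂ ≤ WW V (R i₁) := by
  rw [← D.W₁_n₂ E]
  exact rc_mono (UU_le_WW i₁) n₂

/-- `H` normalises `U₁^n₂` -/
theorem H_U₁ {h : G} (hh : h ∈ H) : rc (rc (UU V R i₁) n₂) h = rc (UU V R i₁) n₂ := by
  have h1 : n₂ * h * n₂⁻¹ ∈ H := conj_mem_of_normalizer E.n₂_H hh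
  have h2 := rc_eq_of_mem_normalizer (D.B_U₁ E (D.hall.H_le h1))
  have e : n₂ * h = (n₂ * h * n₂⁻¹) * n₂ := by group
  rw [rc_rc, e, ← rc_rc, h2]

/-- `U₁` and its conjugate generate `W₁` -/
theorem cover₁ [Finite F] (hU : ¬ rc (UU V R i₁) n₂ ≤ centralizer (V : Set G)) {w : G}
    (hw : w ∈ WW V (R i₁)) : ∃ x ∈ rc (UU V R i₁) n₂, x⁻¹ * w ∈ UU V R i₁ := by
  obtain ⟨v, w1, w2, c⟩ := D.coord i₂ E.ne
  obtain ⟨x, hx, hxV⟩ := Set.not_subset.1 hU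
  have hxV : x ∉ centralizer (V : Set G) := hxV
  have hxW := D.U₁_n₂_le E hx
  obtain ⟨a, ha⟩ := c.W1_act x hxW
  obtain ⟨d, hd⟩ := c.W1_act w hw
  have ha0 : a ≠ 0 := by
    rintro rfl
    apply hxV
    rw [mem_centralizer_iff]
    intro y hy
    obtain ⟨p, q, rfl⟩ := (c.mem_V y).1 hy
    have := ha p q
    rw [zero_mul, add_zero, mul_inv_eq_iff_eq_mul] at this
    exact this.symm
  by_cases hd0 : d = 0
  · refine ⟨1, one_mem _, ?_⟩
    rw [inv_one, one_mul]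
    refine mem_inf.2 ⟨hw, ?_⟩
    rw [mem_centralizer_iff]
    intro y hy
    obtain ⟨p, q, rfl⟩ := (c.mem_V y).1 hy
    have := hd p q
    rw [hd0, zero_mul, add_zero, mul_inv_eq_iff_eq_mul] at this
    exact this.symm
  -- `s² a = d`
  obtain ⟨s, hs⟩ := FiniteField.isSquare_of_char_two (F := F) (ringChar.eq F 2) (d / a)
  have hs' : s * s * a = d := by rw [← hs]; field_simp
  have hs0 : s ≠ 0 := by
    rintro rfl
    apply hd0
    rw [← hs', zero_mul, zero_mul]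
  obtain ⟨h, hh', hact, -⟩ := D.exists_tor E.ne E.H_R c hs0
  have h1 : h * x * h⁻¹ ∈ rc (UU V R i₁) n₂ := by
    have h2 := D.H_U₁ E (inv_mem hh')
    rw [← h2, mem_rc]
    have e : h⁻¹ * (h * x * h⁻¹) * h⁻¹⁻¹ = x := by group
    rwa [e]
  have hactinv : ∀ p q, h⁻¹ * v p q * h = v (s⁻¹ * p) (s * q) := by
    intro p q
    have h2 := hact (s⁻¹ * p) (s * q)
    rw [← mul_assoc, ← mul_assoc, mul_inv_cancel₀ hs0, inv_mul_cancel₀ hs0, one_mul, one_mul] at h2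
    rw [← h2]; group
  refine ⟨_, h1, ?_⟩
  refine mem_inf.2 ⟨mul_mem (inv_mem (D.U₁_n₂_le E h1)) hw, ?_⟩
  -- the action of `h x h⁻¹` is that of `w`
  have h2 : ∀ p q, h * x * h⁻¹ * v p q * (h * x * h⁻¹)⁻¹ = v (p + d * q) q := by
    intro p q
    have e : h * x * h⁻¹ * v p q * (h * x * h⁻¹)⁻¹ = h * (x * (h⁻¹ * v p q * h) * x⁻¹) * h⁻¹ := by group
    rw [e, hactinv, ha, hact]
    congr 1
    · rw [mul_add, ← mul_assoc, mul_inv_cancel₀ hs0, one_mul, ← hs']; ring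
    · rw [← mul_assoc, inv_mul_cancel₀ hs0, one_mul]
  rw [mem_centralizer_iff]
  intro y hy
  obtain ⟨p, q, rfl⟩ := (c.mem_V y).1 hy
  have h3 : w * v p q * w⁻¹ = h * x * h⁻¹ * v p q * (h * x * h⁻¹)⁻¹ := by rw [hd, h2]
  generalize h * x * h⁻¹ = z at h3
  have h4 : z⁻¹ * w * v p q = v p q * (z⁻¹ * w) := by
    have h5 : w * v p q = z * v p q * z⁻¹ * w := by rw [← h3]; group
    calc z⁻¹ * w * v p q = z⁻¹ * (w * v p q) := by group
      _ = z⁻¹ * (z * v p q * z⁻¹ * w) := by rw [h5]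
      _ = v p q * (z⁻¹ * w) := by group
  exact h4.symm

/-- `U = U₁^n₂ C_U(V)` -/
theorem cover_U [Finite F] (hU : ¬ rc (UU V R i₁) n₂ ≤ centralizer (V : Set G)) {u : G} (hu : u ∈ U) :
    ∃ x ∈ rc (UU V R i₁) n₂, x⁻¹ * u ∈ U ∧ x⁻¹ * u ∈ centralizer (V : Set G) := by
  obtain ⟨k, hk⟩ := D.bt.perm u (D.nod.B_V (D.nod.U_le hu)) i₂
  have hk1 : k ≠ i₁ := by
    rintro rfl
    have h2 := cj_eq_self_iff.2 (D.nod.B_R (D.nod.U_le hu))
    exact E.ne (D.bt.R_index (cj_injective (h2.trans hk.symm)))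
  obtain ⟨w, hw, e⟩ := D.bt.trans i₁ (Ne.symm E.ne) hk1
  obtain ⟨x, hx, hxw⟩ := D.cover₁ E hU hw
  have hxU : x ∈ U := D.nod.W_le (D.U₁_n₂_le E hx)
  refine ⟨x, hx, mul_mem (inv_mem hxU) hu, ?_⟩
  have h1 : w⁻¹ * u ∈ U := mul_mem (inv_mem (D.nod.W_le hw)) hu
  have h2 : w⁻¹ * u ∈ centralizer (V : Set G) := by
    refine D.nod.cen_of_fix D.bt h1 (Ne.symm E.ne) ?_
    rw [cj_mul, hk, ← e, cj_inv_cj]
  have := mul_mem (UU_le_cen i₁ hxw) h2
  have e : x⁻¹ * w * (w⁻¹ * u) = x⁻¹ * u := by group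
  rwa [e] at this

end Base

end Cfsg.Agent.Omega.HOne.End

end

section


/-!
# II.0h1, END: the pair (node of `V`, node `j`), residue of type A2

`PairA`: `M` is a subgroup of order `q³` of `D`, invariant under both minimal parabolic subgroups, `V` and its
conjugates under `P₂` are its lines through `R i₁`.
-/

set_option autoImplicit false
set_option linter.unusedSectionVars false

namespace Cfsg.Agent.Omega.HOne.End

open Subgroup Cfsg.Agent.Omega.BTwo Cfsg.Agent.RankTwoClose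
open Cfsg.Agent.ParSys (Qk FpfG SepG Polygon mem_Qk Qk_le Qk_conj Qk_conj')
open Cfsg.Agent.ParSys.Hall (HallData)
open Cfsg.Agent.ParSys.Hall.HallData (PTr)
open scoped commutatorElement

variable {G : Type*} [Group G] {ι : Type*}

/-- the elements `m` of `N(Z)` with `[q, m] ∈ Z` -/
def CZ (q : G) (Z : Subgroup G) : Subgroup G where
  carrier := {m | m ∈ normalizer (Z : Set G) ∧ q * m * q⁻¹ * m⁻¹ ∈ Z}
  one_mem' := ⟨one_mem _, by
    have : q * 1 * q⁻¹ * 1⁻¹ = 1 := by group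
    rw [this]; exact one_mem _⟩
  mul_mem' := by
    rintro a b ⟨ha, ha'⟩ ⟨hb, hb'⟩
    refine ⟨mul_mem ha hb, ?_⟩
    have h1 := mul_mem ha' (BTwo.conj_mem_of_normalizer ha hb')
    have e : q * a * q⁻¹ * a⁻¹ * (a * (q * b * q⁻¹ * b⁻¹) * a⁻¹) = q * (a * b) * q⁻¹ * (a * b)⁻¹ := by group
    rwa [e] at h1
  inv_mem' := by
    rintro a ⟨ha, ha'⟩
    refine ⟨inv_mem ha, ?_⟩
    have h1 := conj_inv_mem_of_normalizer ha (inv_mem ha')
    have e : a⁻¹ * (q * a * q⁻¹ * a⁻¹)⁻¹ * a = q * a⁻¹ * q⁻¹ * a⁻¹⁻¹ := by group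
    rwa [e] at h1

/-- **The pair (node of `V`, node `j`), residue of type A2.** -/
structure PairA (F : Type*) [Field F] (V : Subgroup G) (R : ι → Subgroup G) (U B H P₂ M : Subgroup G)
    (i₁ : ι) : Prop extends Base F V R U B H P₂ i₁ where
  V_M : V ≤ M
  M_D : M ≤ DD V R
  P₂_M : P₂ ≤ normalizer (M : Set G)
  /-- the conjugates of `V` are the lines of `M` through `R i₁` -/
  span : ∀ k ∈ P₂, k ∉ B → M ≤ V ⊔ cj k V
  meet : ∀ k ∈ P₂, k ∉ B → V ⊓ cj k V ≤ R i₁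
  U₁_M : ¬ UU V R i₁ ≤ centralizer (M : Set G)
  /-- `Y` is transitive on the lines `≠ V` -/
  cov₂ : ∀ u ∈ U, ∃ x ∈ YY V R, x⁻¹ * u ∈ Qk B P₂

/-- the normaliser condition of `Base` -/
theorem NV₂_of {V : Subgroup G} {R : ι → Subgroup G} {B P₂ M : Subgroup G} {i₁ : ι} (b : BT V R)
    (span : ∀ k ∈ P₂, k ∉ B → M ≤ V ⊔ cj k V) (U₁_M : ¬ UU V R i₁ ≤ centralizer (M : Set G)) :
    P₂ ⊓ normalizer (V : Set G) ≤ B := by
  have _ := b
  rintro k ⟨hk, hkV⟩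
  by_contra hkB
  have h1 := span k hk hkB
  rw [cj_eq_self_iff.2 hkV, sup_idem] at h1
  exact U₁_M ((UU_le_cen i₁).trans (centralizer_le h1))

namespace PairA

variable {F : Type*} [Field F] {V : Subgroup G} {R : ι → Subgroup G} {U B H P₂ M : Subgroup G} {i₁ : ι}
  (D : PairA F V R U B H P₂ M i₁)
include D

theorem M_comm {a b : G} (ha : a ∈ M) (hb : b ∈ M) : a * b = b * a := D.bt.D_comm (D.M_D ha) (D.M_D hb)

theorem X_M : XX V R ≤ normalizer (M : Set G) :=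
  le_normalizer_of fun x hx m hm => by
    have h1 := D.V_M (D.bt.XD hx (D.M_D hm))
    have := mul_mem h1 hm
    rwa [inv_mul_cancel_right] at this

theorem P₁_M : XX V R ⊔ B ≤ normalizer (M : Set G) := sup_le D.X_M (D.le₂.trans D.P₂_M)

theorem W_Qk : WW V (R i₁) ≤ Qk B P₂ := by
  intro w hw g hg
  exact D.nod.U_le (D.nod.W_le (conj_inv_mem_of_normalizer (normalizer_le_WW V (R i₁) (D.P₂_R hg)) hw))

theorem cov {i₂ : ι} (h12 : i₁ ≠ i₂) {u : G} (hu : u ∈ U) : ∃ x ∈ UU V R i₂, x⁻¹ * u ∈ Qk B P₂ := by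
  obtain ⟨y, hy, hq⟩ := D.cov₂ u hu
  rw [D.bt.Y_eq (Ne.symm h12)] at hy
  obtain ⟨z, hz, x, hx, rfl⟩ := Solvable.Glauberman.exists_mul_of_mem_sup (UU V R i₂) (UU V R i₁)
    ((UU_le_cen i₂).trans (D.bt.cen_le_NU i₁)) hy
  refine ⟨x, hx, ?_⟩
  have hxP : x ∈ P₂ := D.le₂ (D.nod.U_le (D.U_UU i₂ hx))
  have h1 := Qk_conj (D.W_Qk (UU_le_WW i₁ hz)) hxP
  have h2 := mul_mem h1 hq
  have e : x⁻¹ * z * x * ((z * x)⁻¹ * u) = x⁻¹ * u := by group
  rwa [e] at h2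

variable [Finite G] [Fact (Nat.Prime 2)] [CharP F 2] {i₂ : ι} {n₁ n₂ : G} (E : Fr V R U B H P₂ i₁ i₂ n₁ n₂)
include E

/-- the third point -/
theorem V_n₂ : rc V n₂ = R i₁ ⊔ rc (R i₂) n₂ := by
  have h := D.V_eq E
  conv_lhs => rw [h]
  rw [rc_sup, D.n₂_R E]

theorem M_n₂ : rc M n₂ = M := rc_eq_of_mem_normalizer (D.P₂_M E.n₂_mem)

theorem R₃_M : rc (R i₂) n₂ ≤ M := by
  rw [← D.M_n₂ E]
  exact rc_mono ((D.bt.R_le i₂).trans D.V_M) n₂

theorem n₂_inv_not : n₂⁻¹ ∉ B := fun h => E.n₂_not (by simpa using inv_mem h)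

theorem M_le : M ≤ V ⊔ rc (R i₂) n₂ := by
  have h1 := D.span n₂⁻¹ (inv_mem E.n₂_mem) (D.n₂_inv_not E)
  rw [← rc_eq_cj, D.V_n₂ E] at h1
  refine h1.trans (sup_le le_sup_left (sup_le ((D.bt.R_le i₁).trans le_sup_left) le_sup_right))

theorem R₃_V {x : G} (hx : x ∈ V) (hx' : x ∈ rc (R i₂) n₂) : x = 1 := by
  have h1 := D.meet n₂⁻¹ (inv_mem E.n₂_mem) (D.n₂_inv_not E)
  rw [← rc_eq_cj] at h1
  have h2 : x ∈ R i₁ := h1 ⟨hx, rc_mono (D.bt.R_le i₂) n₂ hx'⟩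
  rw [← D.n₂_R E, mem_rc] at h2
  rw [mem_rc] at hx'
  have h3 := D.bt.eq_one E.ne h2 hx'
  have e : x = n₂⁻¹ * (n₂ * x * n₂⁻¹) * n₂ := by group
  rw [e, h3]; group

/-- `U ∩ Qk` acts trivially on `M / R i₁` -/
theorem Qk_M {q m : G} (hq : q ∈ U) (hqQ : q ∈ Qk B P₂) (hm : m ∈ M) : q * m * q⁻¹ * m⁻¹ ∈ R i₁ := by
  have hR : M ≤ normalizer (R i₁ : Set G) := le_normalizer_of fun x hx y hy => by
    rw [D.M_comm hx (D.V_M (D.bt.R_le i₁ hy)), mul_inv_cancel_right]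
    exact hy
  have h1 : V ≤ CZ q (R i₁) := fun v hv => ⟨hR (D.V_M hv), D.nod.UV q hq v hv⟩
  have h2 : rc (R i₂) n₂ ≤ CZ q (R i₁) := by
    intro r hr
    refine ⟨hR (D.R₃_M E hr), ?_⟩
    have h3 : n₂ * q * n₂⁻¹ ∈ U := by
      have h4 : n₂⁻¹⁻¹ * q * n₂⁻¹ ∈ U := D.two_elt hq (Qk_le _ _ (Qk_conj hqQ (inv_mem E.n₂_mem)))
      rwa [inv_inv] at h4
    have h4 := D.nod.UV _ h3 _ (D.bt.R_le i₂ (mem_rc.1 hr))
    have h5 : q * r * q⁻¹ * r⁻¹ ∈ rc (R i₁) n₂ := by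
      rw [mem_rc]
      have e : n₂ * (q * r * q⁻¹ * r⁻¹) * n₂⁻¹ =
          n₂ * q * n₂⁻¹ * (n₂ * r * n₂⁻¹) * (n₂ * q * n₂⁻¹)⁻¹ * (n₂ * r * n₂⁻¹)⁻¹ := by group
      rwa [e]
    rwa [D.n₂_R E] at h5
  exact ((D.M_le E).trans (sup_le h1 h2) hm).2

/-- `[M, U] ≤ V` -/
theorem U_M {u m : G} (hu : u ∈ U) (hm : m ∈ M) : u * m * u⁻¹ * m⁻¹ ∈ V := by
  obtain ⟨x, hx, hq⟩ := D.cov E.ne hu
  have hxX : x ∈ XX V R := YY_le_XX (UU_le_YY i₂ hx)
  have h1 := D.bt.XD hxX (D.M_D hm)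
  have h2 := D.bt.R_le i₁ (D.Qk_M E (mul_mem (inv_mem (D.U_UU i₂ hx)) hu) hq hm)
  have h3 := mul_mem (BTwo.conj_mem_of_normalizer (D.bt.X_le_NV hxX) h2) h1
  have e : x * (x⁻¹ * u * m * (x⁻¹ * u)⁻¹ * m⁻¹) * x⁻¹ * (x * m * x⁻¹ * m⁻¹) = u * m * u⁻¹ * m⁻¹ := by group
  rwa [e] at h3

/-- an `H`-invariant subgroup of `M` which meets `V` trivially is in `R₃` -/
theorem le_R₃ {K : Subgroup G} (hK : K ≤ M) (hH : ∀ h ∈ H, rc K h = K) (hV : ∀ x ∈ K, x ∈ V → x = 1) :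
    K ≤ rc (R i₂) n₂ := by
  obtain ⟨v, w1, w2, c⟩ := D.coord i₂ E.ne
  obtain ⟨a, ha, ha1⟩ := D.big
  obtain ⟨h, hh', hact, u, hu, huV, e⟩ := D.exists_tor E.ne E.H_R c ha
  have h1 : ∀ m ∈ M, h * m * h⁻¹ * m⁻¹ ∈ V := by
    intro m hm
    have h2 := D.bt.XD (c.hh_mem_X D.bt a) (D.M_D hm)
    have h3 := D.U_M E (inv_mem hu) hm
    have h4 := mul_mem (conj_inv_mem_of_normalizer (cen_le_NV V huV) h2) h3
    have e2 : u⁻¹ * (hh w1 w2 a * m * (hh w1 w2 a)⁻¹ * m⁻¹) * u * (u⁻¹ * m * u⁻¹⁻¹ * m⁻¹) =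
        h * m * h⁻¹ * m⁻¹ := by rw [e]; group
    rwa [e2] at h4
  intro r hr
  have hrM := hK hr
  -- `r` commutes with `h`
  have h2 : h * r * h⁻¹ = r := by
    have h3 : h * r * h⁻¹ ∈ K := by
      have := hH h⁻¹ (inv_mem hh')
      rw [← this, mem_rc]
      have e3 : h⁻¹ * (h * r * h⁻¹) * h⁻¹⁻¹ = r := by group
      rwa [e3]
    exact mul_inv_eq_one.1 (hV _ (mul_mem h3 (inv_mem hr)) (h1 r hrM))
  -- decompose
  have hn : rc (R i₂) n₂ ≤ normalizer (V : Set G) := le_normalizer_of fun x hx y hy => by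
    rw [D.M_comm (D.R₃_M E hx) (D.V_M hy), mul_inv_cancel_right]
    exact hy
  have h3 := D.M_le E hrM
  rw [sup_comm] at h3
  obtain ⟨x, hx, s, hs, rfl⟩ := Solvable.Glauberman.exists_mul_of_mem_sup _ V hn h3
  have h4 : h * s * h⁻¹ = s := by
    have h5 : h * s * h⁻¹ ∈ rc (R i₂) n₂ := by
      rw [mem_rc]
      have h6 : n₂ * h * n₂⁻¹ ∈ H := BTwo.conj_mem_of_normalizer E.n₂_H hh'
      have h7 := BTwo.conj_mem_of_normalizer (E.H_R h6) (mem_rc.1 hs)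
      have e3 : n₂ * h * n₂⁻¹ * (n₂ * s * n₂⁻¹) * (n₂ * h * n₂⁻¹)⁻¹ = n₂ * (h * s * h⁻¹) * n₂⁻¹ := by group
      rwa [e3] at h7
    exact mul_inv_eq_one.1 (D.R₃_V E (h1 s (D.R₃_M E hs)) (mul_mem h5 (inv_mem hs)))
  have h5 : h * x * h⁻¹ = x := by
    have h6 : h * x * h⁻¹ * (h * s * h⁻¹) = x * s := by
      rw [← h2]; group
    rw [h4] at h6
    exact mul_right_cancel h6
  obtain ⟨p, q, rfl⟩ := (c.mem_V x).1 hx
  rw [hact] at h5
  obtain ⟨h6, h7⟩ := c.v_inj h5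
  have hp : p = 0 := by
    have : (a - 1) * p = 0 := by rw [sub_mul, h6, one_mul, sub_self]
    exact (mul_eq_zero.1 this).resolve_left (sub_ne_zero.2 ha1)
  have hq : q = 0 := by
    have : (a⁻¹ - 1) * q = 0 := by rw [sub_mul, h7, one_mul, sub_self]
    refine (mul_eq_zero.1 this).resolve_left (sub_ne_zero.2 fun h => ha1 ?_)
    rw [← inv_inv a, h, inv_one]
  rw [hp, hq, c.v_zero, one_mul]
  exact hs

theorem R₃_H {h : G} (hh : h ∈ H) : rc (rc (R i₂) n₂) h = rc (R i₂) n₂ := by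
  have h1 : n₂ * h * n₂⁻¹ ∈ H := BTwo.conj_mem_of_normalizer E.n₂_H hh
  have h2 := rc_eq_of_mem_normalizer (E.H_R h1)
  have e : n₂ * h = (n₂ * h * n₂⁻¹) * n₂ := by group
  rw [rc_rc, e, ← rc_rc, h2]

theorem R₃_n₁_le {n : G} (hn : n ∈ XX V R ⊔ B) (hnH : n ∈ normalizer (H : Set G)) :
    rc (rc (R i₂) n₂) n ≤ rc (R i₂) n₂ := by
  have hnV := D.nod.P_V D.bt hn
  refine D.le_R₃ E ?_ ?_ ?_
  · rw [← rc_eq_of_mem_normalizer (D.P₁_M hn)]
    exact rc_mono (D.R₃_M E) n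
  · intro h hh
    have h1 : n * h * n⁻¹ ∈ H := BTwo.conj_mem_of_normalizer hnH hh
    have e : n * h = (n * h * n⁻¹) * n := by group
    rw [rc_rc, e, ← rc_rc, D.R₃_H E h1]
  · intro x hx hxV
    rw [mem_rc] at hx
    have h1 := D.R₃_V E (BTwo.conj_mem_of_normalizer hnV hxV) hx
    have e : x = n⁻¹ * (n * x * n⁻¹) * n := by group
    rw [e, h1]; group

/-- `n₁` normalises `R₃` -/
theorem R₃_n₁ : rc (rc (R i₂) n₂) n₁ = rc (R i₂) n₂ := by
  apply le_antisymm (D.R₃_n₁_le E E.n₁_mem E.n₁_H)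
  have h1 := rc_mono (D.R₃_n₁_le E (inv_mem E.n₁_mem) (inv_mem E.n₁_H)) n₁
  rwa [rc_rc, inv_mul_cancel, rc_one] at h1

theorem R₃_n₂ : rc (rc (R i₂) n₂) n₂ = R i₂ := by
  rw [rc_rc]
  refine rc_eq_of_mem_normalizer (cj_eq_self_iff.1 ?_)
  exact D.norm_R₂ E (D.n₂_sq E) (mul_mem E.n₂_H E.n₂_H)

theorem R₃_bot : rc (R i₂) n₂ ≠ ⊥ := by
  intro h
  apply D.bt.R_ne i₂
  rw [← rc_bot n₂] at h
  exact rc_inj h

theorem U₁_V : ¬ rc (UU V R i₁) n₂ ≤ centralizer (V : Set G) := by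
  intro h
  apply D.U₁_M
  -- `U₁` centralises `V` and `rc V n₂⁻¹`
  have h1 : ∀ u ∈ UU V R i₁, Ce (rc V n₂⁻¹) u := by
    intro u hu
    have h2 : Ce V (n₂⁻¹ * u * n₂) := by
      intro r hr
      exact (mem_centralizer_iff.1 (h (mem_rc_conj hu)) r hr).symm
    have h3 := h2.conj n₂⁻¹
    have e : n₂⁻¹⁻¹ * (n₂⁻¹ * u * n₂) * n₂⁻¹ = u := by group
    rwa [e] at h3
  have h2 : M ≤ V ⊔ cj n₂ V := D.span n₂ E.n₂_mem E.n₂_not
  rw [← rc_inv_eq_cj] at h2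
  intro u hu
  have h3 : V ⊔ rc V n₂⁻¹ ≤ centralizer {u} := by
    refine sup_le (fun v hv => ?_) (fun v hv => ?_)
    · rw [mem_centralizer_singleton_iff]
      exact mem_centralizer_iff.1 (UU_le_cen i₁ hu) v hv
    · rw [mem_centralizer_singleton_iff]
      exact (h1 u hu v hv).symm
  rw [mem_centralizer_iff]
  exact fun m hm => mem_centralizer_singleton_iff.1 (h3 (h2 hm))

/-- the elements of `B` fixing the frame -/
def Bf (_ : PairA F V R U B H P₂ M i₁) (_ : Fr V R U B H P₂ i₁ i₂ n₁ n₂) : Subgroup G :=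
  B ⊓ (normalizer (R i₂ : Set G) ⊓ normalizer ((rc (R i₂) n₂ : Subgroup G) : Set G))

theorem mem_Bf {x : G} : x ∈ D.Bf E ↔ x ∈ B ∧ rc (R i₂) x = R i₂ ∧ rc (rc (R i₂) n₂) x = rc (R i₂) n₂ := by
  rw [Bf, mem_inf, mem_inf]
  refine and_congr_right fun _ => and_congr ⟨rc_eq_of_mem_normalizer, mem_normalizer_of_rc_eq⟩
    ⟨rc_eq_of_mem_normalizer, mem_normalizer_of_rc_eq⟩

theorem Bf_n₁ {n : G} (hn : n ∈ XX V R ⊔ B) (h12 : rc (R i₁) n = R i₂) (h21 : rc (R i₂) n = R i₁)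
    (h3 : rc (rc (R i₂) n₂) n = rc (R i₂) n₂) {x : G} (hx : x ∈ D.Bf E) : n⁻¹ * x * n ∈ D.Bf E := by
  rw [D.mem_Bf E] at hx ⊢
  obtain ⟨hB, h2, h3'⟩ := hx
  have hP : n⁻¹ * x * n ∈ XX V R ⊔ B := mul_mem (mul_mem (inv_mem hn) (mem_sup_right hB)) hn
  have i12 : rc (R i₂) n⁻¹ = R i₁ := by rw [← h12, rc_rc, mul_inv_cancel, rc_one]
  have i21 : rc (R i₁) n⁻¹ = R i₂ := by rw [← h21, rc_rc, mul_inv_cancel, rc_one]
  have i3 : rc (rc (R i₂) n₂) n⁻¹ = rc (R i₂) n₂ := by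
    conv_lhs => rw [← h3]
    rw [rc_rc, mul_inv_cancel, rc_one]
  have h1 : rc (R i₁) x = R i₁ := rc_eq_of_mem_normalizer (D.nod.B_R hB)
  refine ⟨?_, ?_, ?_⟩
  · rw [D.nod.mem_B_iff D.bt hP, cj_eq_iff_rc, ← rc_rc, ← rc_rc, i21, h2, h21]
  · rw [← rc_rc, ← rc_rc, i12, h1, h12]
  · rw [← rc_rc, ← rc_rc, i3, h3', h3]

theorem Bf_n₂ {n : G} (hn : n ∈ P₂) (h2 : rc (R i₂) n = rc (R i₂) n₂) (h3 : rc (rc (R i₂) n₂) n = R i₂)
    {x : G} (hx : x ∈ D.Bf E) : n⁻¹ * x * n ∈ D.Bf E := by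
  rw [D.mem_Bf E] at hx ⊢
  obtain ⟨hB, h2', h3'⟩ := hx
  have i23 : rc (rc (R i₂) n₂) n⁻¹ = R i₂ := by rw [← h2, rc_rc, mul_inv_cancel, rc_one]
  have i32 : rc (R i₂) n⁻¹ = rc (R i₂) n₂ := by
    conv_lhs => rw [← h3]
    rw [rc_rc, mul_inv_cancel, rc_one]
  have k2 : rc (R i₂) (n⁻¹ * x * n) = R i₂ := by rw [← rc_rc, ← rc_rc, i32, h3', h3]
  refine ⟨?_, k2, ?_⟩
  · refine D.NV₂ (mem_inf.2 ⟨mul_mem (mul_mem (inv_mem hn) (D.le₂ hB)) hn, mem_normalizer_of_rc_eq ?_⟩)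
    have h4 : rc (R i₁) (n⁻¹ * x * n) = R i₁ :=
      rc_eq_of_mem_normalizer (D.P₂_R (mul_mem (mul_mem (inv_mem hn) (D.le₂ hB)) hn))
    rw [D.V_eq E, rc_sup, k2, h4]
  · rw [← rc_rc, ← rc_rc, i23, h2', h2]

/-- the residue as a `Duo` -/
theorem duo : Duo 2 B U H (fun i => if i then P₂ else XX V R ⊔ B) (fun i => if i then n₂ else n₁) where
  hall := D.hall
  le i := by cases i <;> simp [D.le₂]
  ptr i := by
    cases i
    · simpa only [_root_.Bool.false_eq_true, ↓ _root_.reduceIte] using D.ptr₁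
    · simpa using D.ptr₂
  fix i := by
    cases i
    · simpa only [_root_.Bool.false_eq_true, ↓ _root_.reduceIte] using D.fix₁
    · simpa using D.fix₂
  inf := by
    apply le_antisymm
    · intro x hx
      have hx1 : x ∈ XX V R ⊔ B := by simpa only [_root_.Bool.false_eq_true, ↓ _root_.reduceIte] using (mem_inf.1 hx).1
      have hx2 : x ∈ P₂ := by simpa using (mem_inf.1 hx).2
      exact D.NV₂ ⟨hx2, D.nod.P_V D.bt hx1⟩
    · refine le_inf ?_ ?_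
      · simp
      · simpa using D.le₂
  n_mem i := by
    cases i
    · simpa only [_root_.Bool.false_eq_true, ↓ _root_.reduceIte] using E.n₁_mem
    · simpa using E.n₂_mem
  n_not i := by
    cases i
    · simpa using E.n₁_not
    · simpa using E.n₂_not
  n_norm i := by
    cases i
    · simpa using E.n₁_H
    · simpa using E.n₂_H
  thick i := by
    have key : ∀ (P : Subgroup G) (n : G), B ≤ P → PTr B U P →
        (∃ x ∈ P, ∃ y ∈ P, x ∉ B ∧ y ∉ B ∧ x⁻¹ * y ∉ B) → n ∈ P → n ∉ B → ∃ b ∈ B, n * b * n⁻¹ ∉ B := by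
      intro P n hBP hptr h3 hn hnB
      by_contra hc
      push Not at hc
      have hc' : n ∈ normalizer (B : Set G) := mem_normalizer_of_conj hc
      obtain ⟨x, hx, y, hy, hxB, hyB, hxy⟩ := h3
      have hform : ∀ z ∈ P, z ∉ B → ∃ b ∈ B, z = n * b := by
        intro z hz hzB
        obtain ⟨u, hu, b, hb, e⟩ := hptr n hn hnB z hz hzB
        have h4 := conj_inv_mem_of_normalizer hc' (D.nod.U_le hu)
        exact ⟨n⁻¹ * u * n * b, mul_mem h4 hb, by rw [e]; group⟩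
      obtain ⟨b, hb, rfl⟩ := hform x hx hxB
      obtain ⟨b', hb', rfl⟩ := hform y hy hyB
      apply hxy
      have e : (n * b)⁻¹ * (n * b') = b⁻¹ * b' := by group
      rw [e]
      exact mul_mem (inv_mem hb) hb'
    cases i
    · simpa only [_root_.Bool.false_eq_true, ↓ _root_.reduceIte] using key _ _ le_sup_right D.ptr₁ (D.nod.three D.bt) E.n₁_mem E.n₁_not
    · simpa only [↓ _root_.reduceIte] using key _ _ D.le₂ D.ptr₂ D.three₂ E.n₂_mem E.n₂_not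

theorem fixPart : FixPart (D.duo E).frame (D.Bf E) where
  le := inf_le_left
  norm i := by
    have key : ∀ n, (∀ x ∈ D.Bf E, n⁻¹ * x * n ∈ D.Bf E) → n ∈ normalizer (D.Bf E : Set G) := by
      intro n hn
      have : n⁻¹ ∈ normalizer (D.Bf E : Set G) := mem_normalizer_of_conj fun x hx => by
        rw [inv_inv]; exact hn x hx
      simpa using inv_mem this
    cases i
    · exact key n₁ fun x hx => D.Bf_n₁ E E.n₁_mem E.n₁_1 E.n₁_2 (D.R₃_n₁ E) hx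
    · exact key n₂ fun x hx => D.Bf_n₂ E E.n₂_mem rfl (D.R₃_n₂ E) hx

/-- `U₁^n₂` centralises `R₃` -/
theorem X1_R₃ : rc (UU V R i₁) n₂ ≤ centralizer (rc (R i₂) n₂ : Set G) := by
  intro x hx
  have h1 : Ce V (n₂ * x * n₂⁻¹) := fun r hr => (mem_centralizer_iff.1 (UU_le_cen i₁ (mem_rc.1 hx)) r hr).symm
  have h2 := h1.conj n₂
  have e : n₂⁻¹ * (n₂ * x * n₂⁻¹) * n₂ = x := by group
  rw [e] at h2
  rw [mem_centralizer_iff]
  exact fun r hr => (h2 r (rc_mono (D.bt.R_le i₂) n₂ hr)).symm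

theorem X2_R₃ : rc (UU V R i₁) (n₂ * n₁) ≤ centralizer (rc (R i₂) n₂ : Set G) := by
  intro x hx
  rw [← rc_rc, mem_rc] at hx
  have h1 : Ce (rc (R i₂) n₂) (n₁ * x * n₁⁻¹) := fun r hr =>
    (mem_centralizer_iff.1 (D.X1_R₃ E hx) r hr).symm
  have h2 := h1.conj n₁
  have e : n₁⁻¹ * (n₁ * x * n₁⁻¹) * n₁ = x := by group
  rw [e, D.R₃_n₁ E] at h2
  rw [mem_centralizer_iff]
  exact fun r hr => (h2 r hr).symm

/-- coordinates with root groups in `⟨U₁^n₂, U₁^(n₂ n₁)⟩` -/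
theorem exists_coord [Finite F] : ∃ (v : F → F → G) (x1 x2 : F → G), Coord V R i₁ i₂ v x1 x2 ∧
    (∀ a, x1 a ∈ rc (UU V R i₁) n₂) ∧ ∀ a, x2 a ∈ rc (UU V R i₁) (n₂ * n₁) := by
  obtain ⟨v, w1, w2, c⟩ := D.coord i₂ E.ne
  -- the action does not change
  have act : ∀ {w x : G}, x⁻¹ * w ∈ centralizer (V : Set G) → ∀ p q, x * v p q * x⁻¹ = w * v p q * w⁻¹ := by
    intro w x h p q
    have h1 := mem_centralizer_iff.1 h _ (c.v_mem p q)
    calc x * v p q * x⁻¹ = x * (v p q * (x⁻¹ * w)) * w⁻¹ := by group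
      _ = x * (x⁻¹ * w * v p q) * w⁻¹ := by rw [h1]
      _ = w * v p q * w⁻¹ := by group
  have h1 : ∀ a, ∃ x ∈ rc (UU V R i₁) n₂, ∀ p q, x * v p q * x⁻¹ = v (p + a * q) q := by
    intro a
    obtain ⟨x, hx, hxw⟩ := D.cover₁ E (D.U₁_V E) (c.w1_mem a)
    exact ⟨x, hx, fun p q => by rw [act (UU_le_cen i₁ hxw), c.w1_act]⟩
  have h2 : ∀ a, ∃ x ∈ rc (UU V R i₁) (n₂ * n₁), ∀ p q, x * v p q * x⁻¹ = v p (q + a * p) := by
    intro a
    have h3 : n₁ * w2 a * n₁⁻¹ ∈ WW V (R i₁) := by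
      rw [← mem_rc, D.W₁_n₁ E]; exact c.w2_mem a
    obtain ⟨x, hx, hxw⟩ := D.cover₁ E (D.U₁_V E) h3
    refine ⟨n₁⁻¹ * x * n₁, ?_, fun p q => ?_⟩
    · rw [← rc_rc]; exact mem_rc_conj hx
    · have h4 := mem_rc_conj (g := n₁) hxw
      rw [D.U₁_n₁ E] at h4
      have e : n₁⁻¹ * (x⁻¹ * (n₁ * w2 a * n₁⁻¹)) * n₁ = (n₁⁻¹ * x * n₁)⁻¹ * w2 a := by group
      rw [e] at h4
      rw [act (UU_le_cen i₂ h4), c.w2_act]
  choose x1 h1m h1a using h1
  choose x2 h2m h2a using h2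
  have h2W : ∀ a, x2 a ∈ WW V (R i₂) := by
    intro a
    rw [← D.W₁_n₁ E]
    have := h2m a
    rw [← rc_rc] at this
    exact rc_mono (D.U₁_n₂_le E) n₁ this
  exact ⟨v, x1, x2, { c with
    w1_mem := fun a => D.U₁_n₂_le E (h1m a)
    w2_mem := h2W
    w1_act := fun a p q => h1a a p q
    w2_act := fun a p q => h2a a p q }, h1m, h2m⟩

/-- `U₁` is determined by the flag `(R i₁, V)` -/
theorem norm_U₁ {g : G} (h1 : rc (R i₁) g = R i₁) (h2 : rc (R i₂) g = R i₂) : rc (UU V R i₁) g = UU V R i₁ := by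
  have hV : g ∈ normalizer (V : Set G) := by
    apply mem_normalizer_of_rc_eq
    rw [D.V_eq E, rc_sup, h1, h2]
  refine rc_eq_of_mem_normalizer (cj_eq_self_iff.1 (D.bt.cj_UU hV ?_))
  exact cj_eq_self_iff.2 (mem_normalizer_of_rc_eq h1)

/-- `w = n₂ n₁` maps `⟨U₁^n₂, U₁^(n₂ n₁)⟩` to `⟨U₂, U₂^n₂⟩` -/
theorem conj_w {x : G} (hx : x ∈ rc (UU V R i₁) n₂ ⊔ rc (UU V R i₁) (n₂ * n₁)) :
    (n₂ * n₁)⁻¹ * x * (n₂ * n₁) ∈ UU V R i₂ ⊔ rc (UU V R i₂) n₂ := by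
  have e1 : rc (UU V R i₁) (n₂ * (n₂ * n₁)) = UU V R i₂ := by
    rw [← mul_assoc, ← rc_rc, D.U₁_sq E, D.U₁_n₁ E]
  have e2 : rc (UU V R i₁) (n₂ * n₁ * (n₂ * n₁)) = rc (UU V R i₂) n₂ := by
    have k1 : rc (R i₁) (n₂ * n₁ * (n₂ * n₁)) = rc (R i₂) n₂ := by
      simp only [← rc_rc]
      rw [D.n₂_R E, E.n₁_1, D.R₃_n₁ E]
    have k2 : rc (R i₁) (n₁ * n₂) = rc (R i₂) n₂ := by rw [← rc_rc, E.n₁_1]
    have k3 : rc (R i₂) (n₂ * n₁ * (n₂ * n₁)) = R i₁ := by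
      simp only [← rc_rc]
      rw [D.R₃_n₁ E, D.R₃_n₂ E, E.n₁_2]
    have k4 : rc (R i₂) (n₁ * n₂) = R i₁ := by rw [← rc_rc, E.n₁_2, D.n₂_R E]
    have k : ∀ {A A' : Subgroup G}, rc A (n₂ * n₁ * (n₂ * n₁)) = A' → rc A (n₁ * n₂) = A' →
        rc A (n₂ * n₁ * (n₂ * n₁) * (n₁ * n₂)⁻¹) = A := by
      intro A A' h h'
      rw [← rc_rc, h, ← h', rc_rc, mul_inv_cancel, rc_one]
    have h := D.norm_U₁ E (k k1 k2) (k k3 k4)
    have h2 := congrArg (fun A => rc A (n₁ * n₂)) h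
    simp only [rc_rc, inv_mul_cancel_right] at h2
    rw [h2, ← rc_rc, D.U₁_n₁ E]
  have key : rc (UU V R i₁) n₂ ⊔ rc (UU V R i₁) (n₂ * n₁) ≤ rc (UU V R i₂ ⊔ rc (UU V R i₂) n₂) (n₂ * n₁)⁻¹ := by
    refine sup_le (fun y hy => ?_) (fun y hy => ?_)
    · rw [mem_rc, inv_inv]
      have := mem_rc_conj (g := n₂ * n₁) hy
      rw [rc_rc, e1] at this
      exact mem_sup_left this
    · rw [mem_rc, inv_inv]
      have := mem_rc_conj (g := n₂ * n₁) hy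
      rw [rc_rc, e2] at this
      exact mem_sup_right this
  have := key hx
  rwa [mem_rc, inv_inv] at this

/-- **BRAID** -/
theorem braid [Finite F] : (D.duo E).frame.Braid 3 := by
  obtain ⟨v, x1, x2, c, hx1, hx2⟩ := D.exists_coord E
  set l := nn x1 x2 (1 : F) with hl
  have hlX : l ∈ rc (UU V R i₁) n₂ ⊔ rc (UU V R i₁) (n₂ * n₁) :=
    mul_mem (mul_mem (mem_sup_left (hx1 _)) (mem_sup_right (hx2 _))) (mem_sup_left (hx1 _))
  have hl1 : cj l (R i₁) = R i₂ := c.nn_R1 D.bt one_ne_zero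
  have hl2 : cj l (R i₂) = R i₁ := c.nn_R2 D.bt one_ne_zero
  have hlXX : l ∈ XX V R := c.nn_mem_X D.bt 1
  have hX3 : rc (UU V R i₁) n₂ ⊔ rc (UU V R i₁) (n₂ * n₁) ≤ centralizer (rc (R i₂) n₂ : Set G) :=
    sup_le (D.X1_R₃ E) (D.X2_R₃ E)
  have hl3 : rc (rc (R i₂) n₂) l = rc (R i₂) n₂ := by
    refine Ce.rc_eq fun r hr => ?_
    exact (mem_centralizer_iff.1 (hX3 hlX) r hr).symm
  have hn₁P := E.n₁_mem
  have hb : n₁⁻¹ * l ∈ D.Bf E := by
    rw [D.mem_Bf E]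
    have hP : n₁⁻¹ * l ∈ XX V R ⊔ B := mul_mem (inv_mem hn₁P) (mem_sup_left hlXX)
    refine ⟨?_, ?_, ?_⟩
    · rw [D.nod.mem_B_iff D.bt hP, cj_mul, hl1, ← rc_eq_cj, E.n₁_2]
    · rw [← rc_rc, D.n₁_2' E]
      exact cj_eq_iff_rc.1 hl2
    · have : rc (rc (R i₂) n₂) n₁⁻¹ = rc (R i₂) n₂ := by
        conv_lhs => rw [← D.R₃_n₁ E]
        rw [rc_rc, mul_inv_cancel, rc_one]
      rw [← rc_rc, this, hl3]
  have hU₂P : UU V R i₂ ≤ P₂ := (D.U_UU i₂).trans (D.nod.U_le.trans D.le₂)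
  have h1 : (n₂ * n₁)⁻¹ * l * (n₂ * n₁) ∈ P₂ := by
    refine (sup_le hU₂P ?_) (D.conj_w E hlX)
    intro y hy
    have := mul_mem (mul_mem (inv_mem E.n₂_mem) (hU₂P (mem_rc.1 hy))) E.n₂_mem
    have e : n₂⁻¹ * (n₂ * y * n₂⁻¹) * n₂ = y := by group
    rwa [e] at this
  have hf := D.fixPart E
  have h2 : (n₂ * n₁)⁻¹ * (n₁⁻¹ * l) * (n₂ * n₁) ∈ P₂ := by
    have h3 : n₁⁻¹ * (n₂⁻¹ * (n₁⁻¹ * l) * n₂) * n₁ ∈ D.Bf E := hf.conj' false (hf.conj' true hb)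
    have e : n₁⁻¹ * (n₂⁻¹ * (n₁⁻¹ * l) * n₂) * n₁ = (n₂ * n₁)⁻¹ * (n₁⁻¹ * l) * (n₂ * n₁) := by group
    rw [e] at h3
    exact D.le₂ (hf.le h3)
  refine braid_of_conj _ (m := 2) (i := false) ?_
  have hw : RankTwoClose.alt (D.duo E).frame.n (!false) 2 = n₂ * n₁ := by
    simp [RankTwoClose.alt_succ]
  have hnxt : RankTwoClose.nxt (!false) 2 = true := by simp [RankTwoClose.nxt]
  rw [hnxt, hw]
  show (n₂ * n₁)⁻¹ * n₁ * (n₂ * n₁) ∈ P₂
  have := mul_mem h1 (inv_mem h2)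
  have e : (n₂ * n₁)⁻¹ * l * (n₂ * n₁) * ((n₂ * n₁)⁻¹ * (n₁⁻¹ * l) * (n₂ * n₁))⁻¹ =
      (n₂ * n₁)⁻¹ * n₁ * (n₂ * n₁) := by group
  rwa [e] at this

/-- **PATH** -/
theorem path [Finite F] : ∀ k < 3, (D.duo E).frame.PathTo k := by
  refine path_three (F := (D.duo E).frame) (U₁ := UU V R i₁) (U₂ := UU V R i₂) false (D.U₁_n₁ E) (D.U₂_n₁ E)
    ((D.U_UU i₁).trans D.nod.U_le) ((D.U_UU i₂).trans D.nod.U_le) ?_ ?_ ?_ ?_
  · intro x hx
    have h1 : n₂ * x * n₂⁻¹ ∈ WW V (R i₁) :=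
      BTwo.conj_mem_of_normalizer (normalizer_le_WW V (R i₁) (D.P₂_R E.n₂_mem)) (UU_le_WW i₁ hx)
    exact D.nod.U_le (D.nod.W_le h1)
  · exact (D.U₁_n₂_le E).trans (D.nod.W_le.trans D.nod.U_le)
  · intro b hb
    obtain ⟨u, hu, h, hh, rfl⟩ := D.exists_uh hb
    obtain ⟨x, hx, hxu, hxV⟩ := D.cover_U E (D.U₁_V E) hu
    refine ⟨x, hx, x⁻¹ * u * h, mul_mem (D.nod.U_le hxu) (D.hall.H_le hh), by group, ?_⟩
    have h1 : n₁⁻¹ * (x⁻¹ * u) * n₁ ∈ B := D.nod.cen_Qk D.bt (D.nod.U_le hxu) hxV n₁ E.n₁_mem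
    have h2 : n₁⁻¹ * h * n₁ ∈ B := D.hall.H_le (conj_inv_mem_of_normalizer E.n₁_H hh)
    have e : n₁⁻¹ * (x⁻¹ * u * h) * n₁ = n₁⁻¹ * (x⁻¹ * u) * n₁ * (n₁⁻¹ * h * n₁) := by group
    show n₁⁻¹ * (x⁻¹ * u * h) * n₁ ∈ B
    rw [e]
    exact mul_mem h1 h2
  · intro b hb
    obtain ⟨u, hu, h, hh, rfl⟩ := D.exists_uh hb
    obtain ⟨x, hx, hq⟩ := D.cov E.ne hu
    have hxu : x⁻¹ * u ∈ B := Qk_le _ _ hq
    refine ⟨x, hx, x⁻¹ * u * h, mul_mem hxu (D.hall.H_le hh), by group, ?_⟩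
    have h1 : n₂⁻¹ * (x⁻¹ * u) * n₂ ∈ B := hq n₂ E.n₂_mem
    have h2 : n₂⁻¹ * h * n₂ ∈ B := D.hall.H_le (conj_inv_mem_of_normalizer E.n₂_H hh)
    have e : n₂⁻¹ * (x⁻¹ * u * h) * n₂ = n₂⁻¹ * (x⁻¹ * u) * n₂ * (n₂⁻¹ * h * n₂) := by group
    show n₂⁻¹ * (x⁻¹ * u * h) * n₂ ∈ B
    rw [e]
    exact mul_mem h1 h2

omit E in
/-- **The residue of type A2 is a generalised polygon.** -/
theorem polygon [Finite F] {I : Type*} {Q : I → Subgroup G} {x y : I} (hx : Q x = XX V R ⊔ B) (hy : Q y = P₂) :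
    ∃ k, 3 ≤ k ∧ Polygon B Q x y k := by
  obtain ⟨i₂, n₁, n₂, E⟩ := D.exists_fr
  obtain ⟨k, -, h, h3⟩ := (D.duo E).exists_polygon (D.braid E) (by norm_num) (D.path E) (R := Q) (a := x) (b := y)
    (by simpa only [_root_.Bool.false_eq_true, ↓ _root_.reduceIte] using hx) (by simpa using hy)
  refine ⟨k, h3.2 ?_, h⟩
  intro hB
  have h1 : cj (n₁ * n₂ * n₁⁻¹ * n₂⁻¹) (R i₁) = R i₁ := cj_eq_self_iff.2 (D.nod.B_R hB)
  rw [cj_mul, cj_mul, cj_mul, cj_eq_self_iff.2 (inv_mem (D.P₂_R E.n₂_mem)), ← rc_eq_cj, E.n₁_1, ← rc_inv_eq_cj,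
    ← rc_inv_eq_cj] at h1
  -- `n₁ (n₂ R₂) = R₁`
  have h2 : rc (R i₂) n₂⁻¹ = rc (R i₂) n₂ := by
    conv_lhs => rw [← D.R₃_n₂ E]
    rw [rc_rc, mul_inv_cancel, rc_one]
  have h3 : rc (rc (R i₂) n₂) n₁⁻¹ = rc (R i₂) n₂ := by
    conv_lhs => rw [← D.R₃_n₁ E]
    rw [rc_rc, mul_inv_cancel, rc_one]
  rw [h2, h3] at h1
  apply D.R₃_bot E
  rw [eq_bot_iff_forall]
  intro z hz
  exact D.R₃_V E (D.bt.R_le i₁ (h1 ▸ hz)) hz

end PairA

end Cfsg.Agent.Omega.HOne.End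

end

section


/-!
# II.0h1, END: residue of type A2: the fields `frat` and `sep`
-/

set_option autoImplicit false
set_option linter.unusedSectionVars false

namespace Cfsg.Agent.Omega.HOne.End

open Subgroup Cfsg.Agent.Omega.BTwo Cfsg.Agent.RankTwoClose
open Cfsg.Agent.ParSys (Qk FpfG SepG Polygon mem_Qk Qk_le Qk_conj Qk_conj')
open Cfsg.Agent.ParSys.Hall (HallData)
open Cfsg.Agent.ParSys.Hall.HallData (PTr)
open scoped commutatorElement

variable {G : Type*} [Group G] {ι : Type*}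

namespace PairA

variable {F : Type*} [Field F] {V : Subgroup G} {R : ι → Subgroup G} {U B H P₂ M : Subgroup G} {i₁ : ι}
  (D : PairA F V R U B H P₂ M i₁)
variable [Finite G] [Fact (Nat.Prime 2)] [CharP F 2]
include D

/-- the elements of `B` centralising `M` act trivially on the residue -/
theorem cen_le_Qk : B ⊓ centralizer (M : Set G) ≤ Qk B ((XX V R ⊔ B) ⊔ P₂) := by
  have hV : centralizer (M : Set G) ≤ centralizer (V : Set G) := centralizer_le D.V_M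
  have h1 : XX V R ⊔ B ≤ normalizer ((B ⊓ centralizer (M : Set G) : Subgroup G) : Set G) := by
    intro g hg
    refine mem_normalizer_of_conj fun c hc => ?_
    obtain ⟨hcB, hcM⟩ := mem_inf.1 hc
    refine mem_inf.2 ⟨Qk_le _ _ (Qk_conj' (D.nod.cen_Qk D.bt hcB (hV hcM)) hg), ?_⟩
    exact BTwo.conj_mem_of_normalizer (normalizer_le_normalizer_centralizer M (D.P₁_M hg)) hcM
  have h2 : P₂ ≤ normalizer ((B ⊓ centralizer (M : Set G) : Subgroup G) : Set G) := by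
    intro g hg
    refine mem_normalizer_of_conj fun c hc => ?_
    obtain ⟨hcB, hcM⟩ := mem_inf.1 hc
    have h3 := BTwo.conj_mem_of_normalizer (normalizer_le_normalizer_centralizer M (D.P₂_M hg)) hcM
    exact mem_inf.2 ⟨D.NV₂ (mem_inf.2 ⟨mul_mem (mul_mem hg (D.le₂ hcB)) (inv_mem hg), cen_le_NV V (hV h3)⟩), h3⟩
  intro c hc g hg
  exact (mem_inf.1 (conj_inv_mem_of_normalizer (sup_le h1 h2 hg) hc)).1

/-- `U₁` and `U` commute on `M` -/
theorem U_U₁ {x z : G} (hx : x ∈ U) (hz : z ∈ UU V R i₁) {i₂ : ι} {n₁ n₂ : G} (E : Fr V R U B H P₂ i₁ i₂ n₁ n₂) :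
    x * z * x⁻¹ * z⁻¹ ∈ centralizer (M : Set G) := by
  have hxM := D.P₁_M (mem_sup_right (D.nod.U_le hx))
  have hzM := D.X_M (YY_le_XX (UU_le_YY i₁ hz))
  have key : ∀ m ∈ M, x * z * m * (x * z)⁻¹ = z * x * m * (z * x)⁻¹ := by
    intro m hm
    have h1 : z * m * z⁻¹ * m⁻¹ ∈ R i₁ := by
      have := inv_mem (D.bt.DU (D.M_D hm) hz)
      have e : (m * z * m⁻¹ * z⁻¹)⁻¹ = z * m * z⁻¹ * m⁻¹ := by group
      rwa [e] at this
    have h2 := D.U_M E hx hm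
    set r := z * m * z⁻¹ * m⁻¹ with hr
    set v := x * m * x⁻¹ * m⁻¹ with hv
    have hxr := D.nod.UR x hx r h1
    have hzv : z * v * z⁻¹ = v := by
      rw [← mem_centralizer_iff.1 (UU_le_cen i₁ hz) v h2, mul_inv_cancel_right]
    have hrv := D.bt.V_comm r (D.bt.R_le i₁ h1) v h2
    calc x * z * m * (x * z)⁻¹ = x * (r * m) * x⁻¹ := by rw [hr]; group
      _ = (x * r * x⁻¹) * (v * m) := by rw [hv]; group
      _ = r * v * m := by rw [hxr]; group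
      _ = v * (r * m) := by rw [hrv]; group
      _ = (z * v * z⁻¹) * (z * m * z⁻¹) := by rw [hzv, hr]; group
      _ = z * x * m * (z * x)⁻¹ := by rw [hv]; group
  rw [mem_centralizer_iff]
  intro m' hm'
  have h1 := key _ (conj_inv_mem_of_normalizer (mul_mem hzM hxM) hm')
  have e1 : z * x * ((z * x)⁻¹ * m' * (z * x)) * (z * x)⁻¹ = m' := by group
  rw [e1] at h1
  have e2 : x * z * ((z * x)⁻¹ * m' * (z * x)) * (x * z)⁻¹ =
      x * z * x⁻¹ * z⁻¹ * m' * (x * z * x⁻¹ * z⁻¹)⁻¹ := by group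
  rw [e2, mul_inv_eq_iff_eq_mul] at h1
  exact h1.symm

variable {i₂ : ι} {n₁ n₂ : G} (E : Fr V R U B H P₂ i₁ i₂ n₁ n₂)
include E

/-- `U ∩ Qk ∩ Qk = U₁ C_U(M)` -/
theorem dec [Finite F] {u : G} (hu : u ∈ U) (h1 : u ∈ Qk B (XX V R ⊔ B)) (h2 : u ∈ Qk B P₂) :
    ∃ z ∈ UU V R i₁, z⁻¹ * u ∈ centralizer (M : Set G) := by
  have huV := (D.nod.mem_Qk_iff_cen D.bt hu).1 h1
  have hu' : n₂ * u * n₂⁻¹ ∈ U := by
    have h4 : n₂⁻¹⁻¹ * u * n₂⁻¹ ∈ U := D.two_elt hu (Qk_le _ _ (Qk_conj h2 (inv_mem E.n₂_mem)))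
    rwa [inv_inv] at h4
  obtain ⟨x, hx, -, hxc⟩ := D.cover_U E (D.U₁_V E) hu'
  have hz : n₂⁻¹ * x * n₂ ∈ UU V R i₁ := by
    have := mem_rc_conj (g := n₂) hx
    rwa [rc_rc, D.U₁_sq E] at this
  refine ⟨_, hz, ?_⟩
  have e : (n₂⁻¹ * x * n₂)⁻¹ * u = n₂⁻¹ * (x⁻¹ * (n₂ * u * n₂⁻¹)) * n₂ := by group
  have h3 : (n₂⁻¹ * x * n₂)⁻¹ * u ∈ centralizer (V : Set G) := mul_mem (inv_mem (UU_le_cen i₁ hz)) huV
  have h4 : Ce (rc V n₂) ((n₂⁻¹ * x * n₂)⁻¹ * u) := by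
    rw [e]
    exact Ce.conj (fun r hr => (mem_centralizer_iff.1 hxc r hr).symm) n₂
  generalize (n₂⁻¹ * x * n₂)⁻¹ * u = y at h3 h4
  have h5 : M ≤ centralizer {y} := by
    refine (D.M_le E).trans (sup_le ?_ ?_)
    · exact fun r hr => mem_centralizer_singleton_iff.2 (mem_centralizer_iff.1 h3 r hr)
    · exact fun r hr => mem_centralizer_singleton_iff.2 (h4 r (rc_mono (D.bt.R_le i₂) n₂ hr)).symm
  rw [mem_centralizer_iff]
  exact fun m hm => mem_centralizer_singleton_iff.1 (h5 hm)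

/-- `(U ∩ Qk ∩ Qk) / C_U(M)` is central in `U / C_U(M)` -/
theorem cenMod_Q [Finite F] : CenMod U (U ⊓ (Qk B (XX V R ⊔ B) ⊓ Qk B P₂)) (U ⊓ centralizer (M : Set G)) where
  C_le := inf_le_left
  J_le := inf_le_left
  J_norm x hx c hc := by
    obtain ⟨h1, h2⟩ := mem_inf.1 hc
    exact mem_inf.2 ⟨mul_mem (mul_mem hx h1) (inv_mem hx), BTwo.conj_mem_of_normalizer
      (normalizer_le_normalizer_centralizer M (D.P₁_M (mem_sup_right (D.nod.U_le hx)))) h2⟩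
  comm x hx c hc := by
    obtain ⟨h1, h2⟩ := mem_inf.1 hc
    obtain ⟨h2, h3⟩ := mem_inf.1 h2
    obtain ⟨z, hz, hk⟩ := D.dec E h1 h2 h3
    have hzU := D.U_UU i₁ hz
    have hxM := normalizer_le_normalizer_centralizer M (D.P₁_M (mem_sup_right (D.nod.U_le hx)))
    have hzM := normalizer_le_normalizer_centralizer M (D.X_M (YY_le_XX (UU_le_YY i₁ hz)))
    refine mem_inf.2 ⟨mul_mem (mul_mem (mul_mem hx h1) (inv_mem hx)) (inv_mem h1), ?_⟩
    have h4 := D.U_U₁ hx hz E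
    have h5 := mul_mem (BTwo.conj_mem_of_normalizer hxM hk) (inv_mem hk)
    have h6 := BTwo.conj_mem_of_normalizer hzM h5
    have h7 := mul_mem h4 h6
    have e : x * z * x⁻¹ * z⁻¹ * (z * (x * (z⁻¹ * c) * x⁻¹ * (z⁻¹ * c)⁻¹) * z⁻¹) = x * c * x⁻¹ * c⁻¹ := by group
    rwa [e] at h7

omit E in
/-- **The field `frat`.** -/
theorem frat [Finite F] (T : Subgroup G) (hT : T ≤ U)
    (hcov : ∀ u ∈ U, ∃ t ∈ T, t⁻¹ * u ∈ Qk B (XX V R ⊔ B) ∧ t⁻¹ * u ∈ Qk B P₂) :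
    ∀ u ∈ U, ∃ t ∈ T, t⁻¹ * u ∈ Qk B ((XX V R ⊔ B) ⊔ P₂) := by
  obtain ⟨i₂, n₁, n₂, E⟩ := D.exists_fr
  have hK : U ⊓ centralizer (M : Set G) ≤ Qk B ((XX V R ⊔ B) ⊔ P₂) :=
    (inf_le_inf_right _ D.nod.U_le).trans D.cen_le_Qk
  have C := D.cenMod_Q E
  have hUM : ∀ x ∈ U, ∀ c ∈ U ⊓ centralizer (M : Set G), x⁻¹ * c * x ∈ U ⊓ centralizer (M : Set G) :=
    fun x hx c hc => C.norm' hx hc
  -- `T` covers `U₁`
  have key : ∀ z ∈ UU V R i₁, ∃ t ∈ T, t⁻¹ * z ∈ U ⊓ centralizer (M : Set G) := by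
    intro z hz
    obtain ⟨w, hw, hwV⟩ := Set.not_subset.1 (D.U₁_V E)
    have hwW : w ∈ WW V (R i₁) := D.U₁_n₂_le E hw
    have hwU : w ∈ U := D.nod.W_le hwW
    have hw' : w ∉ UU V R i₁ := fun h => hwV (UU_le_cen i₁ h)
    obtain ⟨u, hu, hd⟩ := D.bt.surj (Ne.symm E.ne) hwW hw' hz
    have huU := D.U_UU i₂ hu
    obtain ⟨t₁, ht₁, a1, a2⟩ := hcov w hwU
    obtain ⟨t₂, ht₂, b1, b2⟩ := hcov u huU
    have hq : ∀ {x t : G}, x ∈ U → t ∈ T → t⁻¹ * x ∈ Qk B (XX V R ⊔ B) → t⁻¹ * x ∈ Qk B P₂ →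
        x * t⁻¹ ∈ U ⊓ (Qk B (XX V R ⊔ B) ⊓ Qk B P₂) := by
      intro x t hx ht h1 h2
      have htB := D.nod.U_le (hT ht)
      have k1 := Qk_conj' h1 (mem_sup_right htB : t ∈ XX V R ⊔ B)
      have k2 := Qk_conj' h2 (D.le₂ htB)
      have e : t * (t⁻¹ * x) * t⁻¹ = x * t⁻¹ := by group
      rw [e] at k1 k2
      exact mem_inf.2 ⟨mul_mem hx (inv_mem (hT ht)), mem_inf.2 ⟨k1, k2⟩⟩
    have h1 := C.commutator_mul (hq hwU ht₁ a1 a2) (hq huU ht₂ b1 b2) (hT ht₁) (hT ht₂)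
    rw [inv_mul_cancel_right, inv_mul_cancel_right] at h1
    refine ⟨⁅t₁, t₂⁆, ?_, ?_⟩
    · rw [commutatorElement_def]
      exact mul_mem (mul_mem (mul_mem ht₁ ht₂) (inv_mem ht₁)) (inv_mem ht₂)
    · have ht : ⁅t₁, t₂⁆ ∈ U := by
        rw [commutatorElement_def]
        exact mul_mem (mul_mem (mul_mem (hT ht₁) (hT ht₂)) (inv_mem (hT ht₁))) (inv_mem (hT ht₂))
      have h2 := hUM _ ht _ h1
      have h3 : (⁅w, u⁆)⁻¹ * z ∈ U ⊓ centralizer (M : Set G) := by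
        rw [commutatorElement_def]
        refine mem_inf.2 ⟨D.U_UU i₁ (D.bt.D_le_U i₁ hd), ?_⟩
        rw [mem_centralizer_iff]
        exact fun m hm => D.bt.D_comm (D.M_D hm) hd
      have h4 := mul_mem h2 h3
      have e : (⁅t₁, t₂⁆)⁻¹ * (⁅w, u⁆ * (⁅t₁, t₂⁆)⁻¹) * ⁅t₁, t₂⁆ * ((⁅w, u⁆)⁻¹ * z) = (⁅t₁, t₂⁆)⁻¹ * z := by group
      rwa [e] at h4
  intro u hu
  obtain ⟨t, ht, h1, h2⟩ := hcov u hu
  have hqU : t⁻¹ * u ∈ U := mul_mem (inv_mem (hT ht)) hu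
  obtain ⟨z, hz, hk⟩ := D.dec E hqU h1 h2
  obtain ⟨t', ht', hk'⟩ := key z hz
  refine ⟨t * t', mul_mem ht ht', hK ?_⟩
  have hkU : z⁻¹ * (t⁻¹ * u) ∈ U ⊓ centralizer (M : Set G) :=
    mem_inf.2 ⟨mul_mem (inv_mem (D.U_UU i₁ hz)) hqU, hk⟩
  have h3 := mul_mem hk' hkU
  have e : t'⁻¹ * z * (z⁻¹ * (t⁻¹ * u)) = (t * t')⁻¹ * u := by group
  rwa [e] at h3

/-! ### the torus -/

end PairA

end Cfsg.Agent.Omega.HOne.End

end

end

-- merged: Cfsg.Agent.Mrg.Omega.HOne.EndRes0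
section

/-!
# The residue `(0, k)` of type alpha

`res0_alpha` : the literal `Res0` of `Lie/End/Top.lean` for a node of type alpha, over a bare `BT V R`.
-/

set_option autoImplicit false
set_option linter.unusedSectionVars false

namespace Cfsg.Agent.Omega.HOne.End

open Subgroup Cfsg.Agent.Omega.BTwo
open Cfsg.Agent.ParSys (Qk FpfG SepG Polygon mem_Qk Qk_le Qk_conj Qk_conj' fix_of_fpfG)
open Cfsg.Agent.Omega.Lie.Zero (Dat P0)
open Cfsg.Agent.Omega.Lie.End (Pre PPo Res0 exists_hall_of_index)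

universe u v w

variable {G : Type u} [Group G] {ι : Type w} {V : Subgroup G} {R : ι → Subgroup G} {i j : ι} {F : Type v} [Field F]
  {v : F → F → G} {w1 w2 : F → G}

/-- conjugate coordinates -/
theorem Coord.conj (b : BT V R) (c : Coord V R i j v w1 w2) {g : G} (hg : g ∈ normalizer (V : Set G)) {i' j' : ι}
    (hi : cj g (R i) = R i') (hj : cj g (R j) = R j') :
    Coord V R i' j' (fun p q => g * v p q * g⁻¹) (fun a => g * w1 a * g⁻¹) (fun a => g * w2 a * g⁻¹) where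
  ne := by
    rintro rfl
    exact c.ne (b.R_index (cj_injective (hi.trans hj.symm)))
  v_add p q p' q' := by rw [c.v_add]; group
  v_one p q h := c.v_one p q (by
    have := congrArg (fun z => g⁻¹ * z * g) h
    simpa [mul_assoc] using this)
  mem_V x := by
    constructor
    · intro hx
      obtain ⟨p, q, e⟩ := (c.mem_V _).1 (conj_inv_mem_of_normalizer hg hx)
      exact ⟨p, q, by rw [e]; group⟩
    · rintro ⟨p, q, rfl⟩
      exact conj_mem_of_normalizer hg (c.v_mem p q)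
  mem_R1 x := by
    rw [← hi, mem_cj, c.mem_R1]
    constructor
    · rintro ⟨p, e⟩; exact ⟨p, by rw [e]; group⟩
    · rintro ⟨p, rfl⟩; exact ⟨p, by group⟩
  mem_R2 x := by
    rw [← hj, mem_cj, c.mem_R2]
    constructor
    · rintro ⟨p, e⟩; exact ⟨p, by rw [e]; group⟩
    · rintro ⟨p, rfl⟩; exact ⟨p, by group⟩
  w1_mem a := by
    rw [← b.cj_WW hi]; exact conj_mem_cj (c.w1_mem a)
  w2_mem a := by
    rw [← b.cj_WW hj]; exact conj_mem_cj (c.w2_mem a)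
  w1_act a p q := by
    have e : g * w1 a * g⁻¹ * (g * v p q * g⁻¹) * (g * w1 a * g⁻¹)⁻¹ = g * (w1 a * v p q * (w1 a)⁻¹) * g⁻¹ := by group
    rw [e, c.w1_act]
  w2_act a p q := by
    have e : g * w2 a * g⁻¹ * (g * v p q * g⁻¹) * (g * w2 a * g⁻¹)⁻¹ = g * (w2 a * v p q * (w2 a)⁻¹) * g⁻¹ := by group
    rw [e, c.w2_act]
  W1_act x hx := by
    rw [← b.cj_WW hi, mem_cj] at hx
    obtain ⟨a, ha⟩ := c.W1_act _ hx
    refine ⟨a, fun p q => ?_⟩
    have e : x * (g * v p q * g⁻¹) * x⁻¹ = g * ((g⁻¹ * x * g) * v p q * (g⁻¹ * x * g)⁻¹) * g⁻¹ := by group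
    rw [e, ha]
  W2_act x hx := by
    rw [← b.cj_WW hj, mem_cj] at hx
    obtain ⟨a, ha⟩ := c.W2_act _ hx
    refine ⟨a, fun p q => ?_⟩
    have e : x * (g * v p q * g⁻¹) * x⁻¹ = g * ((g⁻¹ * x * g) * v p q * (g⁻¹ * x * g)⁻¹) * g⁻¹ := by group
    rw [e, ha]

/-- coordinates for every second point -/
theorem exists_coord_snd (b : BT V R) (c : Coord V R i j v w1 w2) {l : ι} (hl : i ≠ l) :
    ∃ (v : F → F → G) (w1 w2 : F → G), Coord V R i l v w1 w2 := by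
  obtain ⟨w, hw, e⟩ := b.trans i c.ne.symm hl.symm
  exact ⟨_, _, _, Coord.conj b c (b.W_le_NV i hw) (cj_eq_self_iff.2 (b.W_le_N i hw)) e⟩

/-- `Nod` from `Dat` -/
theorem nod_of_dat (b : BT V R) {B U : Subgroup G} (D : Dat V R i B U) : Nod V R U B i where
  U_le := D.UB
  W_le := D.WU
  B_V := D.BV
  B_R := D.BR
  UR u hu a ha := by
    obtain ⟨w, hw, hc⟩ := D.UC u hu
    have h1 := mem_centralizer_iff.1 hc a (b.R_le i ha)
    have h2 := b.conj_R (b.W_le_Q i hw) ha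
    calc u * a * u⁻¹ = w * (w⁻¹ * u * a) * (w⁻¹ * u)⁻¹ * w⁻¹ := by group
      _ = w * (a * (w⁻¹ * u)) * (w⁻¹ * u)⁻¹ * w⁻¹ := by rw [← h1]
      _ = w * a * w⁻¹ := by group
      _ = a := h2
  UV u hu v hv := by
    obtain ⟨w, hw, hc⟩ := D.UC u hu
    have h1 := mem_centralizer_iff.1 hc v hv
    have h2 := b.QV i w (b.W_le_Q i hw) v hv
    have e : u * v * u⁻¹ * v⁻¹ = w * v * w⁻¹ * v⁻¹ := by
      calc u * v * u⁻¹ * v⁻¹ = w * (w⁻¹ * u * v) * (w⁻¹ * u)⁻¹ * w⁻¹ * v⁻¹ := by group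
        _ = w * (v * (w⁻¹ * u)) * (w⁻¹ * u)⁻¹ * w⁻¹ * v⁻¹ := by rw [← h1]
        _ = w * v * w⁻¹ * v⁻¹ := by group
    rwa [e]
  X_B := D.XB

/-- **The local data of a node of type alpha**: `M` is abelian of order `q³`, inside `D`, invariant under `P`; the
conjugates of `V` under `P` are its lines through `R i`. -/
structure Alpha (V : Subgroup G) (R : ι → Subgroup G) (i : ι) (B U P M : Subgroup G) : Prop where
  V_M : V ≤ M
  M_D : M ≤ DD V R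
  P_M : P ≤ normalizer (M : Set G)
  P_R : P ≤ normalizer (R i : Set G)
  span : ∀ x ∈ P, x ∉ B → M ≤ V ⊔ cj x V
  meet : ∀ x ∈ P, x ∉ B → V ⊓ cj x V ≤ R i
  U₁_M : ¬ UU V R i ≤ centralizer (M : Set G)
  cov : ∀ u ∈ U, ∃ x ∈ YY V R, x⁻¹ * u ∈ Qk B P

theorem pairA_of [Finite G] [CharP F 2] (b : BT V R) {B U : Subgroup G} (D : Dat V R i B U)
    (c : Coord V R i j v w1 w2) (hF : ∃ a : F, a ≠ 0 ∧ a ≠ 1) {J : Type} {P : J → Subgroup G} {m : J → J → ℕ}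
    (pre : Pre 2 B U P m) {k : J} (hUU : UU V R j ≤ U) {M : Subgroup G} (A : Alpha V R i B U (P k) M) :
    ∃ H, PairA F V R U B H (P k) M i := by
  have : Fact (Nat.Prime 2) := ⟨Nat.prime_two⟩
  obtain ⟨H, hall, hsup⟩ := exists_hall_of_index pre.U_le pre.norm pre.isP pre.index
  refine ⟨H, {
    bt := b
    nod := nod_of_dat b D
    hall := hall
    sup := hsup
    U_UU := ?_
    le₂ := pre.le k
    three₂ := pre.three k
    ptr₂ := pre.ptr k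
    reg₂ := pre.reg k
    fix₂ := fix_of_fpfG hall (pre.le k) (pre.fpf k)
    P₂_R := A.P_R
    NV₂ := NV₂_of b A.span A.U₁_M
    coord := fun l hl => exists_coord_snd b c hl
    big := hF
    V_M := A.V_M
    M_D := A.M_D
    P₂_M := A.P_M
    span := A.span
    meet := A.meet
    U₁_M := A.U₁_M
    cov₂ := A.cov }⟩
  intro l
  by_cases hl : l = i
  · rw [hl]; exact (UU_le_WW i).trans D.WU
  · obtain ⟨w, hw, e⟩ := b.trans i c.ne.symm hl
    rw [← b.cj_UU (b.W_le_NV i hw) e, cj_le_iff]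
    intro x hx
    exact mul_mem (mul_mem (D.WU hw) (hUU hx)) (inv_mem (D.WU hw))

/-- **The residue `(0, k)` of a node of type alpha.**  `sep` is given. -/
theorem res0_alpha' [Finite G] [Finite F] [CharP F 2] (b : BT V R) {B U : Subgroup G} (D : Dat V R i B U)
    (c : Coord V R i j v w1 w2) (hF : ∃ a : F, a ≠ 0 ∧ a ≠ 1) {J : Type} {P : J → Subgroup G} {m : J → J → ℕ}
    (pre : Pre 2 B U P m) {k : J} (hUU : UU V R j ≤ U) {M : Subgroup G} (A : Alpha V R i B U (P k) M)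
    (sep : SepG 2 B U (P k) (P0 V R B) ∨ SepG 2 B U (P0 V R B) (P k)) :
    ∃ n, 3 ≤ n ∧ Res0 V R B U P k n := by
  have : Fact (Nat.Prime 2) := ⟨Nat.prime_two⟩
  obtain ⟨H, E⟩ := pairA_of b D c hF pre hUU A
  obtain ⟨n, hn, hp⟩ := E.polygon (Q := PPo V R B P) (x := none) (y := some k) rfl rfl
  refine ⟨n, hn, hp, fun X hX h => ?_, sep⟩
  have := E.frat X hX fun u hu => by
    obtain ⟨x, hx, h1, h2⟩ := h u hu
    exact ⟨x, hx, h2, h1⟩
  rwa [sup_comm]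

end Cfsg.Agent.Omega.HOne.End

end

private theorem dce_3e4298e676d8 : _root_.True := by
  try have : _root_.True := by simp only [_root_.Cfsg.Agent.Omega.HOne.End.Duo.frame.congr_simp]
  try have : _root_.True := by simp only [_root_.Cfsg.Agent.Omega.HOne.End.Nod.Fx.eq_1]
  try have : _root_.True := by simp only [_root_.Cfsg.Agent.Omega.HOne.End.PairA.Bf.eq_1]
  try have : _root_.True := by simp only [_root_.Cfsg.Agent.Omega.HOne.End.PairA.Bf.congr_simp]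
  exact _root_.True.intro
end

-- part: Mrg/Omega/SQEnd/GZeroOf
section
prune_inst 0xc0000040434002000000051280002014440001900020000148a009420008c362090021000c8015001002220000050040021800000000000000000000000105010028000011000000020008000004000000000000000000000000000000000000000000000
set_option linter.all false
open scoped Cfsg.Agent.FastGrp

-- merged: Cfsg.Agent.Mrg.Omega.Hex.Torus
section

section


/-!
# (A) and (Z) of THEOREM R2T for the node `b = 2`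

`R₋₂ = R^{n₁n₂}`, `R₄ = (R₋₂)^{n₁}`, `A = C_H(R₄) = C_H(R₋₂)`, `L = ⟨R₋₂, R₄⟩`: `Root A R₄ L`,
`L` is transitive on `P₁/B` and `(n₁n₂)³` normalises `A`.
-/

set_option autoImplicit false
set_option linter.dupNamespace false

universe u

namespace Cfsg.Agent.Omega.Hex

open Subgroup Cfsg.Agent.Omega.BTwo
open scoped Pointwise

variable {G : Type u} [Group G] {P₁ P₂ B U H V R W Y D : Subgroup G} {n₁ n₂ : G} {q r : ℕ}

/-- the centralizer of `Q` in `H` -/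
def CH (H Q : Subgroup G) : Subgroup G := H ⊓ centralizer (Q : Set G)

theorem mem_CH {Q : Subgroup G} {x : G} : x ∈ CH H Q ↔ x ∈ H ∧ ∀ v ∈ Q, x * v = v * x := by
  rw [CH, mem_inf, mem_centralizer_iff]
  exact and_congr_right fun _ => ⟨fun h v hv => (h v hv).symm, fun h v hv => (h v hv).symm⟩

theorem cj_CH (g : G) (Q : Subgroup G) : cj g (CH H Q) = CH (cj g H) (cj g Q) := by
  rw [CH, CH, cj_inf, centralizer_cj]

theorem cj_CH_of_mem {g : G} (hg : g ∈ normalizer (H : Set G)) (Q : Subgroup G) :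
    cj g (CH H Q) = CH H (cj g Q) := by
  rw [cj_CH, cj_eq_self_iff.2 hg]

/-- the product of two subgroups of a subgroup `K` is `K` by counting -/
theorem mul_eq_of_card [Finite G] {K₁ K₂ K : Subgroup G} (h₁ : K₁ ≤ K) (h₂ : K₂ ≤ K)
    (h : Nat.card K * Nat.card (K₁ ⊓ K₂ : Subgroup G) ≤ Nat.card K₁ * Nat.card K₂) :
    ∀ x ∈ K, ∃ a ∈ K₁, ∃ b ∈ K₂, x = a * b := by
  have h3 := Lib.ProductSet.card_mul_card_inf K₁ K₂
  rw [← h3] at h
  have h4 : 0 < Nat.card (K₁ ⊓ K₂ : Subgroup G) := Nat.card_pos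
  have h5 := Nat.le_of_mul_le_mul_right h h4
  have h6 : ((K₁ : Set G) * (K₂ : Set G)) ⊆ (K : Set G) := by
    rintro _ ⟨a, ha, b, hb, rfl⟩
    exact K.mul_mem (h₁ ha) (h₂ hb)
  have h7 : ((K₁ : Set G) * (K₂ : Set G)) = (K : Set G) :=
    Set.eq_of_subset_of_ncard_le h6 (by rw [← Nat.card_coe_set_eq, ← Nat.card_coe_set_eq]; exact h5)
      (Set.toFinite _)
  intro x hx
  have h8 : x ∈ ((K₁ : Set G) * (K₂ : Set G)) := by rw [h7]; exact hx
  obtain ⟨a, ha, b, hb, hab⟩ := h8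
  exact ⟨a, ha, b, hb, hab.symm⟩

namespace Hex

variable (h : Hex P₁ P₂ B U H V R W Y D n₁ n₂ q r)
include h

theorem BnR : B ≤ normalizer (R : Set G) := h.B₂.trans h.nR
theorem BnY : B ≤ normalizer (Y : Set G) := h.B₁.trans h.nY
theorem VW : V ≤ W := h.VD.trans h.DW
theorem VY : V ≤ Y := h.VD.trans h.DY
theorem WB : W ≤ B := h.WU.trans h.UB
theorem YB : Y ≤ B := h.YU.trans h.UB
theorem RW : R ≤ W := h.RV.trans h.VW

theorem comm_V {x y : G} (hx : x ∈ V) (hy : y ∈ V) : x * y = y * x := h.YV x (h.VY hx) y hy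

theorem cj_n₁V : cj n₁ V = V := cj_eq_self_iff.2 (h.nV h.n₁P)
theorem cj_n₁Y : cj n₁ Y = Y := cj_eq_self_iff.2 (h.nY h.n₁P)
theorem cj_n₂R : cj n₂ R = R := cj_eq_self_iff.2 (h.nR h.n₂P)
theorem cj_n₂W : cj n₂ W = W := cj_eq_self_iff.2 (h.nW h.n₂P)

theorem sq₁ {Q : Subgroup G} (hQ : B ≤ normalizer (Q : Set G)) : cj n₁ (cj n₁ Q) = Q := by
  rw [← cj_mul]; exact cj_eq_self_iff.2 (hQ h.n₁sq)
theorem sq₂ {Q : Subgroup G} (hQ : B ≤ normalizer (Q : Set G)) : cj n₂ (cj n₂ Q) = Q := by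
  rw [← cj_mul]; exact cj_eq_self_iff.2 (hQ h.n₂sq)

/-- `V₋₁` -/
theorem V1_le : cj n₂ V ≤ W := by
  have := cj_mono (g := n₂) h.VW
  rwa [h.cj_n₂W] at this

theorem V1_inf_Y : cj n₂ V ⊓ Y = R := by
  have h1 : cj n₂ (V ⊓ cj n₂ Y) = cj n₂ R := by rw [h.VV]
  rw [cj_inf, h.sq₂ h.BnY, h.cj_n₂R] at h1
  exact h1

variable [Finite G]

theorem q_pos : 0 < q := by have := h.q4; omega

theorem W_eq : ∀ w ∈ W, ∃ v ∈ cj n₂ V, ∃ y ∈ W ⊓ Y, w = v * y := by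
  refine mul_eq_of_card h.V1_le inf_le_left ?_
  have h1 : cj n₂ V ⊓ (W ⊓ Y) = R := by
    rw [← inf_assoc, inf_eq_left.2 h.V1_le, h.V1_inf_Y]
  rw [h1, h.cR, card_cj, h.cV, h.cW]
  apply le_of_eq; ring

/-- `V = R R₂` -/
theorem V_eq : ∀ v ∈ V, ∃ a ∈ R, ∃ b ∈ cj n₁ R, v = a * b := by
  have h1 : cj n₁ R ≤ V := by
    have := cj_mono (g := n₁) h.RV
    rwa [h.cj_n₁V] at this
  refine mul_eq_of_card h.RV h1 ?_
  rw [h.Rn, card_cj, h.cR, h.cV]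
  simp

/-- the root group `R₋₂` -/
theorem Rm_le_V1 : cj n₂ (cj n₁ R) ≤ cj n₂ V := by
  refine cj_mono ?_
  have := cj_mono (g := n₁) h.RV
  rwa [h.cj_n₁V] at this

omit [Finite G] in
theorem fix₁ {y : G} (hy : y ∈ Y) : n₁⁻¹ * y * n₁ ∈ B := by
  have h1 : y ∈ cj n₁ Y := by rw [h.cj_n₁Y]; exact hy
  exact h.YB (mem_cj.1 h1)

/-- `R₋₂` is transitive on the points of `V` other than `R`. -/
theorem transRm {x : G} (hx : x ∈ P₁) (hxB : x ∉ B) :
    ∃ e ∈ cj n₂ (cj n₁ R), (e * n₁)⁻¹ * x ∈ B := by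
  obtain ⟨w, hw, hwx⟩ := h.trans₁ x hx hxB
  obtain ⟨v, hv, y, hy, rfl⟩ := h.W_eq w hw
  have hv' : n₂⁻¹ * v * n₂ ∈ V := mem_cj.1 hv
  obtain ⟨a, ha, b, hb, hab⟩ := h.V_eq _ hv'
  have hab' : n₂⁻¹ * v * n₂ = b * a := by
    rw [hab]
    have h1 : cj n₁ R ≤ V := by
      have := cj_mono (g := n₁) h.RV
      rwa [h.cj_n₁V] at this
    exact h.comm_V (h.RV ha) (h1 hb)
  refine ⟨n₂ * b * n₂⁻¹, conj_mem_cj hb, ?_⟩
  have hv2 : v = (n₂ * b * n₂⁻¹) * (n₂ * a * n₂⁻¹) := by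
    calc v = n₂ * (n₂⁻¹ * v * n₂) * n₂⁻¹ := by group
      _ = n₂ * (b * a) * n₂⁻¹ := by rw [hab']
      _ = _ := by group
  have ha2 : n₂ * a * n₂⁻¹ ∈ R := by
    have := conj_mem_cj (g := n₂) ha
    rwa [h.cj_n₂R] at this
  have hz : (n₂ * a * n₂⁻¹) * y ∈ Y := Y.mul_mem (h.VY (h.RV ha2)) hy.2
  have h1 := h.fix₁ hz
  have e : (n₂ * b * n₂⁻¹ * n₁)⁻¹ * x =
      (n₁⁻¹ * ((n₂ * a * n₂⁻¹) * y) * n₁) * ((v * y * n₁)⁻¹ * x) := by
    conv_rhs => rw [hv2]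
    group
  rw [e]
  exact B.mul_mem h1 hwx

/-- `R₋₂ ∩ Y = 1` -/
theorem Rm_inf_Y : cj n₂ (cj n₁ R) ⊓ Y = ⊥ := by
  rw [eq_bot_iff]
  intro x hx
  have h1 : x ∈ cj n₂ V ⊓ Y := ⟨h.Rm_le_V1 hx.1, hx.2⟩
  rw [h.V1_inf_Y] at h1
  have h2 : x ∈ cj n₂ (R ⊓ cj n₁ R) := by
    rw [cj_inf, h.cj_n₂R]
    exact ⟨h1, hx.1⟩
  rw [h.Rn, cj_bot] at h2
  exact h2

theorem Rm_le_W : cj n₂ (cj n₁ R) ≤ W := h.Rm_le_V1.trans h.V1_le

theorem Rm_le_U : cj n₂ (cj n₁ R) ≤ U := h.Rm_le_W.trans h.WU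

/-- `R₋₂` acts regularly: an element fixing the point `R₂` is trivial. -/
theorem Rm_semireg {e : G} (he : e ∈ cj n₂ (cj n₁ R)) (hB : n₁⁻¹ * e * n₁ ∈ B) : e = 1 := by
  have h1 : e ∈ Y := h.ker₁ ⟨h.Rm_le_W he, mem_cj.2 hB⟩
  have h2 : e ∈ cj n₂ (cj n₁ R) ⊓ Y := ⟨he, h1⟩
  rw [h.Rm_inf_Y] at h2
  exact h2

omit [Finite G] in
theorem Hn {g : G} (hg : g ∈ normalizer (H : Set G)) {Q : Subgroup G}
    (hQ : H ≤ normalizer (Q : Set G)) : H ≤ normalizer (cj g Q : Set G) := by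
  intro x hx
  rw [normalizer_cj, mem_cj]
  exact hQ (conj_inv_mem_of_normalizer hg hx)

omit [Finite G] in
theorem HnR : H ≤ normalizer (R : Set G) := h.HB.trans h.BnR

omit [Finite G] in
theorem HnRm : H ≤ normalizer (cj n₂ (cj n₁ R) : Set G) := h.Hn h.n₂H (h.Hn h.n₁H h.HnR)

omit [Finite G] in
theorem HnRp : H ≤ normalizer (cj n₁ (cj n₂ (cj n₁ R)) : Set G) := h.Hn h.n₁H h.HnRm

/-- An element `x` of `P₁` which normalises the flag `(R, V)` (i.e. lies in `B`) and the point `R₂`,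
and commutes with the root group `R₋₂`, fixes every point of `V`. -/
theorem fix_all {x : G} (hxB : x ∈ B) (hx₁ : n₁⁻¹ * x * n₁ ∈ B)
    (hc : ∀ e ∈ cj n₂ (cj n₁ R), x * e = e * x) {g : G} (hg : g ∈ P₁) : g⁻¹ * x * g ∈ B := by
  by_cases hgB : g ∈ B
  · exact B.mul_mem (B.mul_mem (B.inv_mem hgB) hxB) hgB
  · obtain ⟨e, he, heg⟩ := h.transRm hg hgB
    set b := (e * n₁)⁻¹ * g with hb
    have hg' : g = e * n₁ * b := by rw [hb]; group
    have h1 := hc e he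
    have : g⁻¹ * x * g = b⁻¹ * (n₁⁻¹ * x * n₁) * b := by
      rw [hg']
      calc (e * n₁ * b)⁻¹ * x * (e * n₁ * b) = b⁻¹ * n₁⁻¹ * e⁻¹ * (x * e) * n₁ * b := by group
        _ = b⁻¹ * n₁⁻¹ * e⁻¹ * (e * x) * n₁ * b := by rw [h1]
        _ = _ := by group
    rw [this]
    exact B.mul_mem (B.mul_mem (B.inv_mem heg) hx₁) heg

/-- the same for the root group `R₄` -/
theorem Rp_semireg {e g : G} (he : e ∈ cj n₁ (cj n₂ (cj n₁ R)))
    (hB : ∀ g ∈ P₁, g⁻¹ * e * g ∈ B) : e = 1 := by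
  have h1 : n₁⁻¹ * e * n₁ ∈ cj n₂ (cj n₁ R) := mem_cj.1 he
  have h2 : n₁⁻¹ * (n₁⁻¹ * e * n₁) * n₁ ∈ B := by
    have := hB (n₁ * n₁) (P₁.mul_mem h.n₁P h.n₁P)
    have e1 : (n₁ * n₁)⁻¹ * e * (n₁ * n₁) = n₁⁻¹ * (n₁⁻¹ * e * n₁) * n₁ := by group
    rwa [e1] at this
  have h3 := h.Rm_semireg h1 h2
  calc e = n₁ * (n₁⁻¹ * e * n₁) * n₁⁻¹ := by group
    _ = 1 := by rw [h3]; group

/-- LEMMA A (first half): `C_H(R₋₂) ≤ C_H(R₄)`. -/
theorem CH_le : CH H (cj n₂ (cj n₁ R)) ≤ CH H (cj n₁ (cj n₂ (cj n₁ R))) := by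
  intro x hx
  rw [mem_CH] at hx ⊢
  refine ⟨hx.1, fun e he => ?_⟩
  have hxB := h.HB hx.1
  have hxN : x ∈ normalizer (H : Set G) := le_normalizer hx.1
  have hx₁ : n₁⁻¹ * x * n₁ ∈ B := mem_cj.1 (h.H₁ ⟨hxB, hxN⟩)
  -- the commutator `x e x⁻¹ e⁻¹` lies in `R₄` and fixes every point of `V`
  have hR4 : x * e * x⁻¹ ∈ cj n₁ (cj n₂ (cj n₁ R)) :=
    conj_mem_of_normalizer (h.HnRp hx.1) he
  have hf : x * e * x⁻¹ * e⁻¹ ∈ cj n₁ (cj n₂ (cj n₁ R)) := mul_mem hR4 (inv_mem he)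
  have heP : e ∈ P₁ := by
    have h1 : cj n₁ (cj n₂ (cj n₁ R)) ≤ P₁ := by
      have h2 := cj_mono (g := n₁) ((h.Rm_le_U.trans h.UB).trans h.B₁)
      rwa [cj_of_mem h.n₁P] at h2
    exact h1 he
  have hfix := fun g (hg : g ∈ P₁) => h.fix_all hxB hx₁ (hx.2) (g := g) hg
  have h5 : x * e * x⁻¹ * e⁻¹ = 1 := by
    refine h.Rp_semireg (g := 1) hf fun g hg => ?_
    have h6 := hfix g hg
    have h7 := hfix (e⁻¹ * g) (P₁.mul_mem (P₁.inv_mem heP) hg)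
    have e8 : g⁻¹ * (x * e * x⁻¹ * e⁻¹) * g =
        (g⁻¹ * x * g) * ((e⁻¹ * g)⁻¹ * x * (e⁻¹ * g))⁻¹ := by group
    rw [e8]
    exact B.mul_mem h6 (B.inv_mem h7)
  calc x * e = (x * e * x⁻¹ * e⁻¹) * (e * x) := by group
    _ = e * x := by rw [h5, one_mul]

/-! ### the translation `n₁n₂` -/

omit [Finite G] in
theorem tH : n₁ * n₂ ∈ normalizer (H : Set G) := mul_mem h.n₁H h.n₂H

omit [Finite G] in
theorem nR2 {x : G} (hx : x ∈ B ⊓ normalizer (H : Set G)) : x ∈ normalizer (cj n₁ R : Set G) := by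
  rw [normalizer_cj]
  exact cj_mono h.BnR (h.H₁ hx)

omit [Finite G] in
theorem t_Rm : cj (n₁ * n₂) (cj n₂ (cj n₁ R)) = R := by
  rw [cj_mul]
  have h1 : cj n₂ (cj n₂ (cj n₁ R)) = cj n₁ R := by
    rw [← cj_mul]
    exact cj_eq_self_iff.2 (h.nR2 ⟨h.n₂sq, mul_mem h.n₂H h.n₂H⟩)
  rw [h1, h.sq₁ h.BnR]

omit [Finite G] in
theorem t_R0 : cj (n₁ * n₂) R = cj n₁ R := by rw [cj_mul, h.cj_n₂R]

omit [Finite G] in
theorem tt_R0 : cj ((n₁ * n₂) * (n₁ * n₂)) R = cj n₁ (cj n₂ (cj n₁ R)) := by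
  rw [cj_mul, h.t_R0, cj_mul]

omit [Finite G] in
theorem ttt_Rm : cj ((n₁ * n₂) ^ 3) (cj n₂ (cj n₁ R)) = cj n₁ (cj n₂ (cj n₁ R)) := by
  have e : (n₁ * n₂) ^ 3 = ((n₁ * n₂) * (n₁ * n₂)) * (n₁ * n₂) := by rw [pow_succ, pow_two]
  rw [e, cj_mul, h.t_Rm, h.tt_R0]

/-- LEMMA A -/
theorem CH_eq : CH H (cj n₂ (cj n₁ R)) = CH H (cj n₁ (cj n₂ (cj n₁ R))) := by
  refine eq_of_le_of_card_ge h.CH_le ?_
  rw [← h.ttt_Rm, ← cj_CH_of_mem (pow_mem h.tH 3), card_cj]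

theorem cj_A : cj ((n₁ * n₂) ^ 3) (CH H (cj n₁ (cj n₂ (cj n₁ R)))) =
    CH H (cj n₁ (cj n₂ (cj n₁ R))) := by
  conv_lhs => rw [← h.CH_eq]
  rw [cj_CH_of_mem (pow_mem h.tH 3), h.ttt_Rm]

/-- (T4) : `R₄` is transitive on the points of `V` other than `R₂`. -/
theorem transRp {x : G} (hx : x ∈ P₁) (hxB : n₁⁻¹ * x ∉ B) :
    ∃ f ∈ cj n₁ (cj n₂ (cj n₁ R)), f⁻¹ * x ∈ B := by
  obtain ⟨e, he, hex⟩ := h.transRm (P₁.mul_mem (P₁.inv_mem h.n₁P) hx) hxB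
  refine ⟨n₁ * e * n₁⁻¹, conj_mem_cj he, ?_⟩
  have e1 : (n₁ * e * n₁⁻¹)⁻¹ * x = (n₁ * n₁) * ((e * n₁)⁻¹ * (n₁⁻¹ * x)) := by group
  rw [e1]
  exact B.mul_mem h.n₁sq hex

end Hex

/-- the group `L = ⟨R₋₂, R₄⟩` -/
def LL (n₁ n₂ : G) (R : Subgroup G) : Subgroup G :=
  cj n₂ (cj n₁ R) ⊔ cj n₁ (cj n₂ (cj n₁ R))

section Glob

variable [Finite G]

theorem cards (h : Hex P₁ P₂ B U H V R W Y D n₁ n₂ q r) :
    Nat.card (cj n₂ (cj n₁ R) : Subgroup G) = q := by rw [card_cj, card_cj, h.cR]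

/-- a `2`-subgroup normalising `R₄` and centralising `A` is in `R₄` -/
theorem tor4 (h : Hex P₁ P₂ B U H V R W Y D n₁ n₂ q r) (g : Glob H R) {T : Subgroup G}
    (hT : IsPGroup 2 T) (hn : T ≤ normalizer (cj n₁ (cj n₂ (cj n₁ R)) : Set G))
    (hc : ∀ x ∈ T, ∀ a ∈ CH H (cj n₁ (cj n₂ (cj n₁ R))), x * a = a * x) :
    T ≤ cj n₁ (cj n₂ (cj n₁ R)) := by
  set s := (n₁ * n₂) * (n₁ * n₂) with hs
  have hsH : s ∈ normalizer (H : Set G) := mul_mem h.tH h.tH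
  have e4 : cj n₁ (cj n₂ (cj n₁ R)) = cj s R := h.tt_R0.symm
  rw [e4] at hn hc ⊢
  have h1 : cj s⁻¹ T ≤ R := by
    refine g.tor _ (isPGroup_cj hT) ?_ ?_
    · have h2 := cj_mono (g := s⁻¹) hn
      rwa [normalizer_cj, cj_inv_cj] at h2
    · intro x hx hxR t ht
      have ht' : s * t * s⁻¹ ∈ T := by
        have := mem_cj.1 ht
        rwa [inv_inv] at this
      have hx' : s * x * s⁻¹ ∈ CH H (cj s R) := by
        have h3 : s * x * s⁻¹ ∈ cj s (CH H R) := conj_mem_cj (mem_CH.2 ⟨hx, hxR⟩)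
        rwa [cj_CH_of_mem hsH] at h3
      have h4 := hc _ ht' _ hx'
      have h5 : s * (t * x) * s⁻¹ = s * (x * t) * s⁻¹ := by
        calc s * (t * x) * s⁻¹ = (s * t * s⁻¹) * (s * x * s⁻¹) := by group
          _ = (s * x * s⁻¹) * (s * t * s⁻¹) := h4
          _ = _ := by group
      exact mul_left_cancel (mul_right_cancel h5)
  have h6 := cj_mono (g := s) h1
  rwa [cj_cj_inv] at h6

theorem syl4 (h : Hex P₁ P₂ B U H V R W Y D n₁ n₂ q r) (g : Glob H R) {T : Subgroup G}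
    (hT : IsPGroup 2 T)
    (hc : ∀ x ∈ T, ∀ a ∈ CH H (cj n₁ (cj n₂ (cj n₁ R))), x * a = a * x)
    (hle : cj n₁ (cj n₂ (cj n₁ R)) ≤ T) : T ≤ cj n₁ (cj n₂ (cj n₁ R)) := by
  set E := cj n₁ (cj n₂ (cj n₁ R)) with hE
  by_contra hcon
  haveI : Group.IsNilpotent T := hT.isNilpotent
  have hlt : E.subgroupOf T < ⊤ := by
    rw [lt_top_iff_ne_top]
    intro h1
    exact hcon (subgroupOf_eq_top.1 h1)
  have h2 := (Group.normalizerCondition_of_isNilpotent (G := T)) _ hlt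
  obtain ⟨x, hx, hxE⟩ := SetLike.exists_of_lt h2
  apply hxE
  rw [mem_subgroupOf]
  have hxn : (x : G) ∈ normalizer (E : Set G) := by
    refine mem_normalizer_of_conj fun y hy => ?_
    have h3 := (mem_normalizer_iff.1 hx ⟨y, hle hy⟩).1 (mem_subgroupOf.2 hy)
    exact mem_subgroupOf.1 h3
  have h4 : T ⊓ normalizer (E : Set G) ≤ E :=
    tor4 h g (hT.to_le inf_le_left) inf_le_right (fun y hy => hc y hy.1)
  exact h4 ⟨x.2, hxn⟩

end Glob

end Cfsg.Agent.Omega.Hex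

end

section


/-!
# `Root A R₄ L` for the node `b = 2`
-/

set_option autoImplicit false
set_option linter.dupNamespace false

universe u

namespace Cfsg.Agent.Omega.Hex

open Subgroup Cfsg.Agent.Omega.BTwo Cfsg.Agent.Omega.RootLemma
open scoped Pointwise

variable {G : Type u} [Group G] [Finite G] {P₁ P₂ B U H V R W Y D : Subgroup G} {n₁ n₂ : G} {q r : ℕ}

/-- the same for `R₋₂` -/
theorem sylm (h : Hex P₁ P₂ B U H V R W Y D n₁ n₂ q r) (g : Glob H R) {T : Subgroup G}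
    (hT : IsPGroup 2 T)
    (hc : ∀ x ∈ T, ∀ a ∈ CH H (cj n₁ (cj n₂ (cj n₁ R))), x * a = a * x)
    (hle : cj n₂ (cj n₁ R) ≤ T) : T ≤ cj n₂ (cj n₁ R) := by
  set s := (n₁ * n₂) ^ 3 with hs
  have h1 : cj s T ≤ cj n₁ (cj n₂ (cj n₁ R)) := by
    refine syl4 h g (isPGroup_cj hT) ?_ ?_
    · intro x hx a ha
      have hx' : s⁻¹ * x * s ∈ T := mem_cj.1 hx
      have ha' : s⁻¹ * a * s ∈ CH H (cj n₁ (cj n₂ (cj n₁ R))) := by
        rw [← h.cj_A] at ha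
        exact mem_cj.1 ha
      have h4 := hc _ hx' _ ha'
      have h5 : s⁻¹ * (x * a) * s = s⁻¹ * (a * x) * s := by
        calc s⁻¹ * (x * a) * s = (s⁻¹ * x * s) * (s⁻¹ * a * s) := by group
          _ = (s⁻¹ * a * s) * (s⁻¹ * x * s) := h4
          _ = _ := by group
      exact mul_left_cancel (mul_right_cancel h5)
    · rw [← h.ttt_Rm]
      exact cj_mono hle
  rw [← h.ttt_Rm] at h1
  have h2 := cj_mono (g := s⁻¹) h1
  rwa [cj_inv_cj, cj_inv_cj] at h2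

section

variable (h : Hex P₁ P₂ B U H V R W Y D n₁ n₂ q r) (g : Glob H R)
include h

theorem LL_comm : ∀ k ∈ LL n₁ n₂ R, ∀ a ∈ CH H (cj n₁ (cj n₂ (cj n₁ R))), k * a = a * k := by
  have h1 : LL n₁ n₂ R ≤ centralizer (CH H (cj n₁ (cj n₂ (cj n₁ R))) : Set G) := by
    refine sup_le ?_ ?_
    · intro x hx
      rw [mem_centralizer_iff]
      intro a ha
      rw [← h.CH_eq] at ha
      exact (mem_CH.1 ha).2 x hx
    · intro x hx
      rw [mem_centralizer_iff]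
      intro a ha
      exact (mem_CH.1 ha).2 x hx
  intro k hk a ha
  exact ((mem_centralizer_iff.1 (h1 hk)) a ha).symm

theorem two_R : IsPGroup 2 R := h.two.to_le (h.RW.trans h.WU)

theorem exists_ne_Rm : ∃ e ∈ cj n₂ (cj n₁ R), e ≠ 1 := by
  by_contra hcon
  push Not at hcon
  have h1 : cj n₂ (cj n₁ R) = ⊥ := by
    rw [eq_bot_iff]; exact fun x hx => hcon x hx
  have h2 := cards h
  rw [h1, card_bot] at h2
  have := h.q4
  omega

theorem LL_le_P₁ : LL n₁ n₂ R ≤ P₁ := by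
  have h1 : cj n₂ (cj n₁ R) ≤ P₁ := (h.Rm_le_U.trans h.UB).trans h.B₁
  refine sup_le h1 ?_
  have h2 := cj_mono (g := n₁) h1
  rwa [cj_of_mem h.n₁P] at h2

/-- an element of `⟨R₄^L⟩` moving the point `R₂` to `R` -/
theorem exists_g : ∃ e ∈ cj n₂ (cj n₁ R), ∃ f ∈ cj n₁ (cj n₂ (cj n₁ R)), e * f * e⁻¹ * n₁ ∈ B := by
  obtain ⟨e, he, he1⟩ := exists_ne_Rm h
  have heB : e ∈ B := h.UB (h.Rm_le_U he)
  have h1 : n₁⁻¹ * (e⁻¹ * n₁) ∉ B := by
    intro hc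
    have h2 : n₁⁻¹ * e⁻¹ * n₁ ∈ B := by rw [mul_assoc]; exact hc
    exact he1 (inv_eq_one.1 (h.Rm_semireg (inv_mem he) h2))
  have hP : e⁻¹ * n₁ ∈ P₁ := P₁.mul_mem (P₁.inv_mem (h.B₁ heB)) h.n₁P
  obtain ⟨f, hf, hfx⟩ := h.transRp hP h1
  refine ⟨e, he, f⁻¹, inv_mem hf, ?_⟩
  have e1 : e * f⁻¹ * e⁻¹ * n₁ = e * (f⁻¹ * (e⁻¹ * n₁)) := by group
  rw [e1]
  exact B.mul_mem heB hfx

/-- `L` is transitive on `P₁/B`. -/
theorem LL_trans {x : G} (hx : x ∈ P₁) : ∃ l ∈ LL n₁ n₂ R, l⁻¹ * x ∈ B := by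
  by_cases hxB : n₁⁻¹ * x ∈ B
  · obtain ⟨e, he, f, hf, hef⟩ := exists_g h
    have heL : e ∈ LL n₁ n₂ R := mem_sup_left he
    have hfL : f ∈ LL n₁ n₂ R := mem_sup_right hf
    refine ⟨(e * f * e⁻¹)⁻¹, inv_mem (mul_mem (mul_mem heL hfL) (inv_mem heL)), ?_⟩
    rw [inv_inv]
    have e1 : e * f * e⁻¹ * x = (e * f * e⁻¹ * n₁) * (n₁⁻¹ * x) := by group
    rw [e1]
    exact B.mul_mem hef hxB
  · obtain ⟨f, hf, hfx⟩ := h.transRp hx hxB
    exact ⟨f, mem_sup_right hf, hfx⟩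

include g

theorem Rm_not_norm : ∃ k ∈ LL n₁ n₂ R, ∃ v ∈ cj n₁ (cj n₂ (cj n₁ R)),
    k * v * k⁻¹ ∉ cj n₁ (cj n₂ (cj n₁ R)) := by
  by_contra hcon
  push Not at hcon
  have h1 : cj n₂ (cj n₁ R) ≤ normalizer (cj n₁ (cj n₂ (cj n₁ R)) : Set G) := fun k hk =>
    mem_normalizer_of_conj fun v hv => hcon k (mem_sup_left hk) v hv
  have h2 : cj n₂ (cj n₁ R) ≤ cj n₁ (cj n₂ (cj n₁ R)) :=
    tor4 h g (isPGroup_cj (isPGroup_cj (two_R h))) h1
      (fun x hx a ha => LL_comm h x (mem_sup_left hx) a ha)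
  obtain ⟨e, he, he1⟩ := exists_ne_Rm h
  have h3 : n₁⁻¹ * e * n₁ ∈ B := h.UB (h.Rm_le_U (mem_cj.1 (h2 he)))
  exact he1 (h.Rm_semireg he h3)

theorem gen4 : LL n₁ n₂ R ≤ closure {x | ∃ k ∈ LL n₁ n₂ R, ∃ v ∈ cj n₁ (cj n₂ (cj n₁ R)),
    x = k * v * k⁻¹} := by
  set N := closure {x | ∃ k ∈ LL n₁ n₂ R, ∃ v ∈ cj n₁ (cj n₂ (cj n₁ R)), x = k * v * k⁻¹} with hN
  have h4 : cj n₁ (cj n₂ (cj n₁ R)) ≤ N := fun v hv =>
    subset_closure ⟨1, one_mem _, v, hv, by group⟩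
  refine sup_le ?_ h4
  obtain ⟨e, he, f, hf, hef⟩ := exists_g h
  set x := e * f * e⁻¹ with hx
  have heL : e ∈ LL n₁ n₂ R := mem_sup_left he
  have hfL : f ∈ LL n₁ n₂ R := mem_sup_right hf
  have hxL : x ∈ LL n₁ n₂ R := mul_mem (mul_mem heL hfL) (inv_mem heL)
  -- `R₄ ^ x ≤ U`
  have h5 : cj x (cj n₁ (cj n₂ (cj n₁ R))) ≤ U := by
    have e1 : cj x (cj n₁ (cj n₂ (cj n₁ R))) = cj (x * n₁) (cj n₂ (cj n₁ R)) := by rw [cj_mul x n₁]
    rw [e1]
    have h6 := cj_mono (g := x * n₁) h.Rm_le_U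
    rwa [cj_eq_self_iff.2 (h.nU hef)] at h6
  have h7 : cj n₂ (cj n₁ R) ⊔ cj x (cj n₁ (cj n₂ (cj n₁ R))) ≤ cj n₂ (cj n₁ R) := by
    refine sylm h g (h.two.to_le (sup_le h.Rm_le_U h5)) ?_ le_sup_left
    intro y hy a ha
    refine LL_comm h y ?_ a ha
    refine (sup_le ?_ ?_ : _ ≤ LL n₁ n₂ R) hy
    · exact le_sup_left
    · rintro _ ⟨z, hz, rfl⟩
      exact mul_mem (mul_mem hxL (mem_sup_right hz)) (inv_mem hxL)
  have h8 : cj x (cj n₁ (cj n₂ (cj n₁ R))) = cj n₂ (cj n₁ R) := by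
    refine eq_of_le_of_card_ge (le_sup_right.trans h7) ?_
    simp only [card_cj, le_refl]
  rw [← h8]
  rintro _ ⟨z, hz, rfl⟩
  exact subset_closure ⟨x, hxL, z, hz, rfl⟩

/-- (A) + (Z) of THEOREM R2T in the form of `RootLemma`. -/
theorem root : Root (CH H (cj n₁ (cj n₂ (cj n₁ R)))) (cj n₁ (cj n₂ (cj n₁ R))) (LL n₁ n₂ R) where
  le := le_sup_right
  comm := LL_comm h
  two := isPGroup_cj (isPGroup_cj (isPGroup_cj (two_R h)))
  syl P hP hc hle := syl4 h g hP hc hle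
  pair := by
    have hV : ∀ x ∈ cj n₁ (cj n₂ (cj n₁ R)), x * x = 1 := by
      intro x hx
      rw [← h.tt_R0] at hx
      have h1 := h.sq _ (h.RV (mem_cj.1 hx))
      have e1 : ∀ s : G, s⁻¹ * x * s * (s⁻¹ * x * s) = s⁻¹ * (x * x) * s := by intro s; group
      rw [e1] at h1
      have h2 : x * x = (n₁ * n₂ * (n₁ * n₂)) * ((n₁ * n₂ * (n₁ * n₂))⁻¹ * (x * x) *
          (n₁ * n₂ * (n₁ * n₂))) * (n₁ * n₂ * (n₁ * n₂))⁻¹ := by group
      rw [h2, h1]; group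
    have hcard : Nat.card (cj n₁ (cj n₂ (cj n₁ R)) : Subgroup G) = q := by
      rw [card_cj, card_cj, card_cj, h.cR]
    set E := cj n₁ (cj n₂ (cj n₁ R)) with hE
    have hn : (E : Set G).ncard = q := by rw [← Nat.card_coe_set_eq]; exact hcard
    have hq := h.q4
    obtain ⟨a, ha, ha1⟩ : ∃ a ∈ (E : Set G), a ∉ ({1} : Set G) :=
      Set.exists_mem_notMem_of_ncard_lt_ncard (by rw [Set.ncard_singleton, hn]; omega)
    obtain ⟨b, hb, hb1⟩ : ∃ b ∈ (E : Set G), b ∉ ({1, a} : Set G) :=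
      Set.exists_mem_notMem_of_ncard_lt_ncard (by
        have := Set.ncard_insert_le (1 : G) {a}
        rw [Set.ncard_singleton] at this
        omega)
    have hb2 : b ≠ 1 ∧ b ≠ a := by
      constructor
      · intro hc; exact hb1 (by simp [hc])
      · intro hc; exact hb1 (by simp [hc])
    exact ⟨a, ha, b, hb, hV a ha, hV b hb, fun hc => ha1 hc, hb2.1, fun hc => hb2.2 hc.symm⟩
  cent := by
    intro u hu _ v hv
    rw [← h.tt_R0] at hu hv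
    have h1 := h.comm_V (h.RV (mem_cj.1 hu)) (h.RV (mem_cj.1 hv))
    set s := n₁ * n₂ * (n₁ * n₂)
    have h5 : s⁻¹ * (u * v) * s = s⁻¹ * (v * u) * s := by
      calc s⁻¹ * (u * v) * s = (s⁻¹ * u * s) * (s⁻¹ * v * s) := by group
        _ = (s⁻¹ * v * s) * (s⁻¹ * u * s) := h1
        _ = _ := by group
    exact mul_left_cancel (mul_right_cancel h5)
  norm := by
    intro u hu _ hu1 c hc _ v hv
    rw [← h.tt_R0] at hu hv ⊢
    set s := n₁ * n₂ * (n₁ * n₂)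
    have h1 : s⁻¹ * c * s ∈ normalizer (R : Set G) := by
      refine g.cen (s⁻¹ * u * s) (mem_cj.1 hu) ?_ _ ?_
      · intro h0
        apply hu1
        calc u = s * (s⁻¹ * u * s) * s⁻¹ := by group
          _ = 1 := by rw [h0]; group
      · calc s⁻¹ * c * s * (s⁻¹ * u * s) = s⁻¹ * (c * u) * s := by group
          _ = s⁻¹ * (u * c) * s := by rw [hc]
          _ = _ := by group
    have h2 : c ∈ normalizer (cj s R : Set G) := by
      rw [normalizer_cj]; exact mem_cj.2 h1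
    exact conj_mem_of_normalizer h2 hv
  mv := Rm_not_norm h g
  gen := gen4 h g

end

end Cfsg.Agent.Omega.Hex

end

end

-- merged: Cfsg.Agent.Mrg.Omega.Hex.Close
section

section


/-!
# The braid relation of length six and the BN-pair for the node `b = 2`
-/

set_option autoImplicit false
set_option linter.dupNamespace false

universe u

namespace Cfsg.Agent.Omega.Hex

open Subgroup Cfsg.Agent.Omega.BTwo Cfsg.Agent.Omega.RootLemma Cfsg.Agent.RankTwoClose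
open scoped Pointwise

variable {G : Type u} [Group G] [Finite G] {P₁ P₂ B U H V R W Y D : Subgroup G} {n₁ n₂ : G} {q r : ℕ}

section

variable (h : Hex P₁ P₂ B U H V R W Y D n₁ n₂ q r)
include h

theorem exists_swap : ∃ l ∈ LL n₁ n₂ R, n₁⁻¹ * l ∈ B ∧ l * n₁ ∈ B := by
  obtain ⟨l, hl, hlB⟩ := LL_trans h h.n₁P
  have h1 : n₁⁻¹ * l ∈ B := by
    have := B.inv_mem hlB
    rwa [mul_inv_rev, inv_inv] at this
  have h2 : n₁⁻¹ * (l * n₁) ∉ B := by
    intro hc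
    rw [← mul_assoc] at hc
    exact h.n₁B ((B.mul_mem_cancel_left h1).1 hc)
  obtain ⟨f, hf, hfx⟩ := h.transRp (P₁.mul_mem (LL_le_P₁ h hl) h.n₁P) h2
  refine ⟨f⁻¹ * l, mul_mem (inv_mem (mem_sup_right hf)) hl, ?_, ?_⟩
  · have h3 : n₁⁻¹ * f * n₁ ∈ B := h.UB (h.Rm_le_U (mem_cj.1 hf))
    have e1 : n₁⁻¹ * (f⁻¹ * l) = (n₁⁻¹ * f * n₁)⁻¹ * (n₁⁻¹ * l) := by group
    rw [e1]
    exact B.mul_mem (B.inv_mem h3) h1
  · rw [mul_assoc]; exact hfx

theorem H_le_cj : H ≤ cj n₁ B := by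
  intro x hx
  exact h.H₁ ⟨h.HB hx, le_normalizer hx⟩

theorem H_norm_LL {x : G} (hx : x ∈ H) {l : G} (hl : l ∈ LL n₁ n₂ R) : x * l * x⁻¹ ∈ LL n₁ n₂ R := by
  have h1 : cj x (LL n₁ n₂ R) = LL n₁ n₂ R := by
    rw [LL, cj_sup, cj_eq_self_iff.2 (h.HnRm hx), cj_eq_self_iff.2 (h.HnRp hx)]
  rw [← h1]
  exact conj_mem_cj hl

theorem thick (i : Bool) : ∃ b ∈ h.frame.B, h.frame.n i * b * (h.frame.n i)⁻¹ ∉ h.frame.B := by
  have key : ∀ n b : G, n * n ∈ B → n * b * n⁻¹ ∈ B → n⁻¹ * b * n ∈ B := by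
    intro n b hn hb
    have e : n⁻¹ * b * n = (n * n)⁻¹ * (n * b * n⁻¹) * (n * n) := by group
    rw [e]
    exact B.mul_mem (B.mul_mem (B.inv_mem hn) hb) hn
  cases i
  · obtain ⟨e, he, he1⟩ := exists_ne_Rm h
    refine ⟨e, h.UB (h.Rm_le_U he), fun hc => he1 (h.Rm_semireg he (key _ _ h.n₁sq hc))⟩
  · have h1 : ∃ y ∈ Y, y ∉ W := by
      by_contra hcon
      push Not at hcon
      have h2 : W ⊓ Y = Y := inf_eq_right.2 hcon
      have h3 := h.cY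
      rw [h2] at h3
      have h4 : 0 < Nat.card Y := Nat.card_pos
      have h5 := h.r4
      nlinarith
    obtain ⟨y, hy, hyW⟩ := h1
    refine ⟨y, h.YB hy, fun hc => hyW (h.ker₂ ⟨hy, mem_cj.2 (key _ _ h.n₂sq hc)⟩)⟩

end

section

variable (h : Hex P₁ P₂ B U H V R W Y D n₁ n₂ q r) (g : Glob H R)
include h g

/-- `C_U(A) = R₋₂` -/
theorem inf_cent : ∀ x ∈ U, (∀ a ∈ CH H (cj n₁ (cj n₂ (cj n₁ R))), x * a = a * x) →
    x ∈ cj n₂ (cj n₁ R) := by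
  intro x hx hc
  have h1 : U ⊓ centralizer (CH H (cj n₁ (cj n₂ (cj n₁ R))) : Set G) ≤ cj n₂ (cj n₁ R) := by
    refine sylm h g (h.two.to_le inf_le_left) ?_ ?_
    · intro y hy a ha
      exact ((mem_centralizer_iff.1 hy.2) a ha).symm
    · refine le_inf h.Rm_le_U fun y hy => mem_centralizer_iff.2 fun a ha => ?_
      exact (LL_comm h y (mem_sup_left hy) a ha).symm
  exact h1 ⟨hx, mem_centralizer_iff.2 fun a ha => (hc a ha).symm⟩

/-- the stabiliser in `L` of the two `H`-invariant points is in `H` -/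
theorem stab_le_H : LL n₁ n₂ R ⊓ (B ⊓ cj n₁ B) ≤ H := by
  set T := LL n₁ n₂ R ⊓ (B ⊓ cj n₁ B) with hT
  have hodd : Odd (Nat.card T) := by
    rw [← Nat.not_even_iff_odd, even_iff_two_dvd]
    intro hdvd
    obtain ⟨⟨t, ht⟩, hto⟩ := exists_prime_orderOf_dvd_card' 2 hdvd
    rw [orderOf_mk] at hto
    have ht1 : t ≠ 1 := fun hc => by rw [hc, orderOf_one] at hto; omega
    have hn : t ∈ normalizer (cj n₂ (cj n₁ R) : Set G) := by
      refine mem_normalizer_of_conj fun e he => ?_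
      refine inf_cent h g _ (conj_mem_of_normalizer (h.nU ht.2.1) (h.Rm_le_U he)) fun a ha => ?_
      have h1 := LL_comm h t ht.1 a ha
      have h2 := LL_comm h e (mem_sup_left he) a ha
      have h3 : t⁻¹ * a = a * t⁻¹ := by
        calc t⁻¹ * a = t⁻¹ * (a * t) * t⁻¹ := by group
          _ = t⁻¹ * (t * a) * t⁻¹ := by rw [h1]
          _ = _ := by group
      calc t * e * t⁻¹ * a = t * e * (t⁻¹ * a) := by group
        _ = t * (e * a) * t⁻¹ := by rw [h3]; group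
        _ = (t * a) * e * t⁻¹ := by rw [h2]; group
        _ = a * (t * e * t⁻¹) := by rw [h1]; group
    have hz : IsPGroup 2 (zpowers t) := by
      refine IsPGroup.of_card (n := 1) ?_
      rw [Nat.card_zpowers, hto, pow_one]
    have h2g : IsPGroup 2 ((zpowers t ⊔ cj n₂ (cj n₁ R) : Subgroup G)) :=
      IsPGroup.to_sup_of_normal_right' hz (isPGroup_cj (isPGroup_cj (two_R h)))
        (by rw [zpowers_le]; exact hn)
    have h3 := sylm h g h2g (by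
      intro x hx a ha
      refine LL_comm h x ?_ a ha
      refine (sup_le ?_ le_sup_left : _ ≤ LL n₁ n₂ R) hx
      rw [zpowers_le]; exact ht.1) le_sup_right
    have h4 : t ∈ cj n₂ (cj n₁ R) := h3 (mem_sup_left (mem_zpowers t))
    exact ht1 (h.Rm_semireg h4 (mem_cj.1 ht.2.2))
  have hHT : ∀ x ∈ H, x ∈ normalizer (T : Set G) := by
    intro x hx
    refine mem_normalizer_of_conj fun y hy => ⟨H_norm_LL h hx hy.1, ?_, ?_⟩
    · exact B.mul_mem (B.mul_mem (h.HB hx) hy.2.1) (B.inv_mem (h.HB hx))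
    · have h1 := H_le_cj h hx
      exact (cj n₁ B).mul_mem ((cj n₁ B).mul_mem h1 hy.2.2) ((cj n₁ B).inv_mem h1)
  have hcard : Odd (Nat.card (H ⊔ T : Subgroup G)) := by
    have h1 : Nat.card (H ⊔ T : Subgroup G) ∣ Nat.card H * Nat.card T := by
      have h2 := Lib.ProductSet.card_mul_card_inf H T
      have h3 : ((H : Set G) * (T : Set G)) = ((H ⊔ T : Subgroup G) : Set G) :=
        (coe_mul_of_left_le_normalizer_right H T hHT).symm
      rw [h3] at h2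
      exact Dvd.intro _ h2
    exact Odd.of_dvd_nat (h.oddH.mul hodd) h1
  have h5 := h.hall (H ⊔ T) (sup_le h.HB (inf_le_right.trans inf_le_left)) le_sup_left hcard
  exact le_sup_right.trans h5

theorem exists_l : ∃ l ∈ LL n₁ n₂ R, n₁⁻¹ * l ∈ h.frame.H₁ := by
  obtain ⟨l, hl, hl1, hl2⟩ := exists_swap h
  refine ⟨l, hl, ?_⟩
  have hn : l⁻¹ ∈ normalizer (H : Set G) := by
    refine mem_normalizer_of_conj fun x hx => ?_
    rw [inv_inv]
    have h1 : l⁻¹ * x * l * x⁻¹ ∈ LL n₁ n₂ R := by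
      have := H_norm_LL h hx hl
      have e1 : l⁻¹ * x * l * x⁻¹ = l⁻¹ * (x * l * x⁻¹) := by group
      rw [e1]
      exact mul_mem (inv_mem hl) this
    have h2 : l⁻¹ * x * l ∈ B := by
      have h3 : n₁⁻¹ * x * n₁ ∈ B := mem_cj.1 (H_le_cj h hx)
      have e1 : l⁻¹ * x * l = (n₁⁻¹ * l)⁻¹ * (n₁⁻¹ * x * n₁) * (n₁⁻¹ * l) := by group
      rw [e1]
      exact B.mul_mem (B.mul_mem (B.inv_mem hl1) h3) hl1
    have h4 : l⁻¹ * x * l ∈ cj n₁ B := by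
      rw [mem_cj]
      have e1 : n₁⁻¹ * (l⁻¹ * x * l) * n₁ = (l * n₁)⁻¹ * x * (l * n₁) := by group
      rw [e1]
      exact B.mul_mem (B.mul_mem (B.inv_mem hl2) (h.HB hx)) hl2
    have h5 : l⁻¹ * x * l * x⁻¹ ∈ H :=
      stab_le_H h g ⟨h1, B.mul_mem h2 (B.inv_mem (h.HB hx)),
        (cj n₁ B).mul_mem h4 ((cj n₁ B).inv_mem (H_le_cj h hx))⟩
    have e6 : l⁻¹ * x * l = (l⁻¹ * x * l * x⁻¹) * x := by group
    rw [e6]
    exact H.mul_mem h5 hx
  exact ⟨hl1, (normalizer (H : Set G)).mul_mem ((normalizer (H : Set G)).inv_mem h.n₁H)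
    ((normalizer (H : Set G)).inv_mem_iff.1 hn)⟩

/-- THE BRAID RELATION of length six. -/
theorem braid (hB : Bender.{u}) : h.frame.Braid 6 := by
  obtain ⟨l, hl, hl1⟩ := exists_l h g
  refine h.frame.braid_of_root (m := 5) (i := false) hB (root h g) hl hl1 (LL_le_P₁ h)
    (by decide) ?_
  intro a ha
  have hw : alt h.frame.n (!false) 5 = n₂ * (n₁ * (n₂ * (n₁ * n₂))) := by
    simp [alt_succ]
  rw [hw]
  set w := n₂ * (n₁ * (n₂ * (n₁ * n₂))) with hwd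
  have hwH : w ∈ normalizer (H : Set G) :=
    mul_mem h.n₂H (mul_mem h.n₁H (mul_mem h.n₂H (mul_mem h.n₁H h.n₂H)))
  have h1 : cj w (cj n₂ (cj n₁ R)) = cj n₂ (cj n₁ R) := by
    have h2 : cj n₂ (cj n₂ (cj n₁ R)) = cj n₁ R := by
      rw [← cj_mul]
      exact cj_eq_self_iff.2 (h.nR2 ⟨h.n₂sq, mul_mem h.n₂H h.n₂H⟩)
    rw [hwd, cj_mul, cj_mul, cj_mul, cj_mul, h2, h.sq₁ h.BnR, h.cj_n₂R]
  have h3 : cj w (CH H (cj n₁ (cj n₂ (cj n₁ R)))) = CH H (cj n₁ (cj n₂ (cj n₁ R))) := by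
    rw [← h.CH_eq, cj_CH_of_mem hwH, h1]
  rw [← h3] at ha
  exact mem_cj.1 ha

/-- **CLOSING of the node `b = 2`** (types `G₂(q)`, `³D₄(q)`): `⟨P₁, P₂⟩` has a split BN-pair of rank
two. -/
theorem exists_split (hB : Bender.{u}) (hp : ∀ k < 6, h.frame.PathTo k) {X : Subgroup G}
    (hX : P₁ ⊔ P₂ = X) :
    ∃ Q : Cfsg.BNPair X, Q.rank = 2 ∧ Q.IsSplit ∧ Q.B = B.subgroupOf X ∧
      (∀ x : X, x ∈ Q.N ↔ (x : G) ∈ h.frame.N) := by
  refine h.frame.exists_split_sup (braid h g hB) (by norm_num) hp (thick h) U h.UB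
    (fun b hb u hu => conj_mem_of_normalizer (h.nU hb) hu) (h.two.isNilpotent) h.frat hX

end

end Cfsg.Agent.Omega.Hex

end

section


/-!
# (PATH) of THEOREM R2T for the `b = 2` node (types `G₂(q)`, `³D₄(q)`), blueprint
`OMEGA-EH5-b2-helper195.md`, section 2.

`Tr B P F g` : `F` is transitive on the cosets `≠ gB` in `gP/B`.  `Loc` : the local facts, for arbitrary
elements `p ∈ Pᵢ ∖ B`; `Hex.loc` : they follow from `Hex` (orders!).  `Loc.one_k`, `Loc.two_k` : the group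
which fixes the first chambers of an alternating gallery is transitive on the next panel.
-/

set_option autoImplicit false
set_option linter.dupNamespace false

universe u

namespace Cfsg.Agent.Omega.Hex

open Subgroup Cfsg.Agent.Omega.BTwo
open scoped Pointwise

variable {G : Type u} [Group G]

/-- `F` is transitive on the cosets `≠ gB` in `gP/B` -/
def Tr (B P F : Subgroup G) (g : G) : Prop :=
  ∀ p ∈ P, p ∉ B → ∀ p' ∈ P, p' ∉ B → ∃ f ∈ F, (g * p')⁻¹ * f * (g * p) ∈ B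

theorem Tr.mono {B P F F' : Subgroup G} {g : G} (h : Tr B P F g) (hF : F ≤ F') : Tr B P F' g := by
  intro p hp hp1 p' hp' hp1'
  obtain ⟨f, hf, e⟩ := h p hp hp1 p' hp' hp1'
  exact ⟨f, hF hf, e⟩

/-- moving the base point -/
theorem Tr.cj {B P F : Subgroup G} {g : G} (x : G) (h : Tr B P F g) :
    Tr B P (BTwo.cj x F) (x * g) := by
  intro p hp hp1 p' hp' hp1'
  obtain ⟨f, hf, e⟩ := h p hp hp1 p' hp' hp1'
  refine ⟨x * f * x⁻¹, conj_mem_cj hf, ?_⟩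
  have e1 : (x * g * p')⁻¹ * (x * f * x⁻¹) * (x * g * p) = (g * p')⁻¹ * f * (g * p) := by group
  rwa [e1]

theorem Tr.of_cj {B P F : Subgroup G} {x : G} (h : Tr B P (BTwo.cj x⁻¹ F) 1) : Tr B P F x := by
  have := h.cj x
  rwa [cj_cj_inv, mul_one] at this

/-- if `F K = F'` and `K` fixes all cosets, `F` is transitive as soon as `F'` is -/
theorem Tr.of_mul {B P F F' K : Subgroup G} (h : Tr B P F' 1)
    (hF : ∀ x ∈ F', ∃ f ∈ F, ∃ k ∈ K, f * k = x)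
    (hK : ∀ k ∈ K, ∀ p ∈ P, p⁻¹ * k * p ∈ B) : Tr B P F 1 := by
  intro p hp hp1 p' hp' hp1'
  obtain ⟨x, hx, e⟩ := h p hp hp1 p' hp' hp1'
  obtain ⟨f, hf, k, hk, rfl⟩ := hF x hx
  refine ⟨f, hf, ?_⟩
  have h1 := hK k hk p hp
  rw [one_mul] at e ⊢
  have e2 : p'⁻¹ * f * (1 * p) = p'⁻¹ * (f * k) * (1 * p) * (p⁻¹ * k * p)⁻¹ := by group
  rw [e2]
  exact B.mul_mem e (B.inv_mem h1)

theorem exists_mul_of_card [Finite G] {F K Y : Subgroup G} (hF : F ≤ Y) (hK : K ≤ Y)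
    (hc : Nat.card Y * Nat.card (F ⊓ K : Subgroup G) ≤ Nat.card F * Nat.card K) :
    ∀ y ∈ Y, ∃ f ∈ F, ∃ k ∈ K, f * k = y := by
  have h1 := Lib.ProductSet.card_mul_card_inf F K
  have h0 : 0 < Nat.card (F ⊓ K : Subgroup G) := Nat.card_pos
  have h2 : Nat.card Y ≤ Nat.card ((F : Set G) * (K : Set G) : Set G) := by
    rw [← h1] at hc
    exact Nat.le_of_mul_le_mul_right hc h0
  have h3 : ((F : Set G) * (K : Set G) : Set G) ⊆ (Y : Set G) := by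
    rintro _ ⟨f, hf, k, hk, rfl⟩
    exact Y.mul_mem (hF hf) (hK hk)
  have h4 : ((F : Set G) * (K : Set G) : Set G) = (Y : Set G) := by
    apply Set.eq_of_subset_of_ncard_le h3 _ (Set.toFinite _)
    rw [Set.ncard_def, Set.ncard_def]
    exact h2
  intro y hy
  have : y ∈ ((F : Set G) * (K : Set G) : Set G) := by rw [h4]; exact hy
  obtain ⟨f, hf, k, hk, e⟩ := this
  exact ⟨f, hf, k, hk, e⟩

/-- The local data, for arbitrary elements of `P₁ ∖ B`, `P₂ ∖ B`. -/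
structure Loc (B P₁ P₂ R V D W Y : Subgroup G) : Prop where
  B_le₁ : B ≤ P₁
  B_le₂ : B ≤ P₂
  W_le : W ≤ B
  Y_le : Y ≤ B
  W_nrm : ∀ p ∈ P₂, cj p W = W
  R_nrm : ∀ p ∈ P₂, cj p R = R
  Y_nrm : ∀ p ∈ P₁, cj p Y = Y
  V_nrm : ∀ p ∈ P₁, cj p V = V
  D_nrm : ∀ p ∈ P₁, cj p D = D
  R_le : R ≤ V
  V_le : V ≤ D
  D_le_Y : D ≤ Y
  D_eq : ∀ p ∈ P₁, p ∉ B → W ⊓ cj p W = D
  ex₁ : ∃ p ∈ P₁, p ∉ B
  /-- (t1) -/
  t1 : Tr B P₁ W 1
  /-- (t2) -/
  t2 : Tr B P₂ Y 1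
  /-- `Y = U_j U_i` -/
  Y_gen : ∀ p ∈ P₁, p ∉ B → ∀ y ∈ Y, ∃ u ∈ cj p (W ⊓ Y), ∃ u' ∈ W ⊓ Y, u * u' = y
  /-- (t3) -/
  R_gen : ∀ p ∈ P₂, p ∉ B → ∀ p' ∈ P₁, p' ∉ B → ∀ w ∈ W, ∃ r ∈ cj (p * p') R, ∃ u ∈ W ⊓ Y, r * u = w
  R_inf : ∀ p ∈ P₂, p ∉ B → ∀ p' ∈ P₁, p' ∉ B → cj (p * p') R ⊓ Y = ⊥
  V_inf : ∀ p ∈ P₂, p ∉ B → cj p V ⊓ Y = R
  /-- (H5) -/
  H5 : ∀ p ∈ P₂, p ∉ B → D ⊓ cj p D = R
  /-- `|Y : W ∩ Y| = |D : V|` -/
  card : Nat.card Y * Nat.card V = Nat.card (W ⊓ Y : Subgroup G) * Nat.card D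

namespace Loc

variable {B P₁ P₂ R V D W Y : Subgroup G} (h : Loc B P₁ P₂ R V D W Y)
include h

theorem D_le_W : D ≤ W := by
  obtain ⟨p, hp, hpB⟩ := h.ex₁
  rw [← h.D_eq p hp hpB]
  exact inf_le_left

theorem W_fix {w p : G} (hw : w ∈ W) (hp : p ∈ P₂) : p⁻¹ * w * p ∈ W := by
  rw [← h.W_nrm p hp] at hw
  exact mem_cj.1 hw

theorem Y_fix {w p : G} (hw : w ∈ Y) (hp : p ∈ P₁) : p⁻¹ * w * p ∈ Y := by
  rw [← h.Y_nrm p hp] at hw
  exact mem_cj.1 hw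

theorem V_fix {w p : G} (hw : w ∈ V) (hp : p ∈ P₁) : p⁻¹ * w * p ∈ V := by
  rw [← h.V_nrm p hp] at hw
  exact mem_cj.1 hw

/-- `W = V (W ∩ Y^{p⁻¹})` -/
theorem W_split {p a : G} (hp : p ∈ P₂) (hpB : p ∉ B) (ha : a ∈ W) :
    ∃ b ∈ W ⊓ cj p⁻¹ Y, ∃ v ∈ V, b * v = a := by
  obtain ⟨p', hp', hpB'⟩ := h.ex₁
  have ha' : p * a * p⁻¹ ∈ W := by
    have := conj_mem_cj (g := p) ha
    rwa [h.W_nrm p hp] at this
  obtain ⟨r, hr, u, hu, e⟩ := h.R_gen p hp hpB p' hp' hpB' _ ha'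
  have hr' : p⁻¹ * r * p ∈ V := by
    rw [cj_mul, mem_cj] at hr
    have h1 := cj_mono (g := p') h.R_le hr
    rwa [h.V_nrm p' hp'] at h1
  have hu1 : p⁻¹ * u * p ∈ W := h.W_fix hu.1 hp
  have hu2 : p⁻¹ * u * p ∈ cj p⁻¹ Y := by
    have := conj_mem_cj (g := p⁻¹) hu.2
    rwa [inv_inv] at this
  set v := p⁻¹ * r * p with hv
  set b := p⁻¹ * u * p with hb
  have e1 : v * b = a := by
    rw [hv, hb]
    have : p⁻¹ * r * p * (p⁻¹ * u * p) = p⁻¹ * (r * u) * p := by group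
    rw [this, e]; group
  have hbP : b ∈ P₁ := h.B_le₁ (h.W_le hu1)
  refine ⟨b, ⟨hu1, hu2⟩, b⁻¹ * v * b, h.V_fix hr' hbP, ?_⟩
  rw [← e1]; group

theorem tr_R {p p' : G} (hp : p ∈ P₂) (hpB : p ∉ B) (hp' : p' ∈ P₁) (hpB' : p' ∉ B) :
    Tr B P₁ (cj (p * p') R) 1 :=
  h.t1.of_mul (K := W ⊓ Y) (h.R_gen p hp hpB p' hp' hpB')
    (fun _ hk _ hq => h.Y_le (h.Y_fix hk.2 hq))

theorem tr_V {p : G} (hp : p ∈ P₂) (hpB : p ∉ B) : Tr B P₁ (cj p V) 1 := by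
  obtain ⟨p', hp', hpB'⟩ := h.ex₁
  refine (h.tr_R hp hpB hp' hpB').mono ?_
  rw [cj_mul]
  apply cj_mono
  have := cj_mono (g := p') h.R_le
  rwa [h.V_nrm p' hp'] at this

omit h in
theorem inv_notMem {p : G} (hpB : p ∉ B) : p⁻¹ ∉ B := fun hc => hpB (by
  have := B.inv_mem hc
  rwa [inv_inv] at this)

/-- a subgroup `F` of `Y` with `|F : F ∩ W| ≥ |D : V|` is transitive on the panel of `P₂` -/
theorem tr_of_card [Finite G] {F : Subgroup G} (hF : F ≤ Y)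
    (hc : Nat.card D * Nat.card (F ⊓ W : Subgroup G) ≤ Nat.card V * Nat.card F) : Tr B P₂ F 1 := by
  refine h.t2.of_mul (K := W ⊓ Y) ?_ (fun k hk q hq => h.W_le (h.W_fix hk.1 hq))
  apply exists_mul_of_card hF inf_le_right
  have e : F ⊓ (W ⊓ Y) = F ⊓ W := by
    rw [← inf_assoc, inf_eq_left]
    exact inf_le_left.trans hF
  rw [e]
  have hV : 0 < Nat.card V := Nat.card_pos
  apply Nat.le_of_mul_le_mul_right _ hV
  calc Nat.card Y * Nat.card (F ⊓ W : Subgroup G) * Nat.card V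
      = (Nat.card Y * Nat.card V) * Nat.card (F ⊓ W : Subgroup G) := by ring
    _ = Nat.card (W ⊓ Y : Subgroup G) * (Nat.card D * Nat.card (F ⊓ W : Subgroup G)) := by
        rw [h.card]; ring
    _ ≤ Nat.card (W ⊓ Y : Subgroup G) * (Nat.card V * Nat.card F) := Nat.mul_le_mul_left _ hc
    _ = Nat.card F * Nat.card (W ⊓ Y : Subgroup G) * Nat.card V := by ring

/-- `|D : D ∩ Y^p| = |V : R|` -/
theorem card_D_inf [Finite G] {p : G} (hp : p ∈ P₂) (hpB : p ∉ B) :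
    Nat.card (D ⊓ cj p Y : Subgroup G) * Nat.card V = Nat.card D * Nat.card R := by
  have h1 := Lib.ProductSet.card_mul_card_inf (D ⊓ cj p Y) V
  have h2 : ((D ⊓ cj p Y : Subgroup G) : Set G) * (V : Set G) = (D : Set G) := by
    apply Set.eq_of_subset_of_subset
    · rintro _ ⟨a, ha, v, hv, rfl⟩
      exact D.mul_mem ha.1 (h.V_le hv)
    · intro d hd
      obtain ⟨b, hb, v, hv, e⟩ := h.W_split (P₂.inv_mem hp) (inv_notMem hpB) (h.D_le_W hd)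
      rw [inv_inv] at hb
      refine ⟨b, ⟨?_, hb.2⟩, v, hv, e⟩
      have : b = d * v⁻¹ := by rw [← e]; group
      rw [this]
      exact D.mul_mem hd (D.inv_mem (h.V_le hv))
  have h3 : (D ⊓ cj p Y) ⊓ V = R := by
    have h4 := congrArg (cj p) (h.V_inf p⁻¹ (P₂.inv_mem hp) (inv_notMem hpB))
    rw [cj_inf, cj_cj_inv, h.R_nrm p hp] at h4
    rw [← h4]
    apply le_antisymm
    · exact le_inf inf_le_right (inf_le_left.trans inf_le_right)
    · exact le_inf (le_inf (inf_le_left.trans h.V_le) inf_le_right) inf_le_left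
  rw [h3] at h1
  rw [← h1]
  congr 1
  rw [← SetLike.coe_sort_coe D, ← h2]

/-! ### type 1 -/

theorem one_two {p1 : G} (h1 : p1 ∈ P₁) : Tr B P₂ Y p1 := by
  apply Tr.of_cj
  rw [h.Y_nrm _ (P₁.inv_mem h1)]
  exact h.t2

theorem one_three {p2 : G} (h2 : p2 ∈ P₂) (n2 : p2 ∉ B) : Tr B P₁ (W ⊓ Y) p2 := by
  apply Tr.of_cj
  refine (h.tr_V (P₂.inv_mem h2) (inv_notMem n2)).mono ?_
  apply cj_mono
  exact le_inf (h.V_le.trans h.D_le_W) (h.V_le.trans h.D_le_Y)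

/-- `F₄` in the coordinates of the third chamber -/
theorem one_four {p2 p3 : G} (h2 : p2 ∈ P₂) (n2 : p2 ∉ B) (h3 : p3 ∈ P₁) (n3 : p3 ∉ B) :
    Tr B P₂ (W ⊓ cj p2⁻¹ Y ⊓ Y) p3 := by
  apply Tr.of_cj
  refine h.t2.of_mul (K := W ⊓ Y) ?_ (fun k hk q hq => h.W_le (h.W_fix hk.1 hq))
  intro y hy
  obtain ⟨u, hu, u', hu', e⟩ := h.Y_gen p3⁻¹ (P₁.inv_mem h3) (inv_notMem n3) y hy
  rw [mem_cj, inv_inv] at hu
  obtain ⟨b, hb, v, hv, e1⟩ := h.W_split h2 n2 hu.1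
  have hvY : v ∈ Y := h.D_le_Y (h.V_le hv)
  have hbY : b ∈ Y := by
    have : b = p3 * u * p3⁻¹ * v⁻¹ := by rw [← e1]; group
    rw [this]
    exact Y.mul_mem hu.2 (Y.inv_mem hvY)
  have hv' : p3⁻¹ * v * p3 ∈ V := h.V_fix hv h3
  refine ⟨p3⁻¹ * b * p3, ?_, p3⁻¹ * v * p3 * u', ?_, ?_⟩
  · have := conj_mem_cj (g := p3⁻¹) (H := W ⊓ cj p2⁻¹ Y ⊓ Y) ⟨hb, hbY⟩
    rwa [inv_inv] at this
  · exact ⟨W.mul_mem (h.D_le_W (h.V_le hv')) hu'.1, Y.mul_mem (h.D_le_Y (h.V_le hv')) hu'.2⟩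
  · have e2 : p3⁻¹ * b * p3 * (p3⁻¹ * v * p3 * u') = p3⁻¹ * (b * v) * p3 * u' := by group
    rw [e2, e1, ← e]; group

theorem one_five {p3 p4 : G} (h3 : p3 ∈ P₁) (n3 : p3 ∉ B) (h4 : p4 ∈ P₂) (n4 : p4 ∉ B) :
    Tr B P₁ R (p3 * p4) := by
  apply Tr.of_cj
  rw [mul_inv_rev]
  exact h.tr_R (P₂.inv_mem h4) (inv_notMem n4) (P₁.inv_mem h3) (inv_notMem n3)

theorem one_six [Finite G] {p2 p3 p4 p5 : G} (h2 : p2 ∈ P₂) (n2 : p2 ∉ B) (h3 : p3 ∈ P₁)
    (n3 : p3 ∉ B) (h4 : p4 ∈ P₂) (n4 : p4 ∉ B) (h5 : p5 ∈ P₁) (n5 : p5 ∉ B) :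
    Tr B P₂ (D ⊓ cj p2⁻¹ Y ⊓ cj (p3 * p4) Y) (p3 * p4 * p5) := by
  apply Tr.of_cj
  set E := D ⊓ cj p2⁻¹ Y ⊓ cj (p3 * p4) Y with hE
  have h34 : cj (p3 * p4 * p5) Y = cj (p3 * p4) Y := by rw [cj_mul (p3 * p4), h.Y_nrm p5 h5]
  have hDW3 : D ≤ cj (p3 * p4) W := by
    rw [cj_mul, h.W_nrm p4 h4, ← h.D_eq p3 h3 n3]
    exact inf_le_right
  have hEW : E ⊓ cj (p3 * p4 * p5) W = ⊥ := by
    rw [eq_bot_iff]
    intro x hx
    have hxD : x ∈ D := hx.1.1.1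
    have hx1 : x ∈ cj (p3 * p4) D := by
      rw [← h.D_eq p5 h5 n5, cj_inf, ← cj_mul]
      exact ⟨hDW3 hxD, hx.2⟩
    have hx2 : x ∈ cj p3 R := by
      rw [← h.H5 p4 h4 n4, cj_inf, h.D_nrm p3 h3, ← cj_mul]
      exact ⟨hxD, hx1⟩
    have hx3 : p2 * x * p2⁻¹ ∈ cj (p2 * p3) R ⊓ Y := by
      refine ⟨?_, ?_⟩
      · rw [cj_mul]; exact conj_mem_cj hx2
      · have := mem_cj.1 hx.1.1.2
        rwa [inv_inv] at this
    rw [h.R_inf p2 h2 n2 p3 h3 n3, mem_bot] at hx3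
    rw [mem_bot]
    have : x = p2⁻¹ * (p2 * x * p2⁻¹) * p2 := by group
    rw [this, hx3]; group
  -- `|E| |V| = |D|`
  have hEc : Nat.card E * Nat.card V = Nat.card D := by
    have c1 := h.card_D_inf (P₂.inv_mem h2) (inv_notMem n2)
    have c2 := Lib.ProductSet.card_mul_card_inf E R
    have hR1 : R ≤ D ⊓ cj p2⁻¹ Y := by
      refine le_inf (h.R_le.trans h.V_le) ?_
      rw [← h.R_nrm p2⁻¹ (P₂.inv_mem h2)]
      exact cj_mono (h.R_le.trans (h.V_le.trans h.D_le_Y))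
    have c3 : ((E : Subgroup G) : Set G) * (R : Set G) = ((D ⊓ cj p2⁻¹ Y : Subgroup G) : Set G) := by
      apply Set.eq_of_subset_of_subset
      · rintro _ ⟨a, ha, v, hv, rfl⟩
        exact (D ⊓ cj p2⁻¹ Y).mul_mem ha.1 (hR1 hv)
      · intro d hd
        -- `(p3 p4)⁻¹ d (p3 p4) ∈ W`
        have hd1 : (p3 * p4)⁻¹ * d⁻¹ * (p3 * p4) ∈ W := mem_cj.1 (hDW3 (D.inv_mem hd.1))
        obtain ⟨r, hr, u, hu, e⟩ := h.R_gen p4⁻¹ (P₂.inv_mem h4) (inv_notMem n4) p3⁻¹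
          (P₁.inv_mem h3) (inv_notMem n3) _ hd1
        rw [← mul_inv_rev, mem_cj, inv_inv] at hr
        refine ⟨(p3 * p4) * u⁻¹ * (p3 * p4)⁻¹, ?_, ((p3 * p4) * r * (p3 * p4)⁻¹)⁻¹, R.inv_mem hr, ?_⟩
        · have hx : (p3 * p4) * u⁻¹ * (p3 * p4)⁻¹ ∈ cj (p3 * p4) Y :=
            conj_mem_cj (Y.inv_mem hu.2)
          refine ⟨?_, hx⟩
          have e3 : (p3 * p4) * u⁻¹ * (p3 * p4)⁻¹ = d * ((p3 * p4) * r * (p3 * p4)⁻¹) := by
            have : u = r⁻¹ * ((p3 * p4)⁻¹ * d⁻¹ * (p3 * p4)) := by rw [← e]; group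
            rw [this]; group
          rw [e3]
          exact (D ⊓ cj p2⁻¹ Y).mul_mem hd (hR1 hr)
        · have : u = r⁻¹ * ((p3 * p4)⁻¹ * d⁻¹ * (p3 * p4)) := by rw [← e]; group
          rw [this]; group
    have c4 : E ⊓ R = ⊥ := by
      rw [eq_bot_iff]
      intro x hx
      have h1 : (p3 * p4)⁻¹ * x * (p3 * p4) ∈ cj (p4⁻¹ * p3⁻¹) R ⊓ Y := by
        refine ⟨?_, mem_cj.1 hx.1.2⟩
        rw [← mul_inv_rev]
        refine mem_cj.2 ?_
        rw [inv_inv]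
        have : (p3 * p4) * ((p3 * p4)⁻¹ * x * (p3 * p4)) * (p3 * p4)⁻¹ = x := by group
        rw [this]; exact hx.2
      rw [h.R_inf p4⁻¹ (P₂.inv_mem h4) (inv_notMem n4) p3⁻¹ (P₁.inv_mem h3) (inv_notMem n3),
        mem_bot] at h1
      rw [mem_bot]
      have : x = (p3 * p4) * ((p3 * p4)⁻¹ * x * (p3 * p4)) * (p3 * p4)⁻¹ := by group
      rw [this, h1]; group
    rw [c4, c3, Subgroup.card_bot, mul_one] at c2
    have hR : 0 < Nat.card R := Nat.card_pos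
    apply Nat.eq_of_mul_eq_mul_right hR
    rw [← c1]
    have c5 : Nat.card ((D ⊓ cj p2⁻¹ Y : Subgroup G) : Set G) =
        Nat.card (D ⊓ cj p2⁻¹ Y : Subgroup G) := rfl
    rw [← c5, c2]
    ring
  have hF : cj (p3 * p4 * p5)⁻¹ E ≤ Y := by
    have h1 : E ≤ cj (p3 * p4 * p5) Y := by rw [h34]; exact inf_le_right
    have := cj_mono (g := (p3 * p4 * p5)⁻¹) h1
    rwa [cj_inv_cj] at this
  apply h.tr_of_card hF
  have e1 : cj (p3 * p4 * p5)⁻¹ E ⊓ W = ⊥ := by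
    have := congrArg (cj (p3 * p4 * p5)⁻¹) hEW
    rwa [cj_inf, cj_inv_cj, cj_bot] at this
  rw [e1, Subgroup.card_bot, mul_one, card_cj, mul_comm, hEc]

/-! ### type 2 -/

theorem two_two {p1 : G} (h1 : p1 ∈ P₂) : Tr B P₁ W p1 := by
  apply Tr.of_cj
  rw [h.W_nrm _ (P₂.inv_mem h1)]
  exact h.t1

theorem two_three {p2 : G} (h2 : p2 ∈ P₁) (n2 : p2 ∉ B) : Tr B P₂ (W ⊓ Y) p2 := by
  apply Tr.of_cj
  refine h.t2.of_mul (K := W ⊓ Y) ?_ (fun k hk q hq => h.W_le (h.W_fix hk.1 hq))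
  exact h.Y_gen p2⁻¹ (P₁.inv_mem h2) (inv_notMem n2)

theorem two_four {p3 : G} (h3 : p3 ∈ P₂) (n3 : p3 ∉ B) : Tr B P₁ D p3 := by
  apply Tr.of_cj
  exact (h.tr_V (P₂.inv_mem h3) (inv_notMem n3)).mono (cj_mono h.V_le)

theorem two_five [Finite G] {p3 p4 : G} (h3 : p3 ∈ P₂) (n3 : p3 ∉ B) (h4 : p4 ∈ P₁) (n4 : p4 ∉ B) :
    Tr B P₂ (D ⊓ cj p3 Y) (p3 * p4) := by
  apply Tr.of_cj
  have hF : cj (p3 * p4)⁻¹ (D ⊓ cj p3 Y) ≤ Y := by
    have h1 := cj_mono (g := (p3 * p4)⁻¹) (inf_le_right : D ⊓ cj p3 Y ≤ cj p3 Y)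
    have h2 : cj (p3 * p4)⁻¹ (cj p3 Y) = Y := by
      rw [mul_inv_rev, cj_mul, cj_inv_cj, h.Y_nrm _ (P₁.inv_mem h4)]
    rwa [h2] at h1
  apply h.tr_of_card hF
  have e1 : cj (p3 * p4)⁻¹ (D ⊓ cj p3 Y) ⊓ W ≤ cj (p3 * p4)⁻¹ R := by
    have h1 : (D ⊓ cj p3 Y) ⊓ cj (p3 * p4) W ≤ R := by
      rintro x ⟨⟨hx1, -⟩, hx2⟩
      rw [← h.H5 p3 h3 n3]
      refine ⟨hx1, ?_⟩
      rw [← h.D_eq p4 h4 n4, cj_inf, ← cj_mul]
      refine ⟨?_, hx2⟩
      rw [h.W_nrm p3 h3]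
      exact h.D_le_W hx1
    have h2 := cj_mono (g := (p3 * p4)⁻¹) h1
    rwa [cj_inf, cj_inv_cj] at h2
  have e2 : Nat.card (cj (p3 * p4)⁻¹ (D ⊓ cj p3 Y) ⊓ W : Subgroup G) ≤ Nat.card R := by
    rw [← card_cj (p3 * p4)⁻¹ R]
    exact Subgroup.card_le_of_le e1
  rw [card_cj]
  calc _ ≤ Nat.card D * Nat.card R := Nat.mul_le_mul_left _ e2
    _ = Nat.card V * Nat.card (D ⊓ cj p3 Y : Subgroup G) := by
      rw [← h.card_D_inf h3 n3, mul_comm]

theorem two_six {p3 p4 p5 : G} (h3 : p3 ∈ P₂) (h4 : p4 ∈ P₁) (n4 : p4 ∉ B)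
    (h5 : p5 ∈ P₂) (n5 : p5 ∉ B) : Tr B P₁ R (p3 * p4 * p5) := by
  apply Tr.of_cj
  have e : cj (p3 * p4 * p5)⁻¹ R = cj (p5⁻¹ * p4⁻¹) R := by
    have : (p3 * p4 * p5)⁻¹ = p5⁻¹ * p4⁻¹ * p3⁻¹ := by group
    rw [this, cj_mul, h.R_nrm _ (P₂.inv_mem h3)]
  rw [e]
  exact h.tr_R (P₂.inv_mem h5) (inv_notMem n5) (P₁.inv_mem h4) (inv_notMem n4)

end Loc

section bridge

variable {P₁ P₂ B U H V R W Y D : Subgroup G} {n₁ n₂ : G} {q r : ℕ}

theorem Hex.nrmB₁ (h : Hex P₁ P₂ B U H V R W Y D n₁ n₂ q r) {N : Subgroup G}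
    (hN : P₁ ≤ normalizer (N : Set G)) {b : G} (hb : b ∈ B) : cj b N = N :=
  cj_eq_self_iff.2 (hN (h.B₁ hb))

theorem Hex.nrmB₂ (h : Hex P₁ P₂ B U H V R W Y D n₁ n₂ q r) {N : Subgroup G}
    (hN : P₂ ≤ normalizer (N : Set G)) {b : G} (hb : b ∈ B) : cj b N = N :=
  cj_eq_self_iff.2 (hN (h.B₂ hb))

/-- `V^{n₂} ∩ Y = R` -/
theorem Hex.VV' (h : Hex P₁ P₂ B U H V R W Y D n₁ n₂ q r) : cj n₂ V ⊓ Y = R := by
  have h1 := congrArg (cj n₂⁻¹) h.VV
  rw [cj_inf, cj_inv_cj, cj_eq_self_iff.2 (h.nR (P₂.inv_mem h.n₂P))] at h1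
  have h2 : cj n₂⁻¹ V = cj n₂ V := by
    have e : n₂⁻¹ = n₂ * (n₂ * n₂)⁻¹ := by group
    rw [e, cj_mul, h.nrmB₁ h.nV (B.inv_mem h.n₂sq)]
  rwa [h2] at h1

theorem Hex.loc [Finite G] (h : Hex P₁ P₂ B U H V R W Y D n₁ n₂ q r) :
    Loc B P₁ P₂ R V D W Y := by
  have hWB : W ≤ B := h.WU.trans h.UB
  have hYB : Y ≤ B := h.YU.trans h.UB
  have hWYn : ∀ b ∈ B, cj b (W ⊓ Y) = W ⊓ Y := fun b hb => by
    rw [cj_inf, h.nrmB₂ h.nW hb, h.nrmB₁ h.nY hb]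
  -- normal forms
  have nf₁ : ∀ p ∈ P₁, p ∉ B → ∃ w ∈ W, ∃ b ∈ B, p = w * n₁ * b := fun p hp hpB => by
    obtain ⟨w, hw, hb⟩ := h.trans₁ p hp hpB
    exact ⟨w, hw, _, hb, by group⟩
  have nf₂ : ∀ p ∈ P₂, p ∉ B → ∃ y ∈ Y, ∃ b ∈ B, p = y * n₂ * b := fun p hp hpB => by
    obtain ⟨w, hw, hb⟩ := h.trans₂ p hp hpB
    exact ⟨w, hw, _, hb, by group⟩
  have hDV := h.VV'
  -- `Y = U^{n₁} U`
  have hYn : ∀ y ∈ Y, ∃ u ∈ cj n₁ (W ⊓ Y), ∃ u' ∈ W ⊓ Y, u * u' = y := by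
    apply exists_mul_of_card
    · rw [cj_inf, cj_eq_self_iff.2 (h.nY h.n₁P)]
      exact inf_le_right
    · exact inf_le_right
    · have e : cj n₁ (W ⊓ Y) ⊓ (W ⊓ Y) = D := by
        rw [cj_inf, cj_eq_self_iff.2 (h.nY h.n₁P)]
        apply le_antisymm
        · rw [← h.D_eq]
          exact le_inf (inf_le_right.trans inf_le_left) (inf_le_left.trans inf_le_left)
        · refine le_inf (le_inf ?_ h.DY) (le_inf h.DW h.DY)
          rw [← h.D_eq]; exact inf_le_right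
      rw [e, card_cj, h.cY, h.cWY]
      apply le_of_eq
      ring
  -- the root group `R''`
  have hR2W : cj (n₂ * n₁) R ≤ W := by
    rw [cj_mul]
    have h1 : cj n₁ R ≤ V := by
      rw [← cj_eq_self_iff.2 (h.nV h.n₁P)]
      exact cj_mono h.RV
    have h2 : cj n₂ V ≤ W := by
      rw [← cj_eq_self_iff.2 (h.nW h.n₂P)]
      exact cj_mono (h.VD.trans h.DW)
    exact (cj_mono h1).trans h2
  have hR2Y : cj (n₂ * n₁) R ⊓ Y = ⊥ := by
    have h1 : cj (n₂ * n₁) R ⊓ Y ≤ R := by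
      have h0 : cj n₁ R ≤ V := (cj_mono h.RV).trans (le_of_eq (cj_eq_self_iff.2 (h.nV h.n₁P)))
      calc cj (n₂ * n₁) R ⊓ Y = cj n₂ (cj n₁ R) ⊓ Y := by rw [cj_mul]
        _ ≤ cj n₂ V ⊓ Y := inf_le_inf_right _ (cj_mono h0)
        _ = R := hDV
    have h2 : cj (n₂ * n₁) R ⊓ R = ⊥ := by
      have := congrArg (cj n₂) h.Rn
      rw [cj_inf, cj_eq_self_iff.2 (h.nR h.n₂P), ← cj_mul, cj_bot, inf_comm] at this
      exact this
    rw [eq_bot_iff, ← h2]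
    exact le_inf inf_le_left h1
  have hR2g : ∀ w ∈ W, ∃ x ∈ cj (n₂ * n₁) R, ∃ u ∈ W ⊓ Y, x * u = w := by
    apply exists_mul_of_card hR2W inf_le_left
    have e : cj (n₂ * n₁) R ⊓ (W ⊓ Y) = ⊥ := by
      rw [eq_bot_iff, ← hR2Y]
      exact inf_le_inf_left _ inf_le_right
    rw [e, Subgroup.card_bot, mul_one, card_cj, h.cR, h.cW]
  -- every `R^{pp'}` is a conjugate of `R''` under `B`
  have hpp : ∀ p ∈ P₂, p ∉ B → ∀ p' ∈ P₁, p' ∉ B → ∃ g ∈ B, cj (p * p') R = cj g (cj (n₂ * n₁) R) := by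
    intro p hp hpB p' hp' hpB'
    obtain ⟨y, hy, b, hb, rfl⟩ := nf₂ p hp hpB
    have hbp : b * p' ∈ P₁ := P₁.mul_mem (h.B₁ hb) hp'
    have hbpB : b * p' ∉ B := fun hc => hpB' (by
      have := B.mul_mem (B.inv_mem hb) hc
      rwa [inv_mul_cancel_left] at this)
    obtain ⟨w, hw, b', hb', e⟩ := nf₁ _ hbp hbpB
    have hw1 : n₂ * w * n₂⁻¹ ∈ W := conj_mem_of_normalizer (h.nW h.n₂P) hw
    refine ⟨y * (n₂ * w * n₂⁻¹), B.mul_mem (hYB hy) (hWB hw1), ?_⟩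
    have e1 : y * n₂ * b * p' = y * (n₂ * w * n₂⁻¹) * (n₂ * n₁) * b' := by
      rw [mul_assoc (y * n₂), e]; group
    rw [e1, cj_mul, h.nrmB₂ h.nR hb', cj_mul (y * (n₂ * w * n₂⁻¹))]
  refine
    { B_le₁ := h.B₁
      B_le₂ := h.B₂
      W_le := hWB
      Y_le := hYB
      W_nrm := fun p hp => cj_eq_self_iff.2 (h.nW hp)
      R_nrm := fun p hp => cj_eq_self_iff.2 (h.nR hp)
      Y_nrm := fun p hp => cj_eq_self_iff.2 (h.nY hp)
      V_nrm := fun p hp => cj_eq_self_iff.2 (h.nV hp)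
      D_nrm := fun p hp => cj_eq_self_iff.2 (h.nD hp)
      R_le := h.RV
      V_le := h.VD
      D_le_Y := h.DY
      ex₁ := ⟨n₁, h.n₁P, h.n₁B⟩
      D_eq := ?_
      t1 := ?_
      t2 := ?_
      Y_gen := ?_
      R_gen := ?_
      R_inf := ?_
      V_inf := ?_
      H5 := ?_
      card := ?_ }
  · intro p hp hpB
    obtain ⟨w, hw, b, hb, rfl⟩ := nf₁ p hp hpB
    have hwn : cj w W = W := cj_of_mem hw
    calc W ⊓ cj (w * n₁ * b) W = cj w W ⊓ cj w (cj n₁ W) := by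
          rw [cj_mul, h.nrmB₂ h.nW hb, cj_mul, hwn]
      _ = cj w D := by rw [← cj_inf, h.D_eq]
      _ = D := h.nrmB₁ h.nD (hWB hw)
  · intro p hp hpB p' hp' hpB'
    obtain ⟨w, hw, b, hb, rfl⟩ := nf₁ p hp hpB
    obtain ⟨w', hw', b', hb', rfl⟩ := nf₁ p' hp' hpB'
    refine ⟨w' * w⁻¹, W.mul_mem hw' (W.inv_mem hw), ?_⟩
    have e : (1 * (w' * n₁ * b'))⁻¹ * (w' * w⁻¹) * (1 * (w * n₁ * b)) = b'⁻¹ * b := by group
    rw [e]
    exact B.mul_mem (B.inv_mem hb') hb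
  · intro p hp hpB p' hp' hpB'
    obtain ⟨w, hw, b, hb, rfl⟩ := nf₂ p hp hpB
    obtain ⟨w', hw', b', hb', rfl⟩ := nf₂ p' hp' hpB'
    refine ⟨w' * w⁻¹, Y.mul_mem hw' (Y.inv_mem hw), ?_⟩
    have e : (1 * (w' * n₂ * b'))⁻¹ * (w' * w⁻¹) * (1 * (w * n₂ * b)) = b'⁻¹ * b := by group
    rw [e]
    exact B.mul_mem (B.inv_mem hb') hb
  · intro p hp hpB y hy
    obtain ⟨w, hw, b, hb, rfl⟩ := nf₁ p hp hpB
    have hy' : w⁻¹ * y * w ∈ Y := conj_inv_mem_of_normalizer (h.nY (h.B₁ (hWB hw))) hy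
    obtain ⟨u, hu, u', hu', e⟩ := hYn _ hy'
    refine ⟨w * u * w⁻¹, ?_, w * u' * w⁻¹, ?_, ?_⟩
    · rw [cj_mul, hWYn b hb, cj_mul]
      exact conj_mem_cj hu
    · rw [← hWYn w (hWB hw)]
      exact conj_mem_cj hu'
    · have : w * u * w⁻¹ * (w * u' * w⁻¹) = w * (u * u') * w⁻¹ := by group
      rw [this, e]; group
  · intro p hp hpB p' hp' hpB' w hw
    obtain ⟨g, hg, e⟩ := hpp p hp hpB p' hp' hpB'
    have hw' : g⁻¹ * w * g ∈ W := conj_inv_mem_of_normalizer (h.nW (h.B₂ hg)) hw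
    obtain ⟨x, hx, u, hu, e1⟩ := hR2g _ hw'
    refine ⟨g * x * g⁻¹, ?_, g * u * g⁻¹, ?_, ?_⟩
    · rw [e]; exact conj_mem_cj hx
    · rw [← hWYn g hg]; exact conj_mem_cj hu
    · have : g * x * g⁻¹ * (g * u * g⁻¹) = g * (x * u) * g⁻¹ := by group
      rw [this, e1]; group
  · intro p hp hpB p' hp' hpB'
    obtain ⟨g, hg, e⟩ := hpp p hp hpB p' hp' hpB'
    rw [e]
    have := congrArg (cj g) hR2Y
    rwa [cj_inf, h.nrmB₁ h.nY hg, cj_bot] at this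
  · intro p hp hpB
    obtain ⟨y, hy, b, hb, rfl⟩ := nf₂ p hp hpB
    have := congrArg (cj y) hDV
    rw [cj_inf, cj_of_mem hy, h.nrmB₂ h.nR (hYB hy)] at this
    rw [cj_mul, h.nrmB₁ h.nV hb, cj_mul]
    exact this
  · intro p hp hpB
    obtain ⟨y, hy, b, hb, rfl⟩ := nf₂ p hp hpB
    have := congrArg (cj y) h.DD
    rw [cj_inf, h.nrmB₁ h.nD (hYB hy), h.nrmB₂ h.nR (hYB hy)] at this
    rw [cj_mul, h.nrmB₁ h.nD hb, cj_mul]
    exact this
  · rw [h.cY, h.cV, h.cD]; ring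

/-- **(PATH)**, type 1: `U` is transitive on the next panel of the galleries of type `(n₁, n₂, n₁, ..)` -/
theorem Hex.path₁ [Finite G] (h : Hex P₁ P₂ B U H V R W Y D n₁ n₂ q r) :
    Tr B P₁ U 1 ∧ Tr B P₂ U n₁ ∧ Tr B P₁ U (n₁ * n₂) ∧ Tr B P₂ U (n₁ * n₂ * n₁) ∧
      Tr B P₁ U (n₁ * n₂ * n₁ * n₂) ∧ Tr B P₂ U (n₁ * n₂ * n₁ * n₂ * n₁) := by
  have l := h.loc
  have hn₁Y : cj n₁ Y = Y := l.Y_nrm n₁ h.n₁P
  refine ⟨l.t1.mono h.WU, (l.one_two h.n₁P).mono h.YU, ?_, ?_, ?_, ?_⟩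
  · refine ((l.one_three h.n₂P h.n₂B).cj n₁).mono ?_
    refine le_trans ?_ h.YU
    rw [cj_inf, hn₁Y]
    exact inf_le_right
  · have h1 := ((l.one_four h.n₂P h.n₂B h.n₁P h.n₁B).cj (n₁ * n₂)).mono (F' := U) ?_
    · exact h1
    · refine le_trans ?_ h.YU
      rw [cj_mul, cj_inf, cj_inf, cj_inf, cj_inf, cj_cj_inv, hn₁Y]
      exact inf_le_left.trans inf_le_right
  · have h1 := ((l.one_five h.n₁P h.n₁B h.n₂P h.n₂B).cj (n₁ * n₂)).mono (F' := U) ?_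
    · rwa [← mul_assoc] at h1
    · refine le_trans ?_ h.YU
      rw [cj_mul, l.R_nrm n₂ h.n₂P]
      refine (cj_mono (l.R_le.trans (l.V_le.trans l.D_le_Y))).trans (le_of_eq hn₁Y)
  · have h1 := ((l.one_six h.n₂P h.n₂B h.n₁P h.n₁B h.n₂P h.n₂B h.n₁P h.n₁B).cj (n₁ * n₂)).mono
      (F' := U) ?_
    · rwa [← mul_assoc, ← mul_assoc] at h1
    · refine le_trans ?_ h.YU
      rw [cj_mul, cj_inf, cj_inf, cj_inf, cj_inf, cj_cj_inv, hn₁Y]
      exact inf_le_left.trans inf_le_right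

/-- **(PATH)**, type 2 -/
theorem Hex.path₂ [Finite G] (h : Hex P₁ P₂ B U H V R W Y D n₁ n₂ q r) :
    Tr B P₂ U 1 ∧ Tr B P₁ U n₂ ∧ Tr B P₂ U (n₂ * n₁) ∧ Tr B P₁ U (n₂ * n₁ * n₂) ∧
      Tr B P₂ U (n₂ * n₁ * n₂ * n₁) ∧ Tr B P₁ U (n₂ * n₁ * n₂ * n₁ * n₂) := by
  have l := h.loc
  have hn₂W : cj n₂ W = W := l.W_nrm n₂ h.n₂P
  refine ⟨l.t2.mono h.YU, (l.two_two h.n₂P).mono h.WU, ?_, ?_, ?_, ?_⟩
  · refine ((l.two_three h.n₁P h.n₁B).cj n₂).mono ?_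
    refine le_trans ?_ h.WU
    rw [cj_inf, hn₂W]
    exact inf_le_left
  · refine ((l.two_four h.n₂P h.n₂B).cj (n₂ * n₁)).mono ?_
    refine le_trans ?_ h.WU
    rw [cj_mul, l.D_nrm n₁ h.n₁P]
    exact (cj_mono l.D_le_W).trans (le_of_eq hn₂W)
  · have h1 := ((l.two_five h.n₂P h.n₂B h.n₁P h.n₁B).cj (n₂ * n₁)).mono (F' := U) ?_
    · rwa [← mul_assoc] at h1
    · refine le_trans ?_ h.WU
      rw [cj_mul, cj_inf, l.D_nrm n₁ h.n₁P]
      exact (cj_mono (inf_le_left.trans l.D_le_W)).trans (le_of_eq hn₂W)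
  · have h1 := ((l.two_six h.n₂P h.n₁P h.n₁B h.n₂P h.n₂B).cj (n₂ * n₁)).mono (F' := U) ?_
    · rwa [← mul_assoc, ← mul_assoc] at h1
    · refine le_trans ?_ h.WU
      rw [cj_mul]
      have h2 : cj n₁ R ≤ W := by
        refine le_trans ?_ (l.V_le.trans l.D_le_W)
        rw [← l.V_nrm n₁ h.n₁P]
        exact cj_mono l.R_le
      exact (cj_mono h2).trans (le_of_eq hn₂W)

/-- double coset form: `w b n ∈ B w n B` -/
theorem Tr.dcoset {P F : Subgroup G} {g n b : G} (h : Tr B P F g) (hBP : B ≤ P) (hn : n ∈ P) (hnB : n ∉ B)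
    (hb : b ∈ B) : ∃ f ∈ F, ∃ b' ∈ B, g * b * n = f * (g * n) * b' := by
  have h1 : b * n ∉ B := fun hc => hnB (by
    have := B.mul_mem (B.inv_mem hb) hc
    rwa [inv_mul_cancel_left] at this)
  obtain ⟨f, hf, e⟩ := h (b * n) (P.mul_mem (hBP hb) hn) h1 n hn hnB
  exact ⟨f⁻¹, F.inv_mem hf, _, e, by group⟩

end bridge

end Cfsg.Agent.Omega.Hex

end

section


/-!
# (PATH) of THEOREM R2T for the `b = 2` node, in the form of `RankTwoClose.Frame.PathTo`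
-/

set_option autoImplicit false
set_option linter.dupNamespace false

universe u

namespace Cfsg.Agent.Omega.Hex

open Subgroup Cfsg.Agent.Omega.BTwo

namespace Hex

variable {G : Type u} [Group G] {P₁ P₂ B U H V R W Y D : Subgroup G} {n₁ n₂ : G} {q r : ℕ}

theorem pathTo_aux (h : Hex P₁ P₂ B U H V R W Y D n₁ n₂ q r) {k : ℕ} {i : Bool} {g : G}
    (hg : RankTwoClose.alt h.frame.n i k = g)
    (ht : Tr B (h.frame.P (RankTwoClose.nxt i k)) U g) {b : G} (hb : b ∈ h.frame.B) :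
    ∃ c ∈ h.frame.B, ∃ d ∈ h.frame.B,
      RankTwoClose.alt h.frame.n i k * b * h.frame.n (RankTwoClose.nxt i k) =
        c * RankTwoClose.alt h.frame.n i (k + 1) * d := by
  have hBP : ∀ j, B ≤ h.frame.P j := by
    rintro (_ | _)
    · exact h.B₁
    · exact h.B₂
  have hnP : ∀ j, h.frame.n j ∈ h.frame.P j := by
    rintro (_ | _)
    · exact h.n₁P
    · exact h.n₂P
  have hnB : ∀ j, h.frame.n j ∉ B := by
    rintro (_ | _)
    · exact h.n₁B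
    · exact h.n₂B
  obtain ⟨f, hf, b', hb', e⟩ := ht.dcoset (hBP _) (hnP _) (hnB _) hb
  refine ⟨f, h.UB hf, b', hb', ?_⟩
  rw [RankTwoClose.alt_succ', hg, e]

/-- **(PATH)** for `G₂(q)`, `³D₄(q)` -/
theorem pathTo [Finite G] (h : Hex P₁ P₂ B U H V R W Y D n₁ n₂ q r) :
    ∀ k < 6, h.frame.PathTo k := by
  obtain ⟨a0, a1, a2, a3, a4, a5⟩ := h.path₁
  obtain ⟨b0, b1, b2, b3, b4, b5⟩ := h.path₂
  have key : ∀ k < 6, ∀ i : Bool, ∃ g, RankTwoClose.alt h.frame.n i k = g ∧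
      Tr B (h.frame.P (RankTwoClose.nxt i k)) U g := by
    intro k hk
    interval_cases k
    · rintro (_ | _)
      · exact ⟨1, rfl, a0⟩
      · exact ⟨1, rfl, b0⟩
    · rintro (_ | _)
      · exact ⟨n₁, mul_one n₁, a1⟩
      · exact ⟨n₂, mul_one n₂, b1⟩
    · rintro (_ | _)
      · refine ⟨n₁ * n₂, ?_, a2⟩
        show n₁ * (n₂ * 1) = _
        rw [mul_one]
      · refine ⟨n₂ * n₁, ?_, b2⟩
        show n₂ * (n₁ * 1) = _
        rw [mul_one]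
    · rintro (_ | _)
      · refine ⟨n₁ * n₂ * n₁, ?_, a3⟩
        show n₁ * (n₂ * (n₁ * 1)) = _
        group
      · refine ⟨n₂ * n₁ * n₂, ?_, b3⟩
        show n₂ * (n₁ * (n₂ * 1)) = _
        group
    · rintro (_ | _)
      · refine ⟨n₁ * n₂ * n₁ * n₂, ?_, a4⟩
        show n₁ * (n₂ * (n₁ * (n₂ * 1))) = _
        group
      · refine ⟨n₂ * n₁ * n₂ * n₁, ?_, b4⟩
        show n₂ * (n₁ * (n₂ * (n₁ * 1))) = _
        group
    · rintro (_ | _)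
      · refine ⟨n₁ * n₂ * n₁ * n₂ * n₁, ?_, a5⟩
        show n₁ * (n₂ * (n₁ * (n₂ * (n₁ * 1)))) = _
        group
      · refine ⟨n₂ * n₁ * n₂ * n₁ * n₂, ?_, b5⟩
        show n₂ * (n₁ * (n₂ * (n₁ * (n₂ * 1)))) = _
        group
  intro k hk i b hb
  obtain ⟨g, hg, ht⟩ := key k hk i
  exact h.pathTo_aux hg ht hb

end Hex

end Cfsg.Agent.Omega.Hex

end

end

-- merged: Cfsg.Agent.Mrg.Omega.Hex.GlobOf
section

section


/-!
# `Glob` and the BN-pair of `⟨X, K⟩` from `K / W = SL₂(k)`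

* `KIn.glob`: `Glob H (R i)`;
* `KIn.gZero`: `⟨X, K⟩` has a split BN-pair of rank two and is normalised by `N(V)` and `N(R i)` (`|k| > 4`).
-/

set_option autoImplicit false
set_option linter.dupNamespace false
set_option linter.unusedSectionVars false

universe u v w

namespace Cfsg.Agent.Omega.Hex

open Subgroup Cfsg.Agent.Omega.BTwo Cfsg.Agent.Omega.SQEnd Cfsg.Agent.Lib.SL2Mat

section abs

variable {G : Type u} [Group G]

theorem cent_O2 (hG : IsCharacteristicTwoType G) {v : G} (hv : v * v = 1) (hv1 : v ≠ 1) :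
    centralizer ({v} : Set G) ⊓ centralizer (O2 (centralizer ({v} : Set G)) : Set G) ≤
      O2 (centralizer ({v} : Set G)) := by
  intro g hg
  refine GTwoFour.Cor.R_self hG hv hv1 (mem_centralizer_singleton_iff.1 (mem_inf.1 hg).1) ?_
  intro r hr
  exact (mem_centralizer_iff.1 (mem_inf.1 hg).2 r hr).symm

variable {ι : Type v} {V : Subgroup G} {R : ι → Subgroup G} {i j : ι} {F : Type w} [Field F] [CharP F 2]
  {v : F → F → G} {w1 w2 : F → G}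

/-- `N(R i)` is transitive on `R i#` -/
theorem trans_R (c : Coord V R i j v w1 w2) (b : BT V R) : ∀ a ∈ R i, a ≠ 1 → ∀ a' ∈ R i, a' ≠ 1 →
    ∃ g ∈ normalizer (R i : Set G), g * a * g⁻¹ = a' := by
  intro a ha ha1 a' ha' ha1'
  obtain ⟨x, rfl⟩ := (c.mem_R1 _).1 ha
  obtain ⟨y, rfl⟩ := (c.mem_R1 _).1 ha'
  have hx : x ≠ 0 := by rintro rfl; exact ha1 c.v_zero
  have hy : y ≠ 0 := by rintro rfl; exact ha1' c.v_zero
  have hyx : y * x⁻¹ ≠ 0 := mul_ne_zero hy (inv_ne_zero hx)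
  refine ⟨hh w1 w2 (y * x⁻¹), cj_eq_self_iff.1 (c.hh_R1 b hyx), ?_⟩
  rw [c.hh_act hyx, mul_zero, inv_mul_cancel_right₀ hx]

end abs

variable {G : Type u} [Group G] [Finite G] {ι : Type v}

namespace KIn

variable {V : Subgroup G} {R : ι → Subgroup G} {i j : ι} {k : Type w} [Field k] {K : Subgroup G}
  {φ : K →* Matrix.SpecialLinearGroup (Fin 2) k} (n : KIn V R i j K φ) [Finite k] [CharP k 2]
include n

theorem UZ_two (b : BT V R) : IsPGroup 2 (WW V (R i) ⊔ YY V R : Subgroup G) :=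
  (b.W_isPGroup i).to_sup_of_normal_right' (Y_isPGroup b) ((b.W_le_NV i).trans b.NV_le_NY)

theorem odd_UZ (b : BT V R) : Odd ((WW V (R i) ⊔ YY V R : Subgroup G).relIndex K) := by
  have h3 : (WW V (R i) ⊔ YY V R : Subgroup G).relIndex K = (upG k).index := by
    have h4 : (WW V (R i) ⊔ YY V R : Subgroup G).subgroupOf K = (upG k).comap φ := by
      ext x
      rw [mem_subgroupOf, mem_comap]
      exact n.mem_UZ b x
    have h5 := index_comap_of_surjective (upG k) n.kd.surj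
    rw [← h4] at h5
    exact h5
  rw [h3]
  exact odd_index_upG

/-- `O₂(K) = W` -/
theorem le_W_of_normal (b : BT V R) {T : Subgroup G} (hTK : T ≤ K) (hT : IsPGroup 2 T)
    (hn : K ≤ normalizer (T : Set G)) : T ≤ WW V (R i) := by
  have : Fact (Nat.Prime 2) := ⟨Nat.prime_two⟩
  have hU2 := n.UZ_two b
  have hUK := n.UZ_le b
  have hTU : T ≤ WW V (R i) ⊔ YY V R := by
    have h1 : IsPGroup 2 ((WW V (R i) ⊔ YY V R) ⊔ T : Subgroup G) :=
      hU2.to_sup_of_normal_right' hT (hUK.trans hn)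
    have h2 := relIndex_mul_relIndex (WW V (R i) ⊔ YY V R) ((WW V (R i) ⊔ YY V R) ⊔ T) K le_sup_left (sup_le hUK hTK)
    have h3 := n.odd_UZ b
    rw [← h2] at h3
    have h4 := Nat.Odd.of_mul_left h3
    obtain ⟨m, hm⟩ := IsPGroup.iff_card.1 h1
    have h5 : (WW V (R i) ⊔ YY V R).relIndex ((WW V (R i) ⊔ YY V R) ⊔ T) ∣ 2 ^ m := by
      rw [← hm]; exact relIndex_dvd_card _ _
    obtain ⟨l, -, hl⟩ := (Nat.dvd_prime_pow Nat.prime_two).1 h5
    have h6 : l = 0 := by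
      by_contra h0
      rw [hl] at h4
      exact (Nat.not_even_iff_odd.2 h4) ((Nat.even_pow.2 ⟨even_two, h0⟩))
    rw [h6, pow_zero, relIndex_eq_one] at hl
    exact le_sup_right.trans hl
  intro t ht
  obtain ⟨x, hx⟩ := (n.mem_UZ b ⟨t, hTK ht⟩).1 (hTU ht)
  obtain ⟨g, hg⟩ := n.kd.surj (wm 1 one_ne_zero)
  have h1 : (g : G) * t * (g : G)⁻¹ ∈ T := conj_mem_of_normalizer (hn g.2) ht
  obtain ⟨y, hy⟩ := (n.mem_UZ b (g * ⟨t, hTK ht⟩ * g⁻¹)).1 (hTU h1)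
  rw [map_mul, map_mul, map_inv, hx, hg, mul_inv_eq_iff_eq_mul] at hy
  have h2 := congrArg (fun A => ent A 1 1) hy
  simp [ent_mul] at h2
  rw [← n.kd.ker ⟨t, hTK ht⟩, hx, h2, up_zero]

variable {F : Type*} [Field F] [Finite F] [CharP F 2] {v : F → F → G} {w1 w2 : F → G}

/-- **`C_G(v) ≤ N_G(R i)`** for `v ∈ R i`, `v ≠ 1` -/
theorem cen {r : ℕ} (b : BTC V R) (c : Coord V R i j v w1 w2) (l : PLoc V R i K r)
    (hG : IsCharacteristicTwoType G) (cW : centralizer (WW V (R i) : Set G) ≤ R i)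
    (hQ : QQ (R i) = WW V (R i)) (S : Sylow 2 G) (hS : (S : Subgroup G) ≤ normalizer (R i : Set G)) :
    ∀ v ∈ R i, v ≠ 1 → ∀ c, c * v = v * c → c ∈ normalizer (R i : Set G) := by
  intro x hx hx1 g hg
  exact l.cen cW n.kd.KR (fun T h1 h2 h3 => n.le_W_of_normal b.toBT h1 h2 h3) (cent_K_of n b c hQ) S hS
    (trans_R c b.toBT) hx hx1 (cent_O2 hG (b.V_sq x (b.R_le i hx)) hx1) hg

/-- **`Glob`** -/
theorem glob {r : ℕ} (b : BTC V R) (c : Coord V R i j v w1 w2) (l : PLoc V R i K r)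
    (hG : IsCharacteristicTwoType G) (cW : centralizer (WW V (R i) : Set G) ≤ R i)
    (hQ : QQ (R i) = WW V (R i)) (S : Sylow 2 G) (hS : (S : Subgroup G) ≤ normalizer (R i : Set G))
    (hk : 4 < Nat.card k) {H : Subgroup G} (hH : Cpl (PLoc.UZ V R i) (PLoc.B0 V R i K) H)
    (e7 : ∀ m ∈ WW V (R i), (∀ x ∈ H ⊓ K, x * m * x⁻¹ * m⁻¹ ∈ R i) → m ∈ R i) : Glob H (R i) where
  cen := n.cen b c l hG cW hQ S hS
  tor := fun T hT hTN hc => n.tor b.toBT hk l.nt hH (cent_K_of n b c hQ) (fun m hm h => e7 m hm fun x hx => by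
    rw [h x (mem_inf.1 hx).1 (mem_inf.1 hx).2, mul_inv_cancel_right, mul_inv_cancel]
    exact one_mem _) T hT hTN hc

end KIn

namespace PLoc

variable {V : Subgroup G} {R : ι → Subgroup G} {i : ι} {X₂ : Subgroup G} {r : ℕ} (l : PLoc V R i X₂ r)
include l

theorem NF_norm : NF V R i ≤ normalizer ((XX V R ⊔ X₂ : Subgroup G) : Set G) := by
  intro g hg
  rw [← cj_eq_self_iff, cj_sup, cj_eq_self_iff.2 (l.bt.NV_le_NX (mem_inf.1 hg).1),
    cj_eq_self_iff.2 (l.NX₂ (mem_inf.1 hg).2)]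

theorem NV_norm : normalizer (V : Set G) ≤ normalizer ((XX V R ⊔ X₂ : Subgroup G) : Set G) := by
  intro g hg
  by_cases hgR : g ∈ normalizer (R i : Set G)
  · exact l.NF_norm (mem_inf.2 ⟨hg, hgR⟩)
  obtain ⟨x, hx, hxR⟩ := l.exists_x₁
  have hxV := l.bt.X_le_NV hx
  obtain ⟨w, hw, e⟩ := l.transW hxV hg hxR hgR
  have hwx : w * x ∈ XX V R := mul_mem (W_le_X V R i hw) hx
  have h1 : w * x ∈ normalizer ((XX V R ⊔ X₂ : Subgroup G) : Set G) :=
    le_normalizer ((le_sup_left : XX V R ≤ _) hwx)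
  have h2 := l.NF_norm (mem_inf.2 ⟨mul_mem (inv_mem (l.bt.X_le_NV hwx)) hg, e⟩)
  have h3 := mul_mem h1 h2
  rwa [mul_inv_cancel_left] at h3

theorem NR_norm : normalizer (R i : Set G) ≤ normalizer ((XX V R ⊔ X₂ : Subgroup G) : Set G) := by
  intro g hg
  obtain ⟨x, hx, hxg⟩ := l.frat₂ g hg
  have h1 : x ∈ normalizer ((XX V R ⊔ X₂ : Subgroup G) : Set G) :=
    le_normalizer ((le_sup_right : X₂ ≤ _) hx)
  have h2 := l.NF_norm (mem_inf.2 ⟨hxg, mul_mem (inv_mem (l.X₂N hx)) hg⟩)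
  have h3 := mul_mem h1 h2
  rwa [mul_inv_cancel_left] at h3

theorem sup_ne : XX V R ⊔ X₂ ≠ ⊥ := by
  intro h
  have h1 : R i ≤ ⊥ := by
    rw [← h]
    exact (l.bt.R_le i).trans ((V_le_WW V (R i)).trans (l.W₂.trans le_sup_right))
  exact l.bt.R_ne i (le_bot_iff.1 h1)

/-- **`GZero`** from `Glob` -/
theorem gZero (hB : RootLemma.Bender.{u}) {H : Subgroup G} (hH : Cpl (UZ V R i) (B0 V R i X₂) H)
    (g : Glob H (R i)) : IIa4.GZero V R := by
  obtain ⟨n₁, -, n₂, -, h⟩ := l.hex (S := ⊥) IsPGroup.of_bot bot_le hH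
  have hX : PP1 V R i X₂ ⊥ ⊔ PP2 V R i X₂ ⊥ = XX V R ⊔ X₂ := by
    have h1 : BB V R i X₂ ⊥ ≤ XX V R ⊔ X₂ := by
      refine sup_le (sup_le ?_ ?_) bot_le
      · exact inf_le_left.trans le_sup_left
      · exact inf_le_left.trans le_sup_right
    refine le_antisymm (sup_le (sup_le le_sup_left h1) (sup_le le_sup_right h1)) ?_
    exact sup_le (le_sup_left.trans le_sup_left) (le_sup_left.trans le_sup_right)
  obtain ⟨Q, hQ, hs, -, -⟩ := exists_split h g hB (h.pathTo) hX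
  exact ⟨i, XX V R ⊔ X₂, l.sup_ne, l.NV_norm, l.NR_norm, Or.inr ⟨Q, by rw [hQ]; norm_num, hs⟩⟩

end PLoc

namespace KIn

variable {V : Subgroup G} {R : ι → Subgroup G} {i j : ι} {k : Type w} [Field k] {K : Subgroup G}
  {φ : K →* Matrix.SpecialLinearGroup (Fin 2) k} [Finite k] [CharP k 2]
  {F : Type*} [Field F] [Finite F] [CharP F 2] {v : F → F → G} {w1 w2 : F → G}

/-- **`GZero`** from `Cfg`, `|k| > 4` -/
theorem gZero (n : KIn V R i j K φ) (b : BTC V R) (c : Coord V R i j v w1 w2)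
    (hB : RootLemma.Bender.{u}) (hG : IsCharacteristicTwoType G) (cW : centralizer (WW V (R i) : Set G) ≤ R i)
    (hQ : QQ (R i) = WW V (R i)) (S : Sylow 2 G) (hS : (S : Subgroup G) ≤ normalizer (R i : Set G))
    (hF : 4 ≤ Nat.card F) (hk : 4 < Nat.card k) {L Z T : Subgroup G} {w : G}
    (h : Cfg (R i) (WW V (R i)) V (UU V R i) (DD V R) (UU V R j) K L (L ⊓ K) Z T w)
    (hL : Cpl (PLoc.UZ V R i) (PLoc.B0 V R i K) L) (TX : T ≤ XX V R) (hwV : w ∉ normalizer (V : Set G)) :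
    IIa4.GZero V R := by
  have l : PLoc V R i K (Nat.card k) := by
    exact n.ploc b.toBT c hF hk.le h.wK hwV h.E2 fun u hu => h.E4 (V_not_le_R c) (U_not_le_D n b.toBT) hu
  refine l.gZero hB hL (n.glob b c l hG cW hQ S hS hk hL ?_)
  refine cent_C_of n b c h TX hwV ?_ hF hk
  intro g hg hgV
  have hgB : g ∈ PLoc.B0 V R i K := (le_sup_right : PLoc.A2 V K ≤ _) (mem_inf.2 ⟨hg, hgV⟩)
  obtain ⟨u, hu, x, hx, e⟩ := l.nt.exists_mul hL hgB
  refine ⟨u, ?_, ?_⟩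
  · rw [← n.UZ_eq b.toBT]; exact hu
  · have e1 : u⁻¹ * g = x := by rw [e]; group
    rw [e1]
    refine mem_inf.2 ⟨hx, ?_⟩
    rw [← e1]
    exact mul_mem (inv_mem (n.UZ_le b.toBT hu)) hg

end KIn

end Cfsg.Agent.Omega.Hex

end

section


/-!
# The structure `Hex` around a Sylow 2-subgroup of `N(V) ∩ N(R)` (input of the end for `G₂(4)`)
-/

set_option autoImplicit false

universe u v w z

namespace Cfsg.Agent.Omega.SQEnd

open Subgroup Cfsg.Agent.Omega.BTwo Cfsg.Agent.Lib.SL2Mat Cfsg.Agent.Omega.Hex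

variable {G : Type u} [Group G] [Finite G] {ι : Type v} {V : Subgroup G} {R : ι → Subgroup G} {i j : ι} {k : Type w}
  [Field k] {K : Subgroup G} {φ : K →* Matrix.SpecialLinearGroup (Fin 2) k} {F : Type z} [Field F] [Finite F]
  [CharP F 2] {v : F → F → G} {w1 w2 : F → G}

omit [Finite G] [Finite F] [CharP F 2] in
theorem card_R (c : Coord V R i j v w1 w2) : Nat.card (R i) = Nat.card F := by
  refine (Nat.card_eq_of_bijective (fun x : F => (⟨v x 0, (c.mem_R1 _).2 ⟨x, rfl⟩⟩ : R i)) ⟨?_, ?_⟩).symm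
  · intro x y h
    exact (c.v_inj (congrArg Subtype.val h)).1
  · rintro ⟨y, hy⟩
    obtain ⟨x, hx⟩ := (c.mem_R1 y).1 hy
    exact ⟨x, Subtype.ext hx⟩

/-- `|k| = |F|^c` -/
theorem card_k_eq (b : BTC V R) (c : Coord V R i j v w1 w2) (kd : KD V R i j K φ)
    (NAe : ∀ g ∈ normalizer (R i : Set G), cj g (WW V (R i) ⊔ UU V R j) = WW V (R i) ⊔ UU V R j → cj g V = V)
    (hF : 4 ≤ Nat.card F) (hk : Nat.card k = 4) : Nat.card F = 4 := by
  have := kd.finite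
  have := kd.charP b
  have n : KIn V R i j K φ := { kd := kd, NA := NAe }
  obtain ⟨N, _, _, P1, P2, y⟩ := c.exists_yPair b.toBT
  have h1 : Nat.card N = Nat.card k := by rw [← y.index_D_U, n.relIndex_D b.toBT]
  have h2 := y.card_M
  rw [h1, hk] at h2
  have h3 : Module.finrank F N ≠ 0 := by
    intro h0
    rw [h0, pow_zero] at h2
    omega
  have h4 : Nat.card F ^ 1 ≤ Nat.card F ^ Module.finrank F N :=
    Nat.pow_le_pow_right (by omega) (Nat.one_le_iff_ne_zero.2 h3)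
  rw [pow_one, ← h2] at h4
  omega

end Cfsg.Agent.Omega.SQEnd

end

section


/-!
# The structure `Four` (input of ID24, type `G₂(4)`) from `BTC`, `Coord`, `KD`, `|F| = |k| = 4`
-/

set_option autoImplicit false

universe u v w z

namespace Cfsg.Agent.Omega.SQEnd

open Subgroup Cfsg.Agent.Omega.BTwo Cfsg.Agent.Lib.SL2Mat Cfsg.Agent.Omega.Hex

/-- a torus of order three -/
theorem card_of_chart {H F : Type*} [Group H] [Field F] [Finite F] (f : H → F) (h0 : ∀ x, f x ≠ 0)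
    (hinj : ∀ x y, f x = f y → x = y) (hs : ∀ a, a ≠ 0 → ∃ x, f x = a) : Nat.card H = Nat.card F - 1 := by
  have h1 : Nat.card H = Nat.card Fˣ := by
    refine Nat.card_eq_of_bijective (fun x => Units.mk0 (f x) (h0 x)) ⟨?_, ?_⟩
    · intro x y h
      exact hinj x y (congrArg Units.val h)
    · intro a
      obtain ⟨x, hx⟩ := hs a a.ne_zero
      exact ⟨x, Units.ext hx⟩
  rw [h1, Nat.card_units]

theorem exists_gen {G : Type*} [Group G] [Finite G] {C : Subgroup G} (h : Nat.card C = 3) :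
    ∃ g, C = zpowers g ∧ g ∈ C ∧ g ≠ 1 ∧ g * g * g = 1 := by
  have : Fact (Nat.Prime 3) := ⟨Nat.prime_three⟩
  obtain ⟨g, hg⟩ := (isCyclic_of_prime_card h).exists_generator
  have e : C = zpowers (g : G) := by
    apply le_antisymm
    · intro x hx
      obtain ⟨n, hn⟩ := mem_zpowers_iff.1 (hg ⟨x, hx⟩)
      refine mem_zpowers_iff.2 ⟨n, ?_⟩
      have := congrArg Subtype.val hn
      exact this
    · rw [zpowers_le]
      exact g.2
  refine ⟨g, e, g.2, ?_, ?_⟩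
  · intro h1
    rw [h1, zpowers_one_eq_bot] at e
    rw [e, card_bot] at h
    omega
  · have h1 : g ^ 3 = 1 := by rw [← h]; exact pow_card_eq_one'
    have h2 : (g : G) ^ 3 = 1 := congrArg Subtype.val h1
    rw [← h2, pow_succ, pow_two]

/-- transport of `SL₂` between two fields of the same order -/
theorem exists_sl {F : Type*} {k : Type*} [Field F] [Finite F] [Field k] [Finite k] (h : Nat.card k = Nat.card F)
    {X : Type*} [Group X] {N : X → Prop} (φ : X →* Matrix.SpecialLinearGroup (Fin 2) k)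
    (hs : Function.Surjective φ) (hk : ∀ x, φ x = 1 ↔ N x) :
    ∃ π : X →* Matrix.SpecialLinearGroup (Fin 2) F, Function.Surjective π ∧ ∀ x, π x = 1 ↔ N x := by
  have := Fintype.ofFinite F
  have := Fintype.ofFinite k
  rw [Nat.card_eq_fintype_card, Nat.card_eq_fintype_card] at h
  let e : k ≃+* F := FiniteField.ringEquivOfCardEq h
  have h1 : ∀ A : Matrix.SpecialLinearGroup (Fin 2) F,
      Matrix.SpecialLinearGroup.map (e : k →+* F) (Matrix.SpecialLinearGroup.map (e.symm : F →+* k) A) = A := by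
    intro A
    ext i j
    simp
  have h2 : ∀ A : Matrix.SpecialLinearGroup (Fin 2) k,
      Matrix.SpecialLinearGroup.map (e.symm : F →+* k) (Matrix.SpecialLinearGroup.map (e : k →+* F) A) = A := by
    intro A
    ext i j
    simp
  refine ⟨(Matrix.SpecialLinearGroup.map (e : k →+* F)).comp φ, ?_, fun x => ?_⟩
  · intro A
    obtain ⟨x, hx⟩ := hs (Matrix.SpecialLinearGroup.map (e.symm : F →+* k) A)
    exact ⟨x, by rw [MonoidHom.comp_apply, hx, h1]⟩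
  · rw [← hk]
    constructor
    · intro h3
      have h4 := congrArg (Matrix.SpecialLinearGroup.map (e.symm : F →+* k)) h3
      rwa [MonoidHom.comp_apply, h2, map_one] at h4
    · intro h3
      rw [MonoidHom.comp_apply, h3, map_one]

variable {G : Type u} [Group G] [Finite G] {ι : Type v} {V : Subgroup G} {R : ι → Subgroup G} {i j : ι} {k : Type w}
  [Field k] {K : Subgroup G} {φ : K →* Matrix.SpecialLinearGroup (Fin 2) k} {F : Type z} [Field F] [Finite F]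
  [CharP F 2] {v : F → F → G} {w1 w2 : F → G}

/-- `|L ∩ K| = |k| - 1` -/
theorem card_LK (b : BTC V R) (n : KIn V R i j K φ) [Finite k] [CharP k 2] {L : Subgroup G}
    (nt : NT (PLoc.UZ V R i) (PLoc.B0 V R i K)) (hL : Cpl (PLoc.UZ V R i) (PLoc.B0 V R i K) L)
    (LV : L ≤ normalizer (V : Set G)) : Nat.card (L ⊓ K : Subgroup G) = Nat.card k - 1 := by
  have hbot := inf_eq_bot_of_odd nt.two (nt.odd_cpl hL)
  have h0 : ∀ x : (L ⊓ K : Subgroup G), ent (φ ⟨x, (mem_inf.1 x.2).2⟩) 1 0 = 0 := fun x =>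
    (n.mem_NV_iff b.toBT (g := ⟨x, (mem_inf.1 x.2).2⟩)).1 (LV (mem_inf.1 x.2).1)
  refine card_of_chart (fun x => ent (φ ⟨x, (mem_inf.1 x.2).2⟩) 0 0) ?_ ?_ ?_
  · intro x hx
    have hd := det_eq (φ ⟨x, (mem_inf.1 x.2).2⟩)
    have hx' : ent (φ ⟨x, (mem_inf.1 x.2).2⟩) 0 0 = 0 := hx
    rw [h0 x, hx', zero_mul, mul_zero, sub_zero] at hd
    exact zero_ne_one hd
  · intro x y hxy
    have hxy' : ent (φ ⟨x, (mem_inf.1 x.2).2⟩) 0 0 = ent (φ ⟨y, (mem_inf.1 y.2).2⟩) 0 0 := hxy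
    have h1 : φ ((⟨x, (mem_inf.1 x.2).2⟩ : K)⁻¹ * ⟨y, (mem_inf.1 y.2).2⟩) ∈ upG k := by
      have hd := det_eq (φ ⟨x, (mem_inf.1 x.2).2⟩)
      rw [h0 x, mul_zero, sub_zero] at hd
      rw [map_mul, map_inv, mem_upG, ent_inv]
      simp only [ent_mul, mk_00, mk_01, mk_10, mk_11, h0 x, h0 y, ← hxy']
      constructor
      · linear_combination hd
      · ring
    have h2 : (x : G)⁻¹ * y ∈ PLoc.UZ V R i ⊓ L :=
      mem_inf.2 ⟨(n.mem_UZ b.toBT _).2 h1, mul_mem (inv_mem (mem_inf.1 x.2).1) (mem_inf.1 y.2).1⟩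
    rw [hbot, mem_bot, inv_mul_eq_one] at h2
    exact Subtype.ext h2
  · intro a ha
    obtain ⟨c, hc, h1, -, -⟩ := n.exists_c b.toBT nt hL ha
    exact ⟨⟨c, mem_inf.2 ⟨hc, c.2⟩⟩, h1⟩

theorem mem_UZ_of_rho (b : BTC V R) (c : Coord V R i j v w1 w2) {x : XX V R} :
    c.rho b.toBT x ∈ upG F ↔ (x : G) ∈ WW V (R i) ⊔ YY V R := by
  obtain ⟨N, _, _, P1, P2, y⟩ := c.exists_yPair b.toBT
  have h1 := y.comap_upG c b
  rw [← mem_comap, h1, mem_subgroupOf]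

theorem rho_10 (b : BTC V R) (c : Coord V R i j v w1 w2) {x : XX V R} (hx : (x : G) ∈ normalizer (R i : Set G)) :
    ent (c.rho b.toBT x) 1 0 = 0 := by
  have h1 := c.rho_spec b.toBT x 1 0
  have h2 : (x : G) * v 1 0 * (x : G)⁻¹ ∈ R i := conj_mem_of_normalizer hx ((c.mem_R1 _).2 ⟨1, rfl⟩)
  obtain ⟨y, hy⟩ := (c.mem_R1 _).1 h2
  rw [← hy] at h1
  have h3 := (c.v_inj h1).2
  rw [mul_one, mul_zero, add_zero] at h3
  exact h3.symm

/-- `|L ∩ X| = |F| - 1` -/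
theorem card_LX (b : BTC V R) (c : Coord V R i j v w1 w2) {L : Subgroup G}
    (nt : NT (PLoc.UZ V R i) (PLoc.B0 V R i K)) (hL : Cpl (PLoc.UZ V R i) (PLoc.B0 V R i K) L)
    (LR : L ≤ normalizer (R i : Set G)) : Nat.card (L ⊓ XX V R : Subgroup G) = Nat.card F - 1 := by
  have hbot := inf_eq_bot_of_odd nt.two (nt.odd_cpl hL)
  set ρ := c.rho b.toBT with hρ
  have h0 : ∀ x : (L ⊓ XX V R : Subgroup G), ent (ρ ⟨x, (mem_inf.1 x.2).2⟩) 1 0 = 0 := fun x =>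
    rho_10 b c (LR (mem_inf.1 x.2).1)
  refine card_of_chart (fun x => ent (ρ ⟨x, (mem_inf.1 x.2).2⟩) 0 0) ?_ ?_ ?_
  · intro x hx
    have hd := det_eq (ρ ⟨x, (mem_inf.1 x.2).2⟩)
    have hx' : ent (ρ ⟨x, (mem_inf.1 x.2).2⟩) 0 0 = 0 := hx
    rw [h0 x, hx', zero_mul, mul_zero, sub_zero] at hd
    exact zero_ne_one hd
  · intro x y hxy
    have hxy' : ent (ρ ⟨x, (mem_inf.1 x.2).2⟩) 0 0 = ent (ρ ⟨y, (mem_inf.1 y.2).2⟩) 0 0 := hxy
    have h1 : ρ ((⟨x, (mem_inf.1 x.2).2⟩ : XX V R)⁻¹ * ⟨y, (mem_inf.1 y.2).2⟩) ∈ upG F := by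
      have hd := det_eq (ρ ⟨x, (mem_inf.1 x.2).2⟩)
      rw [h0 x, mul_zero, sub_zero] at hd
      rw [map_mul, map_inv, mem_upG, ent_inv]
      simp only [ent_mul, mk_00, mk_01, mk_10, mk_11, h0 x, h0 y, ← hxy']
      constructor
      · linear_combination hd
      · ring
    have h2 : (x : G)⁻¹ * y ∈ PLoc.UZ V R i ⊓ L :=
      mem_inf.2 ⟨(mem_UZ_of_rho b c).1 h1, mul_mem (inv_mem (mem_inf.1 x.2).1) (mem_inf.1 y.2).1⟩
    rw [hbot, mem_bot, inv_mul_eq_one] at h2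
    exact Subtype.ext h2
  · intro a ha
    have hh1 : hh w1 w2 a ∈ XX V R := c.hh_mem_X b.toBT a
    have hhR : hh w1 w2 a ∈ normalizer (R i : Set G) := cj_eq_self_iff.1 (c.hh_R1 b.toBT ha)
    have hρa : ρ ⟨hh w1 w2 a, hh1⟩ = dg a ha := by
      refine c.rho_eq b.toBT ?_
      intro β γ
      show hh w1 w2 a * v β γ * (hh w1 w2 a)⁻¹ = _
      rw [c.hh_act ha]
      simp
    obtain ⟨u, hu, x, hx, e⟩ := nt.exists_mul hL ((le_sup_left : PLoc.A1 V R i ≤ _) (mem_inf.2 ⟨hh1, hhR⟩))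
    have hUX : PLoc.UZ V R i ≤ XX V R := sup_le (W_le_X V R i) YY_le_XX
    have hxX : x ∈ XX V R := by
      have e1 : x = u⁻¹ * hh w1 w2 a := by rw [e]; group
      rw [e1]
      exact mul_mem (inv_mem (hUX hu)) hh1
    obtain ⟨s, hs⟩ := (mem_UZ_of_rho b c (x := ⟨u, hUX hu⟩)).2 hu
    have e2 : (⟨hh w1 w2 a, hh1⟩ : XX V R) = ⟨u, hUX hu⟩ * ⟨x, hxX⟩ := Subtype.ext e
    have e3 : ρ ⟨x, hxX⟩ = (up s)⁻¹ * dg a ha := by
      rw [← hρa, e2, map_mul, hs]; group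
    refine ⟨⟨x, mem_inf.2 ⟨hx, hxX⟩⟩, ?_⟩
    show ent (ρ ⟨x, hxX⟩) 0 0 = a
    rw [e3, up_inv]
    simp [ent_mul]

/-- **`Four`** and `Hex` for `|F| = |k| = 4` -/
theorem exists_four (b : BTC V R) (c : Coord V R i j v w1 w2) (kd : KD V R i j K φ)
    (hC : centralizer (WW V (R i) : Set G) ≤ R i)
    (NAe : ∀ g ∈ normalizer (R i : Set G), cj g (WW V (R i) ⊔ UU V R j) = WW V (R i) ⊔ UU V R j → cj g V = V)
    (hF : Nat.card F = 4) (hk : Nat.card k = 4) (S : Sylow 2 G) (hSV : (S : Subgroup G) ≤ normalizer (V : Set G))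
    (hSR : (S : Subgroup G) ≤ normalizer (R i : Set G)) :
    ∃ (P₁ P₂ B U X₁ X₂ : Subgroup G) (h₁ h₂ n₁ n₂ : G),
      Hex P₁ P₂ B U (zpowers h₁ ⊔ zpowers h₂) V (R i) (WW V (R i)) (YY V R) (DD V R) n₁ n₂ 4 4 ∧
      B ⊓ centralizer (U : Set G) ≤ U ∧ U ≤ S ∧ (S : Subgroup G) ≤ B ∧
      GTwoFour.Id.Four F X₁ X₂ U V (R i) (WW V (R i)) (YY V R) (DD V R) h₁ h₂ ∧ X₁ ≤ P₁ ∧ X₂ ≤ P₂ ∧
      P₁ ≤ normalizer (V : Set G) ∧ P₂ ≤ normalizer (R i : Set G) := by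
  have := kd.finite
  have := kd.charP b
  have l := ploc b c kd hC NAe hF.ge
  have n : KIn V R i j K φ := { kd := kd, NA := NAe }
  obtain ⟨L, w, hcfg, hwV, ld, -, -, hL'⟩ := exists_cfgI b c kd hC NAe hF.ge
  have hL : Cpl (PLoc.UZ V R i) (PLoc.B0 V R i K) L := by
    rw [PLoc.UZ, n.UZ_eq b.toBT]
    exact hL'
  have hcomm := hcfg.toCfg.L_comm
  have hcK := card_LK b n l.nt hL ld.NV
  have hcX := card_LX b c l.nt hL ld.Ni
  rw [hk] at hcK
  rw [hF] at hcX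
  obtain ⟨h₂, e₂, h₂m, h₂1, h₂3⟩ := exists_gen hcK
  obtain ⟨h₁, e₁, h₁m, h₁1, h₁3⟩ := exists_gen hcX
  obtain ⟨h₁L, h₁X⟩ := mem_inf.1 h₁m
  obtain ⟨h₂L, h₂K⟩ := mem_inf.1 h₂m
  have hLeq : L = zpowers h₁ ⊔ zpowers h₂ := by
    rw [← e₁, ← e₂]
    apply le_antisymm
    · intro x hx
      obtain ⟨c', hc', hc'K, t, ht, htX, e⟩ := ld.CT x hx
      rw [e]
      exact mul_mem (mem_sup_right (mem_inf.2 ⟨hc', hc'K⟩)) (mem_sup_left (mem_inf.2 ⟨ht, htX⟩))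
    · exact sup_le inf_le_left inf_le_left
  have hSF : (S : Subgroup G) ≤ PLoc.NF V R i := le_inf hSV hSR
  obtain ⟨n₁, -, n₂, -, h⟩ := l.hex S.isPGroup' hSF hL
  rw [card_R c, hF, hk] at h
  rw [hLeq] at h
  have cR4 : Nat.card (R i) = 4 := by rw [card_R c, hF]
  have cU : Nat.card (PLoc.UZ V R i) = 4096 := by
    have h1 : Nat.card (WW V (R i)) * (WW V (R i)).relIndex (PLoc.UZ V R i) = Nat.card (PLoc.UZ V R i) :=
      card_mul_relIndex le_sup_left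
    have h2 : (WW V (R i)).relIndex (PLoc.UZ V R i) = 4 := by
      rw [PLoc.UZ, relIndex_sup_of_le (l.Y₂.trans (l.X₂N.trans (normalizer_le_WW V (R i)))), ← inf_relIndex_right,
        l.W_inf_Y]
      have h3 := card_mul_relIndex (UU_le_YY (V := V) (R := R) i)
      rw [l.card_Y, hk, mul_comm] at h3
      exact Nat.eq_of_mul_eq_mul_right Nat.card_pos h3
    rw [← h1, h2, l.card_W, l.card_UU, l.card_D, cR4, hk]
  have hnormX : ∀ x ∈ XX V R, ∀ a ∈ V, x * a * x⁻¹ ∈ V := fun x hx a ha =>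
    conj_mem_of_normalizer (b.X_le_NV hx) ha
  refine ⟨_, _, _, PLoc.UZ V R i, XX V R, K, h₁, h₂, n₁, n₂, h, ?_, ?_, le_sup_right, ?_, le_sup_left, le_sup_left,
    h.nV, h.nR⟩
  · refine inf_le_right.trans ((centralizer_le ?_).trans (hC.trans (h.RV.trans (h.VD.trans (h.DW.trans h.WU)))))
    exact h.WU
  · have h1 : IsPGroup 2 (PLoc.UZ V R i ⊔ S : Subgroup G) :=
      h.two.to_sup_of_normal_left' S.isPGroup' ((le_sup_right : (S : Subgroup G) ≤ PLoc.BB V R i K S).trans h.nU)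
    exact le_sup_left.trans (S.is_maximal' h1 le_sup_right).le
  obtain ⟨x₁, hx₁, hx₁R⟩ := l.exists_x₁
  obtain ⟨N, _, _, P1, P2, y⟩ := c.exists_yPair b.toBT
  have h₁NR := ld.Ni h₁L
  have h₁NV := ld.NV h₁L
  have h₂NR := ld.Ni h₂L
  have h₂NV := ld.NV h₂L
  exact
    { cF := hF
      UX₁ := l.U_A1.trans inf_le_left
      UX₂ := l.U_A2.trans inf_le_left
      sl₁ := by
        refine ⟨c.rho b.toBT, c.rho_surjective b.toBT, fun x => ?_⟩
        rw [← MonoidHom.mem_ker, y.ker_rho c b, mem_subgroupOf]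
      sl₂ := exists_sl (by rw [hk, hF]) φ kd.surj kd.ker
      nV := hnormX
      nD := fun x hx a ha => conj_mem_of_normalizer (b.NV_le_ND (b.X_le_NV hx)) ha
      cR := kd.KR
      Rn := by
        by_contra hcon
        push Not at hcon
        exact hx₁R (mem_normalizer_of_conj fun r hr => hcon x₁ hx₁ r hr)
      RV := h.RV
      VD := h.VD
      DW := h.DW
      DY := h.DY
      WU := h.WU
      YU := h.YU
      UWY := fun u hu => exists_mul_of_le (l.Y₂.trans (l.X₂N.trans (normalizer_le_WW V (R i)))) hu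
      D_of := by
        rintro g hg ⟨r, hr, hrg⟩ d hd hdg
        obtain ⟨m, hm⟩ := b.perm g (b.X_le_NV hg) i
        have hmi : i ≠ m := by
          rintro rfl
          exact hrg (by rw [← hm]; exact conj_mem_cj hr)
        rw [b.D_eq' hmi]
        refine mem_inf.2 ⟨hd, ?_⟩
        rw [← b.cj_WW hm, mem_cj]
        exact hdg
      kR := cR4
      kV := by rw [l.card_V, cR4]
      kD := by rw [l.card_D, cR4, hk]
      kWY := by rw [l.W_inf_Y, l.card_UU, l.card_D, cR4, hk]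
      kW := by rw [l.card_W, l.card_UU, l.card_D, cR4, hk]
      kY := by rw [l.card_Y, l.card_UU, l.card_D, cR4, hk]
      kU := cU
      V_sq := b.V_sq
      YV := h.YV
      WW := fun a ha a' ha' => b.WW_comm i ha ha'
      gen := by
        intro M hM
        refine iSup_le fun g => ?_
        obtain ⟨x, hx, e⟩ := l.exists_cj g.2
        rw [e]
        intro a ha
        rw [mem_cj] at ha
        have := hM x hx _ ha
        have e1 : x * (x⁻¹ * a * x) * x⁻¹ = a := by group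
        rwa [e1] at this
      h₁X := h₁X
      h₂X := h₂K
      h₁ne := h₁1
      h₂ne := h₂1
      h₁3 := h₁3
      h₂3 := h₂3
      hh := hcomm _ h₁L _ h₂L
      h₁X₂ := fun x hx => conj_mem_of_normalizer (l.NX₂ h₁NR) hx
      h₁U := fun x hx => conj_mem_of_normalizer (l.NF_NU (mem_inf.2 ⟨h₁NV, h₁NR⟩)) hx
      h₁W := fun x hx => conj_mem_of_normalizer (normalizer_le_WW V (R i) h₁NR) hx
      h₁R := fun x hx => conj_mem_of_normalizer h₁NR hx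
      h₂X₁ := fun x hx => conj_mem_of_normalizer (b.NV_le_NX h₂NV) hx
      h₂U := fun x hx => conj_mem_of_normalizer (l.NF_NU (mem_inf.2 ⟨h₂NV, h₂NR⟩)) hx
      h₂Y := fun x hx => conj_mem_of_normalizer (b.NV_le_NY h₂NV) hx
      h₂V := fun x hx => conj_mem_of_normalizer h₂NV hx
      h₂D := fun x hx => conj_mem_of_normalizer (b.NV_le_ND h₂NV) hx }

end Cfsg.Agent.Omega.SQEnd

end

end

-- merged: Cfsg.Agent.Mrg.Omega.SQEnd.GZeroOf
section

/-!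
# `GZero` from `BTC`, `Coord`, `KD`, `C(W) ≤ R`, `O₂(N(R)) = W`, `N_{N(R)}(W A) ≤ N(V)`, `|k| > 4`
-/

set_option autoImplicit false

universe u v w z

namespace Cfsg.Agent.Omega.SQEnd

open Subgroup Cfsg.Agent.Omega.BTwo Cfsg.Agent.Lib.SL2Mat Cfsg.Agent.Omega.Hex

variable {G : Type u} [Group G] [Finite G] {ι : Type v} {V : Subgroup G} {R : ι → Subgroup G} {i j : ι} {k : Type w}
  [Field k] {K : Subgroup G} {φ : K →* Matrix.SpecialLinearGroup (Fin 2) k} {F : Type z} [Field F] [Finite F]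
  [CharP F 2] {v : F → F → G} {w1 w2 : F → G}

/-- **`GZero`**, `|k| > 4` -/
theorem gZero (b : BTC V R) (c : Coord V R i j v w1 w2) (kd : KD V R i j K φ)
    (hC : centralizer (WW V (R i) : Set G) ≤ R i) (hQ : QQ (R i) = WW V (R i))
    (NAe : ∀ g ∈ normalizer (R i : Set G), cj g (WW V (R i) ⊔ UU V R j) = WW V (R i) ⊔ UU V R j → cj g V = V)
    (hF : 4 ≤ Nat.card F) (hk : 4 < Nat.card k) (hB : RootLemma.Bender.{u}) (hG : IsCharacteristicTwoType G)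
    (S : Sylow 2 G) (hS : (S : Subgroup G) ≤ normalizer (R i : Set G)) : IIa4.GZero V R := by
  have := kd.finite
  have := kd.charP b
  obtain ⟨L, w, h, hwV, -, -, -, hL⟩ := exists_cfgI b c kd hC NAe hF
  have n : KIn V R i j K φ := { kd := kd, NA := NAe }
  refine n.gZero b c hB hG hC hQ S hS hF hk h.toCfg ?_ inf_le_right hwV
  rw [PLoc.UZ, n.UZ_eq b.toBT]
  exact hL

end Cfsg.Agent.Omega.SQEnd

end

private theorem dce_4f2ebec241c8 : _root_.True := by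
  try have : _root_.True := by simp only [_root_.Cfsg.Agent.Omega.Hex.CH.eq_1]
  try have : _root_.True := by simp only [_root_.Cfsg.Agent.Omega.Hex.Hex.frame.congr_simp]
  try have : _root_.True := by simp only [_root_.Cfsg.Agent.Omega.Hex.LL.eq_1]
  exact _root_.True.intro
end

-- part: Mrg/Omega/Lie/End/Gam
section
set_option linter.all false
open scoped Cfsg.Agent.FastGrp

section


/-!
# NODE LIE, the END: nodes of type `(γ)`

`mem_D_of_norm` : if `V ^ p` (`p ∈ N(R i)`) does not commute with `V`, then `U j ∩ N(V ^ p) ≤ D`: the elements `≠ 1` of `A`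
do not fix the point `e ^ p`.

`hreg_of_gam` : hypothesis `hreg` of `KDOf.kd_of_reg` from `GamT`.
-/

set_option autoImplicit false
set_option linter.unusedSectionVars false

namespace Cfsg.Agent.Omega.Lie.End.GamOf

open Subgroup Cfsg Cfsg.Agent.Omega.BTwo Cfsg.Agent.ParSys Cfsg.Agent.Omega.Lie Cfsg.Agent.Omega.Lie.Quot

universe u v w

section BT

variable {G : Type u} [Group G] {ι : Type w} {V : Subgroup G} {R : ι → Subgroup G} {i j : ι} {F : Type v} [Field F]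
  {v : F → F → G} {w1 w2 : F → G}

/-- `w ∈ W i` commuting with an element of `V` outside `R i` centralises `V` -/
theorem cen_of_comm (c : Coord V R i j v w1 w2) {w y : G} (hw : w ∈ WW V (R i)) (hy : y ∈ V) (hyR : y ∉ R i)
    (h : w * y = y * w) : w ∈ centralizer (V : Set G) := by
  obtain ⟨p, r, rfl⟩ := (c.mem_V y).1 hy
  obtain ⟨s, hs⟩ := c.W1_act w hw
  have h1 := hs p r
  rw [h, mul_inv_cancel_right] at h1
  obtain ⟨h2, -⟩ := c.v_inj h1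
  have h3 : s * r = 0 := by linear_combination -h2
  have hr : r ≠ 0 := by
    rintro rfl
    exact hyR ((c.mem_R1 _).2 ⟨p, rfl⟩)
  have hs0 : s = 0 := (mul_eq_zero.1 h3).resolve_right hr
  rw [mem_centralizer_iff]
  intro x hx
  obtain ⟨a, d, rfl⟩ := (c.mem_V x).1 hx
  have h4 := hs a d
  rw [hs0, zero_mul, add_zero, mul_inv_eq_iff_eq_mul] at h4
  exact h4.symm

/-- **`U j ∩ N(V ^ p) ≤ D`** if `V ^ p` does not commute with `V` -/
theorem mem_D_of_norm (b : BT V R) (c : Coord V R i j v w1 w2) {p : G} (hp : p ∈ normalizer (R i : Set G))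
    (hpV : ∃ x ∈ V, ∃ y ∈ V, p * x * p⁻¹ * y ≠ y * (p * x * p⁻¹)) {u : G} (hu : u ∈ UU V R j)
    (hun : p⁻¹ * u * p ∈ normalizer (V : Set G)) : u ∈ DD V R := by
  obtain ⟨x, hx, y, hy, hxy⟩ := hpV
  set x' := p * x * p⁻¹ with hx'
  have hx'W : x' ∈ WW V (R i) := cj_le_WW hp (conj_mem_cj hx)
  have hx'N : x' ∈ normalizer (V : Set G) := b.W_le_NV i hx'W
  have hij : i ≠ j := c.ne
  -- `x'` moves `R j`
  obtain ⟨k, hk⟩ := b.perm x' hx'N j
  have hkj : k ≠ j := by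
    rintro rfl
    apply hxy
    obtain ⟨s, hs⟩ := c.W1_act x' hx'W
    have h1 := conj_mem_cj (g := x') ((c.mem_R2 (v 0 1)).2 ⟨1, rfl⟩)
    rw [hk, hs 0 1] at h1
    obtain ⟨r, hr⟩ := (c.mem_R2 _).1 h1
    obtain ⟨h2, -⟩ := c.v_inj hr
    have hs0 : s = 0 := by linear_combination -h2
    obtain ⟨a, d, rfl⟩ := (c.mem_V y).1 hy
    have h4 := hs a d
    rw [hs0, zero_mul, add_zero, mul_inv_eq_iff_eq_mul] at h4
    exact h4
  -- `z = [u, x'] ∈ R i`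
  set z := u * x' * u⁻¹ * x'⁻¹ with hz
  have hzV' : p⁻¹ * z * p ∈ V := by
    have h1 : p⁻¹ * (u * x' * u⁻¹) * p ∈ V := by
      have h2 := BTwo.conj_mem_of_normalizer hun hx
      have e : p⁻¹ * u * p * x * (p⁻¹ * u * p)⁻¹ = p⁻¹ * (u * x' * u⁻¹) * p := by rw [hx']; group
      rwa [e] at h2
    have e : p⁻¹ * z * p = p⁻¹ * (u * x' * u⁻¹) * p * x⁻¹ := by rw [hz, hx']; group
    rw [e]
    exact mul_mem h1 (inv_mem hx)
  have huC := UU_le_cen j hu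
  have hzC : z ∈ centralizer (V : Set G) := by
    have e : z = u * (x' * u⁻¹ * x'⁻¹) := by rw [hz]; group
    rw [e]
    exact mul_mem huC (BTwo.conj_mem_of_normalizer (normalizer_le_normalizer_centralizer _ hx'N) (inv_mem huC))
  have hzR : z ∈ R i := by
    by_contra hcon
    apply hxy
    -- `p⁻¹ y p ∈ W i` commutes with `p⁻¹ z p ∈ V - R i`
    have h1 : p⁻¹ * y * p ∈ WW V (R i) := by
      have h2 := BTwo.conj_mem_of_normalizer (normalizer_le_WW V (R i) (inv_mem hp)) (V_le_WW V (R i) hy)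
      rwa [inv_inv] at h2
    have h2 : p⁻¹ * z * p ∉ R i := by
      intro h3
      apply hcon
      have h4 := BTwo.conj_mem_of_normalizer hp h3
      have e : p * (p⁻¹ * z * p) * p⁻¹ = z := by group
      rwa [e] at h4
    have h3 : p⁻¹ * y * p * (p⁻¹ * z * p) = p⁻¹ * z * p * (p⁻¹ * y * p) := by
      have h4 := mem_centralizer_iff.1 hzC y hy
      calc p⁻¹ * y * p * (p⁻¹ * z * p) = p⁻¹ * (y * z) * p := by group
        _ = p⁻¹ * z * p * (p⁻¹ * y * p) := by rw [h4]; group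
    have h4 := mem_centralizer_iff.1 (cen_of_comm c h1 hzV' h2 h3) x hx
    calc x' * y = p * (x * (p⁻¹ * y * p)) * p⁻¹ := by rw [hx']; group
      _ = p * (p⁻¹ * y * p * x) * p⁻¹ := by rw [h4]
      _ = y * x' := by rw [hx']; group
  -- `u ∈ W j ∩ W k`
  have h1 : x' * u * x'⁻¹ ∈ WW V (R k) := by
    rw [← b.cj_WW hk]
    exact conj_mem_cj (UU_le_WW j hu)
  have h2 : u ∈ WW V (R k) := by
    have e : u = z * (x' * u * x'⁻¹) := by rw [hz]; group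
    rw [e]
    exact mul_mem (V_le_WW V (R k) (b.R_le i hzR)) h1
  rw [b.D_eq' hkj.symm]
  exact mem_inf.2 ⟨UU_le_WW j hu, h2⟩

/-- `pr x ∈ im N(V)` iff `x ∈ N(V)` -/
theorem mem_E0 (b : BT V R) (hQ : QQ (R i) = WW V (R i)) {x : G} (hx : x ∈ normalizer (R i : Set G)) :
    pr (R i) ⟨x, hx⟩ ∈ im (R i) (normalizer (V : Set G)) ↔ x ∈ normalizer (V : Set G) :=
  pr_mem_im_iff (hQ.le.trans (b.W_le_NV i)) hx

/-- **`hreg`** from type `(γ)` -/
theorem hreg_of_gam (b : BT V R) (c : Coord V R i j v w1 w2) (hQ : QQ (R i) = WW V (R i))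
    {S' B' P' : Subgroup (HQ (R i))} (hptr : Hall.HallData.PTr B' S' P')
    (hS : S' ≤ im (R i) (normalizer (V : Set G))) (hB : B' ≤ im (R i) (normalizer (V : Set G))) {p : G}
    (hp : p ∈ normalizer (R i : Set G)) (hpP : pr (R i) ⟨p, hp⟩ ∈ P')
    (hpV : ∃ x ∈ V, ∃ y ∈ V, p * x * p⁻¹ * y ≠ y * (p * x * p⁻¹)) :
    pr (R i) ⟨p, hp⟩ ∉ im (R i) (normalizer (V : Set G)) ∧
    ∀ a ∈ AA V R i j, ∀ g ∈ P', g ∉ im (R i) (normalizer (V : Set G)) →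
      g⁻¹ * a * g ∈ im (R i) (normalizer (V : Set G)) → a = 1 := by
  have hpE : pr (R i) ⟨p, hp⟩ ∉ im (R i) (normalizer (V : Set G)) := by
    rw [mem_E0 b hQ]
    intro h
    obtain ⟨x, hx, y, hy, hxy⟩ := hpV
    exact hxy (b.V_comm _ (BTwo.conj_mem_of_normalizer h hx) y hy)
  refine ⟨hpE, ?_⟩
  intro a ha g hg hgE hga
  obtain ⟨s, hs, d, hd, rfl⟩ := hptr _ hpP (fun h => hpE (hB h)) g hg (fun h => hgE (hB h))
  obtain ⟨s, hsN, rfl⟩ := exists_pr s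
  obtain ⟨d, hdN, rfl⟩ := exists_pr d
  obtain ⟨u, hu, rfl⟩ := (mem_AA b).1 ha
  have hsV := (mem_E0 b hQ hsN).1 (hS hs)
  have hdV := (mem_E0 b hQ hdN).1 (hB hd)
  have hgN : s * p * d ∈ normalizer (R i : Set G) := mul_mem (mul_mem hsN hp) hdN
  have h1 : pr (R i) ⟨(s * p * d)⁻¹ * u * (s * p * d), mul_mem (mul_mem (inv_mem hgN) (U_le_N b i j hu)) hgN⟩ ∈
      im (R i) (normalizer (V : Set G)) := hga
  rw [mem_E0 b hQ] at h1
  have h2 : u ∈ DD V R := by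
    refine mem_D_of_norm b c hgN ?_ hu h1
    obtain ⟨x, hx, y, hy, hxy⟩ := hpV
    have hd' := BTwo.conj_mem_of_normalizer (inv_mem hdV) hx
    rw [inv_inv] at hd'
    refine ⟨d⁻¹ * x * d, hd', s * y * s⁻¹, BTwo.conj_mem_of_normalizer hsV hy, fun h3 => hxy ?_⟩
    have e1 : s * p * d * (d⁻¹ * x * d) * (s * p * d)⁻¹ * (s * y * s⁻¹) = s * (p * x * p⁻¹ * y) * s⁻¹ := by group
    have e2 : s * y * s⁻¹ * (s * p * d * (d⁻¹ * x * d) * (s * p * d)⁻¹) = s * (y * (p * x * p⁻¹)) * s⁻¹ := by group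
    rw [e1, e2] at h3
    exact mul_left_cancel (mul_right_cancel h3)
  exact (pr_eq_one _).2 (b.W_le_Q i (mem_DD.1 h2 i))

end BT

end Cfsg.Agent.Omega.Lie.End.GamOf

end

section


/-!
# NODE LIE, the END: a node of type `(γ)` is the rank one case

`RS.kd_of_gam` : if some conjugate `V ^ p`, `p ∈ PG K T S P x`, does not commute with `V`, then there is only one moved
component, it has only one node, and `SQEnd.KD` holds for its preimage.
-/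

set_option autoImplicit false
set_option linter.unusedSectionVars false

namespace Cfsg.Agent.Omega.Lie.End

open Subgroup Cfsg Cfsg.Agent.ParSys Cfsg.Agent.Omega.BTwo Cfsg.Agent.Omega.Lie Cfsg.Agent.Omega.Lie.Quot
open Cfsg.Agent.Omega.IIa4 Cfsg.Agent.Omega.Lie.End.OfLay

universe u v w

variable {G : Type u} [Group G] {ι : Type w} {V : Subgroup G} {R : ι → Subgroup G} {F : Type v} [Field F] {i j : ι}
  {v : F → F → G} {w1 w2 : F → G} {t : F → G}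

namespace RS

variable {T S : Subgroup (HQ (R i))} {α : Type} {K : α → Subgroup (HQ (R i))} {J : α → Type}
  {P : ∀ a, J a → Subgroup (K a)} {m : ∀ a, J a → J a → ℕ} (D : RS V R i j T S K J P m)
include D

/-- `TAct` for all moved components -/
theorem tact_all [Finite F] [CharP F 2] [Finite G] (b : BT V R) (τ : TorD V R i j v t) (hij : i ≠ j) (hT : T = TT τ)
    (h4 : 4 ≤ Nat.card F) (L : Subgroup (HQ (R i))) (hL : MComp V R i j L) : TAct (S.subgroupOf L) (Tact T L) := by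
  subst hT
  exact tact_of_lay b τ hij h4 D.lay hL

/-- `C` fixes the point `e` -/
theorem CC_le_E0 [Finite G] (hNV : ∀ (g : G) (hg : g ∈ normalizer (R i : Set G)),
    pr (R i) ⟨g, hg⟩ ∈ normalizer (AA V R i j : Set (HQ (R i))) → g ∈ normalizer (V : Set G)) :
    CC K (fun a => S.subgroupOf (K a)) T ≤ im (R i) (normalizer (V : Set G)) := by
  intro x hx
  obtain ⟨g, hg, rfl⟩ := exists_pr x
  exact pr_mem_im hg (hNV g hg (D.CC_norm_A hx))

/-- **a node of type `(γ)`**: the only component, the only node -/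
theorem uniq_of_gam [Finite G] [Finite α] [Finite F] [CharP F 2] (b : BTC V R) (c : Coord V R i j v w1 w2)
    (τ : TorD V R i j v t) (hij : i ≠ j) (hT : T = TT τ) (h4 : 4 ≤ Nat.card F) (hQ : QQ (R i) = WW V (R i))
    (hNV : ∀ (g : G) (hg : g ∈ normalizer (R i : Set G)),
      pr (R i) ⟨g, hg⟩ ∈ normalizer (AA V R i j : Set (HQ (R i))) → g ∈ normalizer (V : Set G))
    {a : α} {k : J a} (hm : End.Moved (S.subgroupOf (K a)) (Tact T (K a)) (P a k))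
    (hg : GamT V (PG K T S P ⟨a, k⟩)) :
    (∀ L : Subgroup (HQ (R i)), MComp V R i j L → L = K a) ∧ ∀ x y : J a, x = y := by
  obtain ⟨p, hp, hpV⟩ := hg
  obtain ⟨hpN, hpP⟩ := mem_up.1 hp
  have hCE := D.CC_le_E0 hNV
  have hpre := D.psit.pre
  obtain ⟨h1, h2⟩ := GamOf.hreg_of_gam b.toBT c hQ (hpre.ptr ⟨a, k⟩) ((hpre.U_le).trans hCE) hCE hpN hpP hpV
  have hle : (P a k).map (K a).subtype ≤ PPx K (fun a => S.subgroupOf (K a)) T P ⟨a, k⟩ := le_sup_left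
  refine KDOf.uniq_of_reg D.lay (D.mem a) (D.tact_all b.toBT τ hij hT h4) (D.sys a) hm
    (im (R i) (normalizer (V : Set G))) ?_ ?_ ?_ ?_
  · exact im_mono ((UU_le_cen j).trans (centralizer_le_normalizer _))
  · intro x hx
    refine hCE ?_
    exact mem_sup_left ((le_iSup (fun a => (normalizer ((S.subgroupOf (K a) : Subgroup (K a)) : Set (K a))).map
      (K a).subtype) a) ⟨x, hx, rfl⟩)
  · by_contra hcon
    push Not at hcon
    apply h1
    have h3 : PPx K (fun a => S.subgroupOf (K a)) T P ⟨a, k⟩ ≤ im (R i) (normalizer (V : Set G)) := by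
      refine sup_le ?_ hCE
      rintro _ ⟨x, hx, rfl⟩
      exact hcon x hx
    exact h3 hpP
  · intro y hy g hg hgE hga
    exact h2 y hy g (hle ⟨g, hg, rfl⟩) hgE hga

/-- **`KD` from a node of type `(γ)`** -/
theorem kd_of_gam [Finite G] [Finite α] [Finite F] [CharP F 2] (b : BTC V R) (c : Coord V R i j v w1 w2)
    (τ : TorD V R i j v t) (hij : i ≠ j) (hT : T = TT τ) (h4 : 4 ≤ Nat.card F) (hQ : QQ (R i) = WW V (R i))
    (hNV : ∀ (g : G) (hg : g ∈ normalizer (R i : Set G)),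
      pr (R i) ⟨g, hg⟩ ∈ normalizer (AA V R i j : Set (HQ (R i))) → g ∈ normalizer (V : Set G))
    (hone : ∀ a, (∀ x y : J a, x = y) → ∃ (F : Type) (_ : Field F) (_ : Fintype F), ringChar F = 2 ∧
      Nonempty (K a ≃* Matrix.ProjectiveSpecialLinearGroup (Fin 2) F))
    {a : α} {k : J a} (hm : End.Moved (S.subgroupOf (K a)) (Tact T (K a)) (P a k))
    (hg : GamT V (PG K T S P ⟨a, k⟩)) :
    ∃ (k : Type) (_ : Field k) (_ : Finite k) (_ : CharP k 2) (K' : Subgroup G)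
      (φ : K' →* Matrix.SpecialLinearGroup (Fin 2) k), SQEnd.KD V R i j K' φ (k := k) := by
  obtain ⟨h1, h2⟩ := D.uniq_of_gam b c τ hij hT h4 hQ hNV hm hg
  obtain ⟨k', i1, i2, i3, φ, kd⟩ := KDOf.kd_of_lay b hij hQ D.lay (D.mem a)
    (D.tact_all b.toBT τ hij hT h4 _ (D.mem a)) D.normal h1 (D.sys a) h2 (hone a h2)
  exact ⟨k', i1, i2, i3, _, φ, kd⟩

/-- **`KD` if some node is of type `(γ)`** (from `RealSys`-level data) -/
theorem kd_of_gamT [Finite G] [Finite α] [Finite F] [CharP F 2] (b : BTC V R) (c : Coord V R i j v w1 w2)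
    (τ : TorD V R i j v t) (hij : i ≠ j) (hT : T = TT τ) (h4 : 4 ≤ Nat.card F) (hQ : QQ (R i) = WW V (R i))
    (hNV : ∀ (g : G) (hg : g ∈ normalizer (R i : Set G)),
      pr (R i) ⟨g, hg⟩ ∈ normalizer (AA V R i j : Set (HQ (R i))) → g ∈ normalizer (V : Set G))
    (hCA : ∀ x ∈ WW V (R i), (∀ u ∈ UU V R j, u * x * u⁻¹ * x⁻¹ ∈ R i) → x ∈ V)
    (hone : ∀ a, (∀ x y : J a, x = y) → ∃ (F : Type) (_ : Field F) (_ : Fintype F), ringChar F = 2 ∧
      Nonempty (K a ≃* Matrix.ProjectiveSpecialLinearGroup (Fin 2) F))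
    {x : Σ a, J a} (hg : GamT V (PG K T S P x)) :
    ∃ (k : Type) (_ : Field k) (_ : Finite k) (_ : CharP k 2) (K' : Subgroup G)
      (φ : K' →* Matrix.SpecialLinearGroup (Fin 2) k), SQEnd.KD V R i j K' φ (k := k) := by
  have hd := D.datG b c τ hij hT hNV
  refine D.kd_of_gam b c τ hij hT h4 hQ hNV hone ((D.moved_iff b.toBT c hij hd hCA).2 fun hle => ?_) hg
  obtain ⟨p, hp, y, hy, y', hy', hne⟩ := hg
  exact hne (b.V_comm _ (BTwo.conj_mem_of_normalizer (hle hp) hy) y' hy')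

end RS

end Cfsg.Agent.Omega.Lie.End

end
end

-- part: Mrg/Omega/NO3S/MidB/No/InnG1
section
prune_inst 0xc0000040504002000018051280003c46c6000190002b0001d9a00942058edf6309002720fca01f101912aa6400390060024c00490010000000000a0041190481802a62821340a10426000980b807180c00000000000000000000000000041000000000000
set_option linter.all false
open scoped Cfsg.Agent.FastGrp

section


/-!
# NO-3S, natural lines, critical distance 2: THEOREM INN, the realisation of `N_G(Z)` on `W_Z / Z`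

`RN V Z ρ π` : `ρ : N_G(Z) → H`, `π : W_Z → M`, `M = W_Z / Z`, `H = N_G(Z) / {g : [g, W_Z] ≤ Z}`;
`RN.mp K ≤ M`, `RN.mr K ≤ H` are the images of `K`.
-/

set_option autoImplicit false
set_option linter.unusedSectionVars false

namespace Cfsg.Agent.Omega.NO3S.MidB.No

open Subgroup Cfsg.Agent.Omega.NO3S.PT Cfsg.Agent.Omega.NoFF.Basic Cfsg.Agent.ZN
open Cfsg.Agent.Omega.NO3S.MidQ (Adj Com Cr UU ws_of kx_of isCj_iff adj_iff com_iff cr_iff)
open Cfsg.Agent.Omega.NO3S.OneS (IsBB)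
open scoped Pointwise

universe u

variable {G : Type u} [Group G]

/-- the realisation of `N_G(Z)` on `W_Z / Z` -/
structure RN (V Z : Subgroup G) {H M : Type*} [Group H] [CommGroup M] [MulDistribMulAction H M] (ρ : G → H)
    (π : G → M) : Prop where
  mulρ : ∀ a ∈ normalizer (Z : Set G), ∀ b ∈ normalizer (Z : Set G), ρ (a * b) = ρ a * ρ b
  surjρ : ∀ x, ∃ a ∈ normalizer (Z : Set G), ρ a = x
  kerρ : ∀ a ∈ normalizer (Z : Set G), (ρ a = 1 ↔ ∀ w ∈ ws V Z, a * w * a⁻¹ * w⁻¹ ∈ Z)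
  mulπ : ∀ a ∈ ws V Z, ∀ b ∈ ws V Z, π (a * b) = π a * π b
  surjπ : ∀ m, ∃ a ∈ ws V Z, π a = m
  kerπ : ∀ a ∈ ws V Z, (π a = 1 ↔ a ∈ Z)
  act : ∀ g ∈ normalizer (Z : Set G), ∀ w ∈ ws V Z, π (g * w * g⁻¹) = ρ g • π w
  le : Z ≤ ws V Z
  com : ws V Z ≤ centralizer ((ws V Z : Subgroup G) : Set G)

/-- **existence** -/
theorem exists_rn {V Z : Subgroup G} (h1 : Z ≤ ws V Z) (h2 : ws V Z ≤ centralizer ((ws V Z : Subgroup G) : Set G)) :
    ∃ (H M : Type u) (_ : Group H) (_ : CommGroup M) (_ : MulDistribMulAction H M) (ρ : G → H) (π : G → M),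
      RN V Z ρ π := by
  obtain ⟨H, M, i1, i2, i3, ρ, π, a1, a2, a3, a4, a5, a6, a7⟩ :=
    FarQ.exists_mod (C := normalizer (Z : Set G)) (W := ws V Z) (R := Z)
      (fun c hc w hw => (mem_normalizer_iff.1 (normalizer_le_ws V Z hc) w).1 hw)
      (fun c hc w hw => (mem_normalizer_iff.1 hc w).1 hw)
      (fun a ha b hb => (mem_centralizer_iff.1 (h2 ha) b hb).symm)
  exact ⟨H, M, i1, i2, i3, ρ, π, a1, a2, a3, a4, a5, a6, a7, h1, h2⟩

namespace RN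

variable {V Z : Subgroup G} {H M : Type*} [Group H] [CommGroup M] [MulDistribMulAction H M] {ρ : G → H} {π : G → M}
variable (r : RN V Z ρ π)
include r

theorem conj_ws {g w : G} (hg : g ∈ normalizer (Z : Set G)) (hw : w ∈ ws V Z) : g * w * g⁻¹ ∈ ws V Z :=
  (mem_normalizer_iff.1 (normalizer_le_ws V Z hg) w).1 hw

theorem one_ρ : ρ 1 = 1 := by
  have h1 := r.mulρ 1 (one_mem _) 1 (one_mem _)
  rw [mul_one] at h1
  exact left_eq_mul.1 h1

theorem inv_ρ {a : G} (ha : a ∈ normalizer (Z : Set G)) : ρ a⁻¹ = (ρ a)⁻¹ := by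
  have h1 := r.mulρ a ha a⁻¹ (inv_mem ha)
  rw [mul_inv_cancel, r.one_ρ] at h1
  exact (inv_eq_of_mul_eq_one_right h1.symm).symm

theorem pow_ρ {a : G} (ha : a ∈ normalizer (Z : Set G)) (n : ℕ) : ρ (a ^ n) = (ρ a) ^ n := by
  induction n with
  | zero => rw [pow_zero, pow_zero, r.one_ρ]
  | succ n ih => rw [pow_succ, pow_succ, r.mulρ _ (pow_mem ha n) _ ha, ih]

theorem one_π : π 1 = 1 := by
  have h1 := r.mulπ 1 (one_mem _) 1 (one_mem _)
  rw [mul_one] at h1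
  exact left_eq_mul.1 h1

theorem inv_π {a : G} (ha : a ∈ ws V Z) : π a⁻¹ = (π a)⁻¹ := by
  have h1 := r.mulπ a ha a⁻¹ (inv_mem ha)
  rw [mul_inv_cancel, r.one_π] at h1
  exact (inv_eq_of_mul_eq_one_right h1.symm).symm

/-- the homomorphism `N_G(Z) → H` -/
def rh : normalizer (Z : Set G) →* H where
  toFun a := ρ a
  map_one' := r.one_ρ
  map_mul' a b := r.mulρ a a.2 b b.2

theorem rh_surj : Function.Surjective r.rh := by
  intro x
  obtain ⟨a, ha, e⟩ := r.surjρ x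
  exact ⟨⟨a, ha⟩, e⟩

/-- the homomorphism `W_Z → M` -/
def ph : ws V Z →* M where
  toFun a := π a
  map_one' := r.one_π
  map_mul' a b := r.mulπ a a.2 b b.2

theorem ph_surj : Function.Surjective r.ph := by
  intro x
  obtain ⟨a, ha, e⟩ := r.surjπ x
  exact ⟨⟨a, ha⟩, e⟩

/-- the image of `K` in `M` -/
def mp (K : Subgroup G) : Subgroup M := (K.subgroupOf (ws V Z)).map r.ph

/-- the image of `K` in `H` -/
def mr (K : Subgroup G) : Subgroup H := (K.subgroupOf (normalizer (Z : Set G))).map r.rh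

theorem mem_mp {K : Subgroup G} {m : M} : m ∈ r.mp K ↔ ∃ a ∈ K, a ∈ ws V Z ∧ π a = m := by
  constructor
  · rintro ⟨a, ha, e⟩
    exact ⟨a, mem_subgroupOf.1 ha, a.2, e⟩
  · rintro ⟨a, ha, ha', e⟩
    exact ⟨⟨a, ha'⟩, mem_subgroupOf.2 ha, e⟩

theorem mem_mr {K : Subgroup G} {x : H} : x ∈ r.mr K ↔ ∃ a ∈ K, a ∈ normalizer (Z : Set G) ∧ ρ a = x := by
  constructor
  · rintro ⟨a, ha, e⟩
    exact ⟨a, mem_subgroupOf.1 ha, a.2, e⟩
  · rintro ⟨a, ha, ha', e⟩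
    exact ⟨⟨a, ha'⟩, mem_subgroupOf.2 ha, e⟩

theorem mp_mem {K : Subgroup G} {a : G} (ha : a ∈ K) (ha' : a ∈ ws V Z) : π a ∈ r.mp K := r.mem_mp.2 ⟨a, ha, ha', rfl⟩

theorem mr_mem {K : Subgroup G} {a : G} (ha : a ∈ K) (ha' : a ∈ normalizer (Z : Set G)) : ρ a ∈ r.mr K :=
  r.mem_mr.2 ⟨a, ha, ha', rfl⟩

/-- `π a = π b` -/
theorem π_eq {a b : G} (ha : a ∈ ws V Z) (hb : b ∈ ws V Z) : π a = π b ↔ a * b⁻¹ ∈ Z := by
  rw [← r.kerπ _ (mul_mem ha (inv_mem hb)), r.mulπ _ ha _ (inv_mem hb), r.inv_π hb, mul_inv_eq_one]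

theorem mp_mem_iff {K : Subgroup G} (hK : Z ≤ K) {a : G} (ha' : a ∈ ws V Z) : π a ∈ r.mp K ↔ a ∈ K := by
  refine ⟨fun h1 => ?_, fun h1 => r.mp_mem h1 ha'⟩
  obtain ⟨b, hb, hb', e⟩ := r.mem_mp.1 h1
  have h2 := (r.π_eq ha' hb').1 e.symm
  have h3 : a = a * b⁻¹ * b := by group
  rw [h3]
  exact mul_mem (hK h2) hb

theorem mp_le_iff {K K' : Subgroup G} (hK' : Z ≤ K') (hK : K ≤ ws V Z) : r.mp K ≤ r.mp K' ↔ K ≤ K' := by
  constructor
  · intro h1 a ha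
    exact (r.mp_mem_iff hK' (hK ha)).1 (h1 (r.mp_mem ha (hK ha)))
  · intro h1 m hm
    obtain ⟨a, ha, ha', rfl⟩ := r.mem_mp.1 hm
    exact r.mp_mem (h1 ha) ha'

theorem mp_inj {K K' : Subgroup G} (hK : Z ≤ K) (hK' : Z ≤ K') (h1 : K ≤ ws V Z) (h2 : K' ≤ ws V Z) :
    r.mp K = r.mp K' ↔ K = K' :=
  ⟨fun e => le_antisymm ((r.mp_le_iff hK' h1).1 e.le) ((r.mp_le_iff hK h2).1 e.ge), fun e => e ▸ rfl⟩

theorem smul_mp {g : G} (hg : g ∈ normalizer (Z : Set G)) (K : Subgroup G) : ρ g • r.mp K = r.mp (cj g K) := by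
  have key : ∀ {g : G} (_ : g ∈ normalizer (Z : Set G)) (K : Subgroup G), ρ g • r.mp K ≤ r.mp (cj g K) := by
    intro g hg K
    rintro _ ⟨m, hm, rfl⟩
    obtain ⟨a, ha, ha', rfl⟩ := r.mem_mp.1 hm
    change ρ g • π a ∈ _
    rw [← r.act g hg a ha']
    exact r.mp_mem (conj_mem_cj ha) (r.conj_ws hg ha')
  refine le_antisymm (key hg K) ?_
  have h1 := key (inv_mem hg) (cj g K)
  rw [cj_cj, inv_mul_cancel, cj_one, r.inv_ρ hg] at h1
  rwa [Subgroup.pointwise_smul_subset_iff, inv_inv] at h1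

theorem card_mp [Finite G] {K : Subgroup G} (hK : Z ≤ K) (h1 : K ≤ ws V Z) :
    Nat.card (r.mp K) * Nat.card Z = Nat.card K := by
  have h2 := Subgroup.card_mul_index (r.ph.ker.subgroupOf (K.subgroupOf (ws V Z)))
  have e1 : Nat.card (K.subgroupOf (ws V Z)) = Nat.card K := Nat.card_congr (Subgroup.subgroupOfEquivOfLe h1).toEquiv
  have e2 : (r.ph.ker.subgroupOf (K.subgroupOf (ws V Z))).index = Nat.card (r.mp K) := by
    rw [mp, ← Subgroup.relIndex, Subgroup.relIndex_ker]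
  have e3 : Nat.card (r.ph.ker.subgroupOf (K.subgroupOf (ws V Z))) = Nat.card Z := by
    refine Nat.card_congr ⟨fun x => ⟨((x : K.subgroupOf (ws V Z)) : ws V Z), ?_⟩,
      fun x => ⟨⟨⟨x, r.le x.2⟩, mem_subgroupOf.2 (hK x.2)⟩, ?_⟩, fun x => rfl, fun x => rfl⟩
    · exact (r.kerπ _ ((x : K.subgroupOf (ws V Z)) : ws V Z).2).1 (MonoidHom.mem_ker.1 (mem_subgroupOf.1 x.2))
    · exact mem_subgroupOf.2 (MonoidHom.mem_ker.2 ((r.kerπ _ (r.le x.2)).2 x.2))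
  rw [e1, e2, e3, mul_comm] at h2
  exact h2

theorem card_M [Finite G] : Nat.card M * Nat.card Z = Nat.card (ws V Z) := by
  have h1 := r.card_mp r.le le_rfl
  have h2 : r.mp (ws V Z) = ⊤ := by
    rw [eq_top_iff]
    intro m _
    obtain ⟨a, ha, rfl⟩ := r.surjπ m
    exact r.mp_mem ha ha
  rwa [h2, Nat.card_congr Subgroup.topEquiv.toEquiv] at h1

theorem finite_M [Finite G] : Finite M := Finite.of_surjective _ r.ph_surj

theorem finite_H [Finite G] : Finite H := Finite.of_surjective _ r.rh_surj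

/-- `[g, w]` -/
theorem π_comm {g w : G} (hg : g ∈ normalizer (Z : Set G)) (hw : w ∈ ws V Z) (sq : ∀ m : M, m * m = 1) :
    ρ g • π w * π w = π (g * w * g⁻¹ * w⁻¹) := by
  have h1 : π w⁻¹ = π w := by
    rw [r.inv_π hw]
    exact inv_eq_of_mul_eq_one_right (sq _)
  rw [r.mulπ _ (r.conj_ws hg hw) _ (inv_mem hw), r.act g hg w hw, h1]

theorem fix_iff {g w : G} (hg : g ∈ normalizer (Z : Set G)) (hw : w ∈ ws V Z) :
    ρ g • π w = π w ↔ g * w * g⁻¹ * w⁻¹ ∈ Z := by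
  rw [← r.act g hg w hw, r.π_eq (r.conj_ws hg hw) hw]

/-- `C_H(U) ∩ C_H(M/U)` -/
theorem isBB_iff {g : G} (hg : g ∈ normalizer (Z : Set G)) {U : Subgroup G} (hU : Z ≤ U) (hUW : U ≤ ws V Z)
    (sq : ∀ m : M, m * m = 1) :
    IsBB (r.mp U) (ρ g) ↔ (∀ u ∈ U, g * u * g⁻¹ * u⁻¹ ∈ Z) ∧ ∀ w ∈ ws V Z, g * w * g⁻¹ * w⁻¹ ∈ U := by
  constructor
  · rintro ⟨h1, h2⟩
    refine ⟨fun u hu => ?_, fun w hw => ?_⟩
    · exact (r.fix_iff hg (hUW hu)).1 (h1 _ (r.mp_mem hu (hUW hu)))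
    · have h3 := h2 (π w)
      rw [r.π_comm hg hw sq] at h3
      exact (r.mp_mem_iff hU (mul_mem (r.conj_ws hg hw) (inv_mem hw))).1 h3
  · rintro ⟨h1, h2⟩
    refine ⟨fun m hm => ?_, fun m => ?_⟩
    · obtain ⟨a, ha, ha', rfl⟩ := r.mem_mp.1 hm
      exact (r.fix_iff hg ha').2 (h1 a ha)
    · obtain ⟨w, hw, rfl⟩ := r.surjπ m
      rw [r.π_comm hg hw sq]
      exact r.mp_mem (h2 w hw) (mul_mem (r.conj_ws hg hw) (inv_mem hw))

theorem faith (x : H) (hx : ∀ m : M, x • m = m) : x = 1 := by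
  obtain ⟨g, hg, rfl⟩ := r.surjρ x
  exact (r.kerρ g hg).2 fun w hw => (r.fix_iff hg hw).1 (hx _)

theorem ρ_one_of_kx {k : G} (hk : k ∈ kx V Z) : ρ k = 1 :=
  (r.kerρ k (centralizer_le_normalizer _ (kx_le_cent hk))).2 (mem_kx.1 hk).2

end RN

end Cfsg.Agent.Omega.NO3S.MidB.No

end

section


/-!
# NO-3S, natural lines, critical distance 2: THEOREM INN, the frame `Fr` at the base flag
-/

set_option autoImplicit false
set_option linter.unusedSectionVars false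

namespace Cfsg.Agent.Omega.NO3S.MidB.No

open Subgroup Cfsg.Agent.Omega.NO3S.PT Cfsg.Agent.Omega.NoFF.Basic Cfsg.Agent.ZN
open Cfsg.Agent.Omega.NO3S.MidQ (Adj Com Cr UU ws_of kx_of isCj_iff adj_iff com_iff cr_iff)
open Cfsg.Agent.Omega.NO3S.OneS (IsBB)
open scoped Pointwise

universe u

variable {G : Type u} [Group G]

namespace InnG

variable [Finite G] {S : Sylow 2 G} {P V Z : Subgroup G} (h : Mid S P V Z)
include h

theorem le_ws_base : V ≤ ws V Z := h.pl.V_le_ws h.pl.ZV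

/-- `I_L` -/
theorem IV_eq {L R : Subgroup G} (hL : IsCj V L) (hZL : Z ≤ L) (hR : IsCj Z R) (hRL : R ≤ L) (hne : R ≠ Z) :
    IV L Z = ws V Z ⊓ ws V R := by
  obtain ⟨T, Q, h'⟩ := h.flag h.pl.isCj_self hL hZL
  have h1 := h'.pl.IV_eq h'.hf h'.pl.isCj_self hZL hR hRL hne.symm
  rw [ws_of hL, ws_of hL] at h1
  exact h1.symm

theorem IV_le' {L Y : Subgroup G} (hL : IsCj V L) (hY : IsCj Z Y) (hYL : Y ≤ L) : IV L Z ≤ ws V Y := by
  have h1 := IV_le hY hYL (V := L)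
  rwa [ws_of hL] at h1

theorem line_le_IV {L : Subgroup G} (hL : IsCj V L) (hZL : Z ≤ L) : L ≤ IV L Z := by
  obtain ⟨T, Q, h'⟩ := h.flag h.pl.isCj_self hL hZL
  exact h'.pl.V_le_IV

theorem cj_IV {g : G} (hg : g ∈ normalizer (Z : Set G)) : cj g (IV V Z) = IV (cj g V) Z := by
  have h1 := PB.Geom.IV_conj h.pl h.hf g
  rw [cj_eq_iff.2 hg] at h1
  exact h1.symm

/-- two lines on `Z` meet in `Z` -/
theorem lines_inf {X L N : Subgroup G} (hX : IsCj Z X) (hL : IsCj V L) (hN : IsCj V N) (hXL : X ≤ L) (hXN : X ≤ N)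
    (hne : L ≠ N) {u : G} (hu : u ∈ L) (hu' : u ∈ N) : u ∈ X := by
  by_contra huX
  have hu1 : u ≠ 1 := fun e => huX (e ▸ one_mem _)
  obtain ⟨A, hA, hAL, huA⟩ := h.exists_point hL hu hu1
  obtain ⟨B, hB, hBN, huB⟩ := h.exists_point hN hu' hu1
  have h1 : A = B := h.pts_eq hA hB huA huB hu1
  subst h1
  exact hne (h.line_unique hX hA (fun e => huX (e ▸ huA)) hL hN hXL hAL hXN hBN)

/-- the line on `Z` is a conjugate of `V` under `N_G(Z)` -/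
theorem exists_norm {L : Subgroup G} (hL : IsCj V L) (hZL : Z ≤ L) : ∃ g ∈ normalizer (Z : Set G), L = cj g V := by
  obtain ⟨g, h1, h2⟩ := h.exists_conj₂ h.pl.isCj_self ⟨1, (cj_one V).symm⟩ h.pl.ZV h.pl.isCj_self hL hZL
  exact ⟨g, cj_eq_iff.1 h1.symm, h2⟩

/-- a point which touches `I_L` outside `L` and is collinear with a point of `L` is collinear with all points of `L` -/
theorem touch {L A B C D Y : Subgroup G} (hL : IsCj V L) (hA : IsCj Z A) (hB : IsCj Z B) (hAL : A ≤ L) (hBL : B ≤ L)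
    (hne : A ≠ B) (hC : IsCj Z C) (hD : IsCj Z D) (hCL : C ≤ L) (hDL : D ≤ L) {u : G} (hu : u ∈ ws V A)
    (hu' : u ∈ ws V B) (huL : u ∉ L) (huY : u ∈ Y) (hY : Adj V Z Y C) : Adj V Z Y D := by
  obtain ⟨x, -, hxu, hxC, -, -, -⟩ := h.F2_swap hL hA hB hAL hBL hne hC hD hCL hDL hu hu' huL
  have h1 : cj x Y = Y := h.fix_of_comm hY.left huY (fun e => huL (e ▸ one_mem _)) hxu
  have h2 := hY.cj x
  rwa [h1, hxC] at h2

/-- (COLL), first part -/
theorem far_adj {L Y R : Subgroup G} (hL : IsCj V L) (hZL : Z ≤ L) (hne : L ≠ V) (hY : IsCj Z Y) (hYL : Y ≤ L) {a : G}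
    (haY : a ∈ Y) (ha : a ∈ IV V Z) (haZ : a ∉ Z) (hR : IsCj Z R) (hRV : R ≤ V) : Adj V Z Y R := by
  have hV : IsCj V V := ⟨1, (cj_one V).symm⟩
  obtain ⟨T, hT, hTV, hTZ⟩ := h.exists_second h.pl.isCj_self hV h.pl.ZV
  have hYZ : Y ≠ Z := fun e => haZ (e ▸ haY)
  refine touch h hV h.pl.isCj_self hT h.pl.ZV hTV hTZ.symm h.pl.isCj_self hR h.pl.ZV hRV (u := a)
    (h.pl.IV_le_ws ha) (IV_le hT hTV ha) (fun e => haZ (lines_inf h h.pl.isCj_self hL hV hZL h.pl.ZV hne (hYL haY) e))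
    haY ⟨hY, h.pl.isCj_self, hYZ, L, hL, hYL, hZL⟩

/-- (COLL) -/
theorem coll_geo {L : Subgroup G} (hL : IsCj V L) (hZL : Z ≤ L) (hne : L ≠ V) {a : G} (haL : a ∈ L) (ha : a ∈ IV V Z)
    (haZ : a ∉ Z) {y v : G} (hy : y ∈ L) (hv : v ∈ V) : ∃ N, IsCj V N ∧ Z ≤ N ∧ y * v ∈ N := by
  have hV : IsCj V V := ⟨1, (cj_one V).symm⟩
  have hZ := h.pl.isCj_self
  by_cases hvZ : v ∈ Z
  · exact ⟨L, hL, hZL, mul_mem hy (hZL hvZ)⟩
  obtain ⟨Y, hY, hYL, haY⟩ := h.exists_point hL haL (fun e => haZ (e ▸ one_mem _))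
  have hYZ : Y ≠ Z := fun e => haZ (e ▸ haY)
  obtain ⟨z, hz, y', hy', rfl⟩ := h.line_eq hZ hY hYZ.symm hL hZL hYL hy
  by_cases hy1 : y' = 1
  · subst hy1
    rw [mul_one]
    exact ⟨V, hV, h.pl.ZV, mul_mem (h.pl.ZV hz) hv⟩
  obtain ⟨R, hR, hRV, hvR⟩ := h.exists_point hV hv (fun e => hvZ (e ▸ one_mem _))
  have hRZ : R ≠ Z := fun e => hvZ (e ▸ hvR)
  have h1 : Adj V Z Y R := far_adj h hL hZL hne hY hYL haY ha haZ hR hRV
  obtain ⟨N, hN, hYN, hRN⟩ := h1.line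
  have h2 : y' * v ∈ N := mul_mem (hYN hy') (hRN hvR)
  have h3 : y' * v ≠ 1 := by
    intro e
    have e1 : y' = v⁻¹ := eq_inv_of_mul_eq_one_left e
    exact hy1 (h.pt_inf hY hR h1.ne hy' (e1 ▸ inv_mem hvR))
  obtain ⟨E, hE, hEN, hE'⟩ := h.exists_point hN h2 h3
  obtain ⟨z₀, hz₀, hz₀1⟩ := h.pt_ne_bot hZ
  have hZY : Adj V Z Z Y := ⟨hZ, hY, hYZ.symm, L, hL, hZL, hYL⟩
  have hZR : Adj V Z Z R := ⟨hZ, hR, hRZ.symm, V, hV, h.pl.ZV, hRV⟩
  have h4 : z₀ ∉ N := by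
    intro e
    obtain ⟨Q, hQ, hQN, hzQ⟩ := h.exists_point hN e hz₀1
    have h5 : Q = Z := h.pts_eq hQ hZ hzQ hz₀ hz₀1
    subst h5
    have h6 : N = L := h.line_unique hQ hY hYZ.symm hN hL hQN hYN hZL hYL
    have h7 : N = V := h.line_unique hQ hR hRZ.symm hN hV hQN hRN h.pl.ZV hRV
    exact hne (h6.symm.trans h7)
  have h5 : Adj V Z Z E := touch h hN hY hR hYN hRN h1.ne hY hE hYN hEN (h.adj_le_ws hZY.symm hz₀)
    (h.adj_le_ws hZR.symm hz₀) h4 hz₀ hZY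
  obtain ⟨N', hN', hZN', hEN'⟩ := h5.line
  refine ⟨N', hN', hZN', ?_⟩
  rw [mul_assoc]
  exact mul_mem (hZN' hz) (hEN' hE')

/-- (SYM) -/
theorem sym_geo {L : Subgroup G} (hL : IsCj V L) (hZL : Z ≤ L) (hne : L ≠ V) {a : G} (haL : a ∈ L) (ha : a ∈ IV V Z)
    (haZ : a ∉ Z) : V ≤ IV L Z := by
  have hV : IsCj V V := ⟨1, (cj_one V).symm⟩
  have hZ := h.pl.isCj_self
  obtain ⟨Y, hY, hYL, haY⟩ := h.exists_point hL haL (fun e => haZ (e ▸ one_mem _))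
  have hYZ : Y ≠ Z := fun e => haZ (e ▸ haY)
  obtain ⟨R, hR, hRV, hRZ⟩ := h.exists_second hZ hV h.pl.ZV
  have h1 : Adj V Z Y R := far_adj h hL hZL hne hY hYL haY ha haZ hR hRV
  rw [IV_eq h hL hZL hY hYL hYZ]
  refine le_inf (le_ws_base h) ?_
  exact h.line_le_of hZ hR hRZ.symm hV h.pl.ZV hRV (h.adj_le_ws ⟨hY, hZ, hYZ, L, hL, hYL, hZL⟩) (h.adj_le_ws h1)

end InnG

end Cfsg.Agent.Omega.NO3S.MidB.No

end

section


/-!
# NO-3S, natural lines, critical distance 2: THEOREM INN, the frame `Fr` at the base flag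
-/

set_option autoImplicit false
set_option linter.unusedSectionVars false

namespace Cfsg.Agent.Omega.NO3S.MidB.No

open Subgroup Cfsg.Agent.Omega.NO3S.PT Cfsg.Agent.Omega.NoFF.Basic Cfsg.Agent.ZN
open Cfsg.Agent.Omega.NO3S.MidQ (Adj Com Cr UU ws_of kx_of isCj_iff adj_iff com_iff cr_iff)
open Cfsg.Agent.Omega.NO3S.OneS (IsBB Fr Lam mem_sup' ne_bot_iff')
open Cfsg.Agent.ClassTwoFusion.Quad (cv)
open Cfsg.Agent.Omega.NOThree.NoOver (fo)
open scoped Pointwise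

universe u

variable {G : Type u} [Group G]

namespace InnG

variable [Finite G] {S : Sylow 2 G} {P V Z : Subgroup G} (h : Mid S P V Z)
variable {H M : Type*} [Group H] [CommGroup M] [MulDistribMulAction H M] {ρ : G → H} {π : G → M} (r : RN V Z ρ π)
include h r

theorem sq (m : M) : m * m = 1 := by
  obtain ⟨w, hw, rfl⟩ := r.surjπ m
  rw [← r.mulπ w hw w hw, h.ws_sq h.pl.isCj_self hw, r.one_π]

theorem bb_sq {U : Subgroup M} {b : H} (hb : IsBB U b) : b * b = 1 := by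
  apply r.faith
  intro m
  have h1 := hb.1 _ (hb.2 m)
  rw [smul_mul', ← mul_smul] at h1
  have h2 : (b * b) • m = (b • m * m) * b • m := by
    rw [← h1, mul_assoc, sq h r, mul_one]
  rw [h2, mul_comm (b • m) m, mul_assoc, sq h r, mul_one]

theorem Z_le_IV : Z ≤ IV V Z := h.pl.ZV.trans h.pl.V_le_IV

theorem bb_iff {g : G} (hg : g ∈ normalizer (Z : Set G)) : IsBB (r.mp (IV V Z)) (ρ g) ↔
    (∀ u ∈ IV V Z, g * u * g⁻¹ * u⁻¹ ∈ Z) ∧ ∀ w ∈ ws V Z, g * w * g⁻¹ * w⁻¹ ∈ IV V Z :=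
  r.isBB_iff hg (Z_le_IV h r) h.pl.IV_le_ws (sq h r)

/-- every element of `C_H(U) ∩ C_H(M/U)` is induced by a 2-element of `C_G(V)` -/
theorem lift {b : H} (hb : IsBB (r.mp (IV V Z)) b) : ∃ t ∈ centralizer (V : Set G), TwoEl t ∧ ρ t = b := by
  obtain ⟨s, hs, rfl⟩ := r.surjρ b
  have hZ := h.pl.isCj_self
  have hV : IsCj V V := ⟨1, (cj_one V).symm⟩
  have hbb := bb_sq h r hb
  have hpow : ∀ g ∈ normalizer (Z : Set G), ρ g = ρ s → ∀ m : ℕ, Odd m → ρ (g ^ m) = ρ s := by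
    rintro g hg e m ⟨j, rfl⟩
    rw [r.pow_ρ hg, e, pow_succ, pow_mul, pow_two, hbb, one_pow, one_mul]
  obtain ⟨m, hm, hsm⟩ := exists_odd_pow s
  set s' := s ^ m with hs'
  have hsN : s' ∈ normalizer (Z : Set G) := pow_mem hs m
  have e1 : ρ s' = ρ s := hpow s hs rfl m hm
  have h1 := (bb_iff h r hsN).1 (by rw [e1]; exact hb)
  obtain ⟨Y, hY, hYV, hYZ⟩ := h.exists_second hZ hV h.pl.ZV
  have hsV : cj s' V = V := by
    obtain ⟨v, hv, hvZ⟩ := h.pl.exists_out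
    refine h.stab hZ hV h.pl.ZV hsN hv hvZ ?_
    have h2 := h1.1 v (h.pl.V_le_IV hv)
    have e2 : s' * v * s'⁻¹ = s' * v * s'⁻¹ * v⁻¹ * v := by group
    rw [e2]
    exact mul_mem (h.pl.ZV h2) hv
  have h2 : cj s' Y ≤ V := by rw [← hsV]; exact cj_le_cj.2 hYV
  have h3 : cj s' Y ≠ Z := by
    intro e
    rw [← cj_eq_iff.2 hsN] at e
    exact hYZ (cj_inj.1 e)
  obtain ⟨k, hk, hkY⟩ := h.K_trans hZ hV h.pl.ZV (hY.cj s') h2 hY hYV h3 hYZ
  have hkN : k ∈ normalizer (Z : Set G) := centralizer_le_normalizer _ (kx_le_cent hk)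
  set t := k * s' with ht
  have htN : t ∈ normalizer (Z : Set G) := mul_mem hkN hsN
  have e2 : ρ t = ρ s := by rw [ht, r.mulρ k hkN s' hsN, r.ρ_one_of_kx hk, one_mul, e1]
  have htY : cj t Y = Y := by rw [ht, ← cj_cj, hkY]
  have h4 := (bb_iff h r htN).1 (by rw [e2]; exact hb)
  have h5 : ∀ y ∈ Y, t * y = y * t := by
    intro y hy
    have h6 : t * y * t⁻¹ * y⁻¹ ∈ Y := by
      refine mul_mem ?_ (inv_mem hy)
      have := conj_mem_cj (g := t) hy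
      rwa [htY] at this
    have h7 := h.pt_inf hY hZ hYZ h6 (h4.1 y (h.pl.V_le_IV (hYV hy)))
    rwa [mul_inv_eq_one, mul_inv_eq_iff_eq_mul] at h7
  obtain ⟨m', hm', htm⟩ := exists_odd_pow t
  have h6 : ∀ y ∈ Y, t ^ m' * y = y * t ^ m' := fun y hy => (Commute.pow_left (show Commute t y from h5 y hy) m').eq
  have h7 := h.t3n ⟨hY, hZ, hYZ, V, hV, hYV, h.pl.ZV⟩ htm h6 (cj_eq_iff.2 (pow_mem htN m'))
  refine ⟨t ^ m', ?_, htm, hpow t htN e2 m' hm'⟩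
  rw [mem_centralizer_iff]
  intro v hv
  obtain ⟨z, hz, y, hy, rfl⟩ := h.line_eq hZ hY hYZ.symm hV h.pl.ZV hYV hv
  rw [mul_assoc, ← h6 y hy, ← mul_assoc, ← h7 z hz, mul_assoc]

theorem mp_line_mem {g : G} (hg : g ∈ normalizer (Z : Set G)) {w : G} (hw : w ∈ ws V Z) :
    π w ∈ ρ g • r.mp V ↔ w ∈ cj g V := by
  rw [r.smul_mp hg]
  refine r.mp_mem_iff ?_ hw
  rw [← cj_eq_iff.2 hg]
  exact cj_le_cj.2 h.pl.ZV

theorem Z_le_cj {g : G} (hg : g ∈ normalizer (Z : Set G)) {K : Subgroup G} (hK : Z ≤ K) : Z ≤ cj g K := by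
  nth_rewrite 1 [← cj_eq_iff.2 hg]
  exact cj_le_cj.2 hK

theorem cj_le_ws {g : G} (hg : g ∈ normalizer (Z : Set G)) {K : Subgroup G} (hK : K ≤ ws V Z) : cj g K ≤ ws V Z := by
  rw [← cj_eq_iff.2 (normalizer_le_ws V Z hg)]
  exact cj_le_cj.2 hK

theorem V_le_ws : V ≤ ws V Z := h.pl.V_le_ws h.pl.ZV

theorem smul_eq_iff {g : G} (hg : g ∈ normalizer (Z : Set G)) : ρ g • r.mp V = r.mp V ↔ cj g V = V := by
  rw [r.smul_mp hg]
  exact r.mp_inj (Z_le_cj h r hg h.pl.ZV) h.pl.ZV (cj_le_ws h r hg (V_le_ws h r)) (V_le_ws h r)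

/-- `v ∈ g • lam` nontrivial -/
theorem exists_of_inf {g : G} (hg : g ∈ normalizer (Z : Set G)) {K : Subgroup G} (hK : Z ≤ K)
    (hne : ρ g • r.mp V ⊓ r.mp K ≠ ⊥) : ∃ a ∈ cj g V, a ∈ K ∧ a ∉ Z := by
  obtain ⟨x, ⟨hx, hx'⟩, hx1⟩ := ne_bot_iff'.1 hne
  obtain ⟨a, ha, rfl⟩ := r.surjπ x
  exact ⟨a, (mp_line_mem h r hg ha).1 hx, (r.mp_mem_iff hK ha).1 hx', fun e => hx1 ((r.kerπ a ha).2 e)⟩

theorem card_lam : Nat.card (r.mp V) = Nat.card Z := by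
  have h1 := r.card_mp h.pl.ZV (V_le_ws h r)
  rw [h.pl.card] at h1
  exact Nat.eq_of_mul_eq_mul_right Nat.card_pos h1

/-- (NO) -/
theorem no_of (hNO : NOg V Z) (X : Subgroup H) (hX : ∀ x ∈ X, IsBB (r.mp (IV V Z)) x) : fo M X ≤ Nat.card M := by
  have hZ := h.pl.isCj_self
  have hV : IsCj V V := ⟨1, (cj_one V).symm⟩
  have hCN : centralizer (V : Set G) ≤ normalizer (Z : Set G) :=
    (centralizer_le h.pl.ZV).trans (centralizer_le_normalizer _)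
  -- `N`
  let N : Subgroup G :=
    { carrier := {g | g ∈ centralizer (V : Set G) ∧ (∀ u ∈ IV V Z, g * u * g⁻¹ * u⁻¹ ∈ Z) ∧
        ∀ w ∈ ws V Z, g * w * g⁻¹ * w⁻¹ ∈ IV V Z}
      one_mem' := ⟨one_mem _, fun u _ => by simp, fun w _ => by simp⟩
      mul_mem' := by
        rintro a b ⟨ha, ha'⟩ ⟨hb, hb'⟩
        refine ⟨mul_mem ha hb, ?_⟩
        rw [← bb_iff h r (hCN (mul_mem ha hb)), r.mulρ a (hCN ha) b (hCN hb)]
        exact (OneS.bb H (sq h r) (r.mp (IV V Z))).mul_mem ((bb_iff h r (hCN ha)).2 ha') ((bb_iff h r (hCN hb)).2 hb')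
      inv_mem' := by
        rintro a ⟨ha, ha'⟩
        refine ⟨inv_mem ha, ?_⟩
        rw [← bb_iff h r (hCN (inv_mem ha)), r.inv_ρ (hCN ha)]
        exact (OneS.bb H (sq h r) (r.mp (IV V Z))).inv_mem ((bb_iff h r (hCN ha)).2 ha') }
  have hN : ∀ g, g ∈ N ↔ g ∈ centralizer (V : Set G) ∧ IsBB (r.mp (IV V Z)) (ρ g) := by
    intro g
    constructor
    · rintro ⟨h1, h2⟩
      exact ⟨h1, (bb_iff h r (hCN h1)).2 h2⟩
    · rintro ⟨h1, h2⟩
      exact ⟨h1, (bb_iff h r (hCN h1)).1 h2⟩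
  let D : Subgroup G :=
    { carrier := {g | g ∈ centralizer (V : Set G) ∧ ρ g ∈ X}
      one_mem' := ⟨one_mem _, by rw [r.one_ρ]; exact one_mem _⟩
      mul_mem' := by
        rintro a b ⟨ha, ha'⟩ ⟨hb, hb'⟩
        refine ⟨mul_mem ha hb, ?_⟩
        rw [r.mulρ a (hCN ha) b (hCN hb)]
        exact mul_mem ha' hb'
      inv_mem' := by
        rintro a ⟨ha, ha'⟩
        refine ⟨inv_mem ha, ?_⟩
        rw [r.inv_ρ (hCN ha)]
        exact inv_mem ha' }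
  have hD : ∀ g, g ∈ D ↔ g ∈ centralizer (V : Set G) ∧ ρ g ∈ X := fun g => Iff.rfl
  let C : Subgroup G :=
    { carrier := {u | u ∈ ws V Z ∧ ∀ d ∈ D, d * u * d⁻¹ * u⁻¹ ∈ Z}
      one_mem' := ⟨one_mem _, fun d _ => by simp⟩
      mul_mem' := by
        rintro a b ⟨ha, ha'⟩ ⟨hb, hb'⟩
        refine ⟨mul_mem ha hb, fun d hd => ?_⟩
        rw [← r.fix_iff (hCN hd.1) (mul_mem ha hb), r.mulπ a ha b hb, smul_mul',
          (r.fix_iff (hCN hd.1) ha).2 (ha' d hd), (r.fix_iff (hCN hd.1) hb).2 (hb' d hd)]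
      inv_mem' := by
        rintro a ⟨ha, ha'⟩
        refine ⟨inv_mem ha, fun d hd => ?_⟩
        rw [← r.fix_iff (hCN hd.1) (inv_mem ha), r.inv_π ha, smul_inv', (r.fix_iff (hCN hd.1) ha).2 (ha' d hd)] }
  have hker : ∀ g ∈ centralizer (V : Set G), ρ g = 1 ↔ g ∈ kx V Z := by
    intro g hg
    constructor
    · intro e
      exact mem_kx.2 ⟨fun z hz => (mem_centralizer_iff.1 hg z (h.pl.ZV hz)).symm, (r.kerρ g (hCN hg)).1 e⟩
    · exact fun e => r.ρ_one_of_kx e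
  have key := hNO Z V N D C hZ hV h.pl.ZV (fun g hg => hg.1) ?_ ?_ ?_ ?_ (fun u => Iff.rfl)
  · -- cardinalities
    have e1 : (kx V Z).relIndex D = Nat.card X := by
      let f : D →* X :=
        { toFun := fun d => ⟨ρ d, d.2.2⟩
          map_one' := Subtype.ext r.one_ρ
          map_mul' := fun a b => Subtype.ext (r.mulρ a (hCN a.2.1) b (hCN b.2.1)) }
      have hf : Function.Surjective f := by
        rintro ⟨x, hx⟩
        obtain ⟨t, ht, -, e⟩ := lift h r (hX x hx)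
        exact ⟨⟨t, ht, by rw [e]; exact hx⟩, Subtype.ext e⟩
      have hk : f.ker = (kx V Z).subgroupOf D := by
        ext d
        rw [MonoidHom.mem_ker, mem_subgroupOf, ← hker d d.2.1]
        exact Subtype.ext_iff
      rw [Subgroup.relIndex, ← hk, Subgroup.index_ker, MonoidHom.range_eq_top.2 hf]
      exact Nat.card_congr Subgroup.topEquiv.toEquiv
    have hZC : Z ≤ C := fun z hz => ⟨r.le hz, fun d hd => by
      rw [← mem_centralizer_iff.1 hd.1 z (h.pl.ZV hz), mul_inv_cancel_right, mul_inv_cancel]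
      exact one_mem _⟩
    have e2 : r.mp C = cv M (X : Set H) := by
      ext m
      constructor
      · intro hm
        obtain ⟨a, ha, ha', rfl⟩ := r.mem_mp.1 hm
        intro x hx
        obtain ⟨t, ht, -, rfl⟩ := lift h r (hX x hx)
        exact (r.fix_iff (hCN ht) ha').2 (ha.2 t ⟨ht, hx⟩)
      · intro hm
        obtain ⟨a, ha, rfl⟩ := r.surjπ m
        exact r.mp_mem ⟨ha, fun d hd => (r.fix_iff (hCN hd.1) ha).1 (hm _ hd.2)⟩ ha
    have e3 := r.card_mp hZC (fun u hu => hu.1)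
    rw [e1, ← e3, e2, ← r.card_M] at key
    refine Nat.le_of_mul_le_mul_right (c := Nat.card Z) ?_ Nat.card_pos
    unfold fo
    rw [mul_assoc]
    exact key
  · intro c hc
    have hcV : cj c V = V := cj_eq_iff.2 (centralizer_le_normalizer _ hc)
    have hcU : cj c (IV V Z) = IV V Z := cj_eq_iff.2 (normalizer_le_IV V Z (centralizer_le_normalizer _ hc))
    have h1 : ∀ c ∈ centralizer (V : Set G), ∀ g ∈ N, c * g * c⁻¹ ∈ N := by
      intro c hc g hg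
      obtain ⟨h1, h2⟩ := (hN g).1 hg
      have hcU : cj c (IV V Z) = IV V Z := cj_eq_iff.2 (normalizer_le_IV V Z (centralizer_le_normalizer _ hc))
      refine (hN _).2 ⟨mul_mem (mul_mem hc h1) (inv_mem hc), ?_⟩
      rw [r.mulρ _ (hCN (mul_mem hc h1)) _ (hCN (inv_mem hc)), r.mulρ _ (hCN hc) _ (hCN h1), r.inv_ρ (hCN hc)]
      have h3 := OneS.isBB_conj (ρ c) h2
      rwa [r.smul_mp (hCN hc), hcU] at h3
    rw [mem_normalizer_iff]
    intro g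
    refine ⟨h1 c hc g, fun hg => ?_⟩
    have h2 := h1 c⁻¹ (inv_mem hc) _ hg
    have e : c⁻¹ * (c * g * c⁻¹) * c⁻¹⁻¹ = g := by group
    rwa [e] at h2
  · intro g hg
    obtain ⟨h1, h2⟩ := (hN g).1 hg
    refine ⟨1, ?_⟩
    rw [← hker _ (pow_mem h1 _), r.pow_ρ (hCN h1), pow_one, pow_two]
    exact bb_sq h r h2
  · intro g hg
    exact (hN g).2 ⟨hg.1, hX _ hg.2⟩
  · intro g hg
    rw [← hker _ (mul_mem hg.1 hg.1), r.mulρ _ (hCN hg.1) _ (hCN hg.1)]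
    exact bb_sq h r (hX _ hg.2)

/-- **the frame** -/
theorem fr (hNO : NOg V Z) (hq : 4 ≤ Nat.card Z) : Fr H (r.mp V) (r.mp (IV V Z)) where
  sq := sq h r
  faith := r.faith
  le := (r.mp_le_iff (Z_le_IV h r) (V_le_ws h r)).2 h.pl.V_le_IV
  stab x hx := by
    obtain ⟨g, hg, rfl⟩ := r.surjρ x
    have h1 := (smul_eq_iff h r hg).1 hx
    rw [r.smul_mp hg, cj_eq_iff.2 (normalizer_le_IV V Z (cj_eq_iff.1 h1))]
  ti x hx := by
    obtain ⟨g, hg, rfl⟩ := r.surjρ x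
    obtain ⟨a, ha, ha', haZ⟩ := exists_of_inf h r hg h.pl.ZV hx
    rw [smul_eq_iff h r hg]
    by_contra hne
    exact haZ (lines_inf h h.pl.isCj_self ⟨g, rfl⟩ ⟨1, (cj_one V).symm⟩ (Z_le_cj h r hg h.pl.ZV) h.pl.ZV hne ha ha')
  coll x hx hx' v hv hv1 := by
    obtain ⟨g, hg, rfl⟩ := r.surjρ x
    obtain ⟨a, ha, ha', haZ⟩ := exists_of_inf h r hg (Z_le_IV h r) hx'
    have hne : cj g V ≠ V := fun e => hx ((smul_eq_iff h r hg).2 e)
    have hZg := Z_le_cj h r hg h.pl.ZV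
    obtain ⟨p, hp, q, hq', rfl⟩ := (mem_sup' (sq h r)).1 hv
    rw [r.smul_mp hg] at hp
    obtain ⟨y, hy, hy', rfl⟩ := r.mem_mp.1 hp
    obtain ⟨w, hw, hw', rfl⟩ := r.mem_mp.1 hq'
    obtain ⟨N, hN, hZN, hyw⟩ := coll_geo h ⟨g, rfl⟩ hZg hne ha ha' haZ hy hw
    obtain ⟨k, hk, rfl⟩ := exists_norm h hN hZN
    refine ⟨hv1, ρ k, ?_⟩
    rw [← r.mulπ y hy' w hw', mp_line_mem h r hk (mul_mem hy' hw')]
    exact hyw
  two b hb x hx v hv := by
    obtain ⟨g, hg, rfl⟩ := r.surjρ x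
    obtain ⟨t, ht, -, rfl⟩ := lift h r hb
    have htZ : t ∈ centralizer (Z : Set G) := centralizer_le h.pl.ZV ht
    have htN : t ∈ normalizer (Z : Set G) := centralizer_le_normalizer _ htZ
    have hZg := Z_le_cj h r hg h.pl.ZV
    obtain ⟨hb1, hb2⟩ := (bb_iff h r htN).1 hb
    have h1 : cj t (cj g V) = cj g V := by
      rw [r.smul_mp hg, r.smul_mp htN] at hx
      exact (r.mp_inj (Z_le_cj h r htN hZg) hZg (cj_le_ws h r htN (cj_le_ws h r hg (V_le_ws h r)))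
        (cj_le_ws h r hg (V_le_ws h r))).1 hx
    rw [r.smul_mp hg] at hv
    obtain ⟨w, hw, hw', rfl⟩ := r.mem_mp.1 hv
    rw [r.fix_iff htN hw']
    -- a fixed vector
    obtain ⟨Y, hY, hYL, hYZ⟩ := h.exists_second h.pl.isCj_self (L := cj g V) ⟨g, rfl⟩ hZg
    obtain ⟨y, hy, hy1⟩ := h.pt_ne_bot hY
    have hyZ : y ∉ Z := fun e => hy1 (h.pt_inf hY h.pl.isCj_self hYZ hy e)
    have hyW : y ∈ ws V Z := cj_le_ws h r hg (V_le_ws h r) (hYL hy)
    have h2 : t * y * t⁻¹ * y⁻¹ ∈ cj g V := by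
      refine mul_mem ?_ (inv_mem (hYL hy))
      have := conj_mem_cj (g := t) (hYL hy)
      rwa [h1] at this
    by_cases h3 : t * y * t⁻¹ * y⁻¹ ∈ Z
    · exact h.lin h.pl.isCj_self ⟨g, rfl⟩ hZg htZ (hYL hy) hyZ h3 w hw
    · exact h.lin h.pl.isCj_self ⟨g, rfl⟩ hZg htZ h2 h3 (hb1 _ (hb2 y hyW)) w hw
  no := no_of h r hNO
  four := by rw [card_lam h r]; exact hq

end InnG

end Cfsg.Agent.Omega.NO3S.MidB.No

end

section


/-!
# NO-3S, natural lines, critical distance 2: THEOREM INN, the frame `OneS.Inn` of an inner pair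
-/

set_option autoImplicit false
set_option linter.unusedSectionVars false

namespace Cfsg.Agent.Omega.NO3S.MidB.No

open Subgroup Cfsg.Agent.Omega.NO3S.PT Cfsg.Agent.Omega.NoFF.Basic Cfsg.Agent.ZN
open Cfsg.Agent.Omega.NO3S.MidQ (Adj Com Cr UU ws_of kx_of isCj_iff adj_iff com_iff cr_iff)
open Cfsg.Agent.Omega.NO3S.OneS (IsBB Fr Lam mem_sup' ne_bot_iff' TorAct br br_le)
open Cfsg.Agent.ClassTwoFusion.Quad (cv)
open Cfsg.Agent.Omega.NOThree.NoOver (fo)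
open scoped Pointwise

universe u

variable {G : Type u} [Group G]

namespace InnG

variable [Finite G] {S : Sylow 2 G} {P V Z : Subgroup G} (h : Mid S P V Z)

section

include h

theorem isCj_V : IsCj V V := ⟨1, (cj_one V).symm⟩

/-- an element of `⟨K_X : X ≤ V⟩` interchanges `z ∈ Z` and `x ∈ X` -/
theorem exists_swap {X : Subgroup G} (hX : IsCj Z X) (hXV : X ≤ V) (hXZ : X ≠ Z) {z x : G} (hz : z ∈ Z) (hz1 : z ≠ 1)
    (hx : x ∈ X) (hx1 : x ≠ 1) :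
    ∃ n ∈ XV V Z, n * z * n⁻¹ = x ∧ n * x * n⁻¹ = z ∧ cj n Z = X ∧ cj n X = Z := by
  have hZ := h.pl.isCj_self
  have hV := isCj_V h
  have hxZ : x ∉ Z := fun e => hx1 (h.pt_inf hX hZ hXZ hx e)
  have hzX : z ∉ X := fun e => hz1 (h.pt_inf hX hZ hXZ e hz)
  obtain ⟨a, ha, ha'⟩ := h.K_act hZ hV h.pl.ZV (hXV hx) hxZ hz
  obtain ⟨b, hb, hb'⟩ := h.K_act hX hV hXV (h.pl.ZV hz) hzX hx
  have haz : a * z * a⁻¹ = z := by rw [(mem_kx.1 ha).1 z hz, mul_inv_cancel_right]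
  have hbx : b * x * b⁻¹ = x := by rw [(mem_kx.1 hb).1 x hx, mul_inv_cancel_right]
  have hax : a * x * a⁻¹ = z * x := by rw [mul_inv_eq_iff_eq_mul] at ha'; exact ha'
  have hbz : b * z * b⁻¹ = x * z := by rw [mul_inv_eq_iff_eq_mul] at hb'; exact hb'
  have hzz : z * z = 1 := h.pt_sq hZ hz
  have hxx : x * x = 1 := h.pt_sq hX hx
  have hzx : z * x = x * z := h.pl.Vcomm (h.pl.ZV hz) (hXV hx)
  have e1 : (a * b * a) * z * (a * b * a)⁻¹ = x := by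
    calc (a * b * a) * z * (a * b * a)⁻¹ = a * (b * (a * z * a⁻¹) * b⁻¹) * a⁻¹ := by group
      _ = a * (x * z) * a⁻¹ := by rw [haz, hbz]
      _ = (a * x * a⁻¹) * (a * z * a⁻¹) := by group
      _ = x := by rw [hax, haz, hzx, mul_assoc, hzz, mul_one]
  have e2 : (a * b * a) * x * (a * b * a)⁻¹ = z := by
    calc (a * b * a) * x * (a * b * a)⁻¹ = a * (b * (a * x * a⁻¹) * b⁻¹) * a⁻¹ := by group
      _ = a * ((b * z * b⁻¹) * (b * x * b⁻¹)) * a⁻¹ := by rw [hax]; group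
      _ = a * z * a⁻¹ := by rw [hbz, hbx, ← hzx, mul_assoc z x x, hxx, mul_one]
      _ = z := haz
  refine ⟨a * b * a, mul_mem (mul_mem (le_XV hZ h.pl.ZV ha) (le_XV hX hXV hb)) (le_XV hZ h.pl.ZV ha), e1, e2, ?_, ?_⟩
  · refine h.pts_eq (hZ.cj _) hX (z := x) ?_ hx hx1
    rw [← e1]
    exact conj_mem_cj hz
  · refine h.pts_eq (hX.cj _) hZ (z := z) ?_ hz hz1
    rw [← e2]
    exact conj_mem_cj hx

end

variable {H M : Type*} [Group H] [CommGroup M] [MulDistribMulAction H M] {ρ : G → H} {π : G → M} (r : RN V Z ρ π)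
include h r

/-- the torus -/
theorem tor_act : TorAct H (r.mp V) (r.mp (IV V Z)) where
  tor m hm hm1 m' hm' hm'1 := by
    have hZ := h.pl.isCj_self
    have hV := isCj_V h
    obtain ⟨X, hX, hXV, hXZ⟩ := h.exists_second hZ hV h.pl.ZV
    have key : ∀ m ∈ r.mp V, m ≠ 1 → ∃ x ∈ X, x ≠ 1 ∧ π x = m := by
      intro m hm hm1
      obtain ⟨v, hv, hv', rfl⟩ := r.mem_mp.1 hm
      obtain ⟨z, hz, x, hx, rfl⟩ := h.line_eq hZ hX hXZ.symm hV h.pl.ZV hXV hv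
      have e : π (z * x) = π x := by
        rw [r.mulπ z (r.le hz) x (V_le_ws h r (hXV hx)), (r.kerπ z (r.le hz)).2 hz, one_mul]
      refine ⟨x, hx, fun e1 => hm1 ?_, e.symm⟩
      rw [e, e1, r.one_π]
    obtain ⟨x, hx, hx1, rfl⟩ := key m hm hm1
    obtain ⟨x', hx', hx'1, rfl⟩ := key m' hm' hm'1
    obtain ⟨z, hz, hz1⟩ := h.pt_ne_bot hZ
    obtain ⟨n, hn, hnz, hnx, hnZ, hnX⟩ := exists_swap h hX hXV hXZ hz hz1 hx hx1
    obtain ⟨n', hn', hnz', hnx', hnZ', hnX'⟩ := exists_swap h hX hXV hXZ hz hz1 hx' hx'1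
    have htX : n' * n ∈ XV V Z := mul_mem hn' hn
    have htN : n' * n ∈ normalizer (Z : Set G) := by
      rw [← cj_eq_iff, ← cj_cj, hnZ, hnX']
    have e : (n' * n) * x * (n' * n)⁻¹ = x' := by
      calc (n' * n) * x * (n' * n)⁻¹ = n' * (n * x * n⁻¹) * n'⁻¹ := by group
        _ = x' := by rw [hnx, hnz']
    refine ⟨ρ (n' * n), ?_, ?_, ?_⟩
    · rw [smul_eq_iff h r htN]
      exact cj_eq_iff.2 (h.pl.XV_le_N htX)
    · intro u hu
      obtain ⟨w, hw, hw', rfl⟩ := r.mem_mp.1 hu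
      rw [r.π_comm htN hw' (sq h r)]
      exact r.mp_mem (h.pl.XV_act htX hw) (mul_mem (r.conj_ws htN hw') (inv_mem hw'))
    · rw [← r.act _ htN x (V_le_ws h r (hXV hx)), e]
  act u hu hu' := by
    obtain ⟨w, hw, hw', rfl⟩ := r.mem_mp.1 hu
    have hwV : w ∉ V := fun e => hu' (r.mp_mem e hw')
    obtain ⟨v, hv, hvZ⟩ := h.pl.exists_out
    obtain ⟨c, hc, hcV, hcw⟩ := h.pl.F2 h.hf h.hO hw hwV hv
    have hcN : c ∈ normalizer (Z : Set G) := centralizer_le_normalizer _ (centralizer_le h.pl.ZV hcV)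
    refine ⟨ρ c, fun m hm => ?_, fun m hm => ?_, fun e => hvZ ?_⟩
    · obtain ⟨a, ha, ha', rfl⟩ := r.mem_mp.1 hm
      rw [← r.act c hcN a ha', ← mem_centralizer_iff.1 hcV a ha, mul_inv_cancel_right]
    · obtain ⟨a, ha, ha', rfl⟩ := r.mem_mp.1 hm
      rw [r.π_comm hcN ha' (sq h r)]
      exact r.mp_mem (h.pl.XV_act hc ha) (mul_mem (r.conj_ws hcN ha') (inv_mem ha'))
    · rw [← hcw]
      exact (r.fix_iff hcN hw').1 e

/-- (SYM) -/
theorem sym_of (x : H) (hx : x • r.mp V ≠ r.mp V) (hx' : x • r.mp V ⊓ r.mp (IV V Z) ≠ ⊥) :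
    r.mp V ≤ x • r.mp (IV V Z) := by
  obtain ⟨g, hg, rfl⟩ := r.surjρ x
  obtain ⟨a, ha, ha', haZ⟩ := exists_of_inf h r hg (Z_le_IV h r) hx'
  have hne : cj g V ≠ V := fun e => hx ((smul_eq_iff h r hg).2 e)
  have hZg := Z_le_cj h r hg h.pl.ZV
  rw [r.smul_mp hg, cj_IV h hg, r.mp_le_iff (hZg.trans (line_le_IV h ⟨g, rfl⟩ hZg)) (V_le_ws h r)]
  exact sym_geo h ⟨g, rfl⟩ hZg hne ha ha' haZ

/-- a 2-group acting on a 2-group -/
theorem fix_exists {N : Subgroup H} (hN : IsPGroup 2 N) (hlam : ∀ n ∈ N, n • r.mp V = r.mp V) :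
    ∃ z ∈ r.mp V, z ≠ 1 ∧ ∀ n ∈ N, n • z = z := by
  have : Fact (Nat.Prime 2) := ⟨Nat.prime_two⟩
  have := r.finite_M
  have := r.finite_H
  have hmem : ∀ n ∈ N, ∀ m ∈ r.mp V, n • m ∈ r.mp V := by
    intro n hn m hm
    have := smul_mem_pointwise_smul m n _ hm
    rwa [hlam n hn] at this
  let _ : MulAction N (r.mp V) :=
    { smul := fun s d => ⟨(s : H) • (d : M), hmem s s.2 d d.2⟩
      one_smul := fun d => Subtype.ext (one_smul H (d : M))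
      mul_smul := fun s t d => Subtype.ext (mul_smul (s : H) (t : H) (d : M)) }
  have h2 : 2 ∣ Nat.card (r.mp V) := by
    rw [card_lam h r]
    obtain ⟨n, hn⟩ := IsPGroup.iff_card.1 ((h.isPGroup_ws h.pl.isCj_self).to_le r.le)
    rw [hn]
    have h3 := h.pl.one_lt_card
    rw [hn] at h3
    have : n ≠ 0 := by
      rintro rfl
      rw [pow_zero] at h3
      exact lt_irrefl _ h3
    exact dvd_pow_self 2 this
  obtain ⟨d, hd, hd1⟩ := hN.exists_fixed_point_of_prime_dvd_card_of_fixed_point (r.mp V) h2 (a := 1) (by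
    intro s
    exact Subtype.ext (smul_one (s : H)))
  refine ⟨d, d.2, fun e => hd1 (Subtype.ext e.symm), fun n hn => ?_⟩
  have h3 : (⟨n, hn⟩ : N) • d = d := hd _
  exact congrArg Subtype.val h3

/-- `O₂(H) = 1` -/
theorem o2_bot (N : Subgroup H) [hNn : N.Normal] (hN : IsPGroup 2 N) : N = ⊥ := by
  have : Fact (Nat.Prime 2) := ⟨Nat.prime_two⟩
  have := r.finite_M
  have := r.finite_H
  have h1 : N ≤ ((S.subtype h.pl.SN).mapSurjective r.rh_surj : Sylow 2 H) := hN.le_sylow_of_normal _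
  have h2 : ∀ n ∈ N, n • r.mp V = r.mp V := by
    intro n hn
    obtain ⟨s, hs, e⟩ := h1 hn
    have hs' : (s : G) ∈ (S : Subgroup G) := mem_subgroupOf.1 hs
    have e' : ρ (s : G) = n := e
    rw [← e', smul_eq_iff h r s.2]
    exact cj_eq_iff.2 (h.pl.PN (h.pl.SP hs'))
  obtain ⟨z, hz, hz1, hfix⟩ := fix_exists h r hN h2
  -- conjugates
  have h3 : ∀ (x : H) (m : M), (∀ n ∈ N, n • m = m) → ∀ n ∈ N, n • x • m = x • m := by
    intro x m hm n hn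
    have h4 := hm _ (hNn.conj_mem n hn x⁻¹)
    rw [inv_inv, mul_smul, mul_smul] at h4
    rwa [inv_smul_eq_iff] at h4
  have h4 : ∀ z' ∈ r.mp V, ∀ n ∈ N, n • z' = z' := by
    intro z' hz' n hn
    by_cases h5 : z' = 1
    · rw [h5, smul_one]
    obtain ⟨t, -, -, rfl⟩ := (tor_act h r).tor z hz hz1 z' hz' h5
    exact h3 t z hfix n hn
  rw [eq_bot_iff]
  intro n hn
  rw [mem_bot]
  apply r.faith
  intro m
  obtain ⟨w, hw, rfl⟩ := r.surjπ m
  let E : Subgroup G :=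
    { carrier := {w | w ∈ ws V Z ∧ n • π w = π w}
      one_mem' := ⟨one_mem _, by rw [r.one_π, smul_one]⟩
      mul_mem' := by
        rintro a b ⟨ha, ha'⟩ ⟨hb, hb'⟩
        exact ⟨mul_mem ha hb, by rw [r.mulπ a ha b hb, smul_mul', ha', hb']⟩
      inv_mem' := by
        rintro a ⟨ha, ha'⟩
        exact ⟨inv_mem ha, by rw [r.inv_π ha, smul_inv', ha']⟩ }
  have hE : ws V Z ≤ E := by
    refine ws_le fun L hL hZL w hw => ⟨le_ws hL hZL hw, ?_⟩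
    obtain ⟨g, hg, rfl⟩ := exists_norm h hL hZL
    have h5 : π w ∈ ρ g • r.mp V := (mp_line_mem h r hg (le_ws hL hZL hw)).2 hw
    obtain ⟨m, hm, e⟩ := h5
    change ρ g • m = π w at e
    rw [← e]
    exact h3 _ _ (h4 m hm) n hn
  exact (hE hw).2

/-- Baer–Suzuki -/
theorem bs_of (f : H) (hf : f * f = 1) (hf1 : f ≠ 1) : ∃ x : H, x ≠ 1 ∧ Odd (orderOf x) ∧ f * x * f = x⁻¹ := by
  have := r.finite_H
  obtain ⟨x, hx1, hodd, hinv⟩ := Cfsg.Agent.Involutions.BaerSuzuki.exists_odd_inverted f hf (by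
    intro h1
    have h2 := o2_bot h r _ h1
    have h3 : f ∈ (normalClosure {f} : Subgroup H) := subset_normalClosure (Set.mem_singleton f)
    rw [h2, mem_bot] at h3
    exact hf1 h3)
  refine ⟨x, hx1, hodd, ?_⟩
  rw [inv_eq_of_mul_eq_one_left hf] at hinv
  exact hinv

/-! ### The inner pair -/

section

variable {R B L : Subgroup G} (hL : IsCj V L) (hZL : Z ≤ L) (hRL : R ≤ L) (hI : Inn V Z Z R B)
include hL hZL hRL hI

omit r hZL hRL hL in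
theorem ws_le_cent_Z : ws V B ≤ centralizer (Z : Set G) := h.ws_le_cent hI.cr.r.symm hI.cr.l.symm

omit r hZL hRL hL in
theorem ws_le_norm_Z : ws V B ≤ normalizer (Z : Set G) := (ws_le_cent_Z h hI).trans (centralizer_le_normalizer _)

omit r hZL hRL hL in
theorem comm_mem_K {a b : G} (ha : a ∈ ws V B) (hb : b ∈ ws V Z) :
    a * b * a⁻¹ * b⁻¹ ∈ ws V B ⊓ ws V R ⊓ ws V Z := by
  have h1 := h.comm_mem hI.cr.symm ha hb
  refine ⟨⟨h1.1, ?_⟩, h1.2⟩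
  have h2 := inv_mem (hI.le b hb a ha)
  have e : (b * a * b⁻¹ * a⁻¹)⁻¹ = a * b * a⁻¹ * b⁻¹ := by group
  rwa [e] at h2

theorem hA_gen : ∀ a ∈ r.mr (ws V B), IsBB (r.mp (IV L Z)) a := by
  intro a ha
  obtain ⟨w, hw, hw', rfl⟩ := r.mem_mr.1 ha
  have hRZ : R ≠ Z := hI.cr.l.ne.symm
  have e := IV_eq h hL hZL hI.cr.l.right hRL hRZ
  rw [r.isBB_iff hw' (hZL.trans (line_le_IV h hL hZL)) (by rw [e]; exact inf_le_left) (sq h r)]
  rw [e]
  refine ⟨fun u hu => ?_, fun u hu => ?_⟩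
  · have h1 := mem_centralizer_iff.1 (h.com B R hI.cr.r.symm hw) u hu.2
    rw [← h1, mul_inv_cancel_right, mul_inv_cancel]
    exact one_mem _
  · have h1 := comm_mem_K h hI hw hu
    exact ⟨h1.2, h1.1.2⟩

theorem br_sup_le : (br (r.mr (ws V B)) ⊔ r.mp L : Subgroup M) ≤ r.mp (ws V B ⊓ ws V R ⊓ ws V Z) := by
  refine sup_le (br_le fun a ha m => ?_) ?_
  · obtain ⟨w, hw, hw', rfl⟩ := r.mem_mr.1 ha
    obtain ⟨b, hb, rfl⟩ := r.surjπ m
    rw [r.π_comm hw' hb (sq h r)]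
    exact r.mp_mem (comm_mem_K h hI hw hb) (comm_mem_K h hI hw hb).2
  · intro m hm
    obtain ⟨l, hl, hl', rfl⟩ := r.mem_mp.1 hm
    obtain ⟨z, hz, x, hx, rfl⟩ := h.line_eq h.pl.isCj_self hI.cr.l.right hI.cr.l.ne hL hZL hRL hl
    have hxW : x ∈ ws V Z := (hRL.trans (le_ws hL hZL)) hx
    have e : π (z * x) = π x := by
      rw [r.mulπ z (r.le hz) x hxW, (r.kerπ z (r.le hz)).2 hz, one_mul]
    rw [e]
    exact r.mp_mem ⟨⟨h.adj_le_ws hI.cr.r.symm hx, h.pt_le_ws hI.cr.l.right hx⟩, hxW⟩ hxW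

omit r in
/-- a point `E` with an element in `W_B ∩ W_R ∩ W_Z` is collinear with `R` and `B` -/
theorem adj_of {N E : Subgroup G} (hN : IsCj V N) (hZN : Z ≤ N) (hE : IsCj Z E) (hEN : E ≤ N) {e : G} (he : e ∈ E)
    (heZ : e ∉ Z) (he' : e ∈ ws V B ⊓ ws V R ⊓ ws V Z) (hER : E ≠ R) : Adj V Z E R ∧ Adj V Z E B := by
  have hZ := h.pl.isCj_self
  have hEZ : E ≠ Z := fun e1 => heZ (e1 ▸ he)
  have he1 : e ≠ 1 := fun e1 => heZ (e1 ▸ one_mem _)
  have hc := hI.cr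
  have h1 : Adj V Z E R := by
    by_cases hNL : N = L
    · subst hNL
      exact ⟨hE, hc.l.right, hER, N, hN, hEN, hRL⟩
    · exact touch h hL hZ hc.l.right hZL hRL hc.l.ne hZ hc.l.right hZL hRL he'.2 he'.1.2
        (fun e1 => heZ (lines_inf h hZ hL hN hZL hZN (fun e2 => hNL e2.symm) e1 (hEN he))) he
        ⟨hE, hZ, hEZ, N, hN, hEN, hZN⟩
  refine ⟨h1, ?_⟩
  obtain ⟨M₀, hM₀, hRM, hBM⟩ := hc.r.line
  by_cases h2 : e ∈ M₀
  · obtain ⟨E', hE', hEM, heE⟩ := h.exists_point hM₀ h2 he1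
    have h3 : E' = E := h.pts_eq hE' hE heE he he1
    subst h3
    exact ⟨hE, hc.r.right, fun e1 => he1 (h.star' hc (e1 ▸ he) he'.2), M₀, hM₀, hEM, hBM⟩
  · exact touch h hM₀ hc.r.right hc.r.left hBM hRM hc.r.ne.symm hc.r.left hc.r.right hRM hBM he'.1.1 he'.1.2 h2 he h1

omit r in
theorem com_of {N E : Subgroup G} (hN : IsCj V N) (hZN : Z ≤ N) (hE : IsCj Z E) (hEN : E ≤ N) {e : G} (he : e ∈ E)
    (heZ : e ∉ Z) (he' : e ∈ ws V B ⊓ ws V R ⊓ ws V Z) : Com V B E := by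
  by_cases hER : E = R
  · rw [hER]
    exact h.com B R hI.cr.r.symm
  · exact h.com B E (adj_of h hL hZL hRL hI hN hZN hE hEN he heZ he' hER).2.symm

/-- (***) -/
theorem cen_gen (v : M) (hv : v ∈ br (r.mr (ws V B)) ⊔ r.mp L) (hv1 : v ≠ 1) (x : H) (hx : v ∈ x • r.mp V) :
    ∀ a ∈ r.mr (ws V B), ∀ u ∈ x • r.mp (IV V Z), a • u = u := by
  obtain ⟨g, hg, rfl⟩ := r.surjρ x
  obtain ⟨e, he, heW, rfl⟩ := r.mem_mp.1 (br_sup_le h r hL hZL hRL hI hv)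
  have heZ : e ∉ Z := fun e1 => hv1 ((r.kerπ e heW).2 e1)
  have heN : e ∈ cj g V := (mp_line_mem h r hg heW).1 hx
  have hZN := Z_le_cj h r hg h.pl.ZV
  obtain ⟨E, hE, hEN, heE⟩ := h.exists_point (L := cj g V) ⟨g, rfl⟩ heN (fun e1 => heZ (e1 ▸ one_mem _))
  have hcom : Com V B E := com_of h hL hZL hRL hI (N := cj g V) ⟨g, rfl⟩ hZN hE hEN heE heZ he
  intro a ha u hu
  obtain ⟨w, hw, hw', rfl⟩ := r.mem_mr.1 ha
  rw [r.smul_mp hg, cj_IV h hg] at hu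
  obtain ⟨b, hb, hb', rfl⟩ := r.mem_mp.1 hu
  have hbE : b ∈ ws V E := IV_le' h ⟨g, rfl⟩ hE hEN hb
  have h1 := mem_centralizer_iff.1 (hcom hw) b hbE
  rw [r.fix_iff hw' hb', ← h1, mul_inv_cancel_right, mul_inv_cancel]
  exact one_mem _

end

/-- **the frame of an inner pair** -/
theorem inn_base (hNO : NOg V Z) (hq : 4 ≤ Nat.card Z) {R B : Subgroup G} (hRV : R ≤ V) (hI : Inn V Z Z R B) :
    OneS.Inn H (r.mp V) (r.mp (IV V Z)) (r.mr (ws V B)) where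
  F := fr h r hNO hq
  sym := sym_of h r
  bs := bs_of h r
  hA := hA_gen h r (isCj_V h) h.pl.ZV hRV hI
  cen v hv hv1 x hx := cen_gen h r (isCj_V h) h.pl.ZV hRV hI v hv hv1 x hx

end InnG

end Cfsg.Agent.Omega.NO3S.MidB.No

end

section


/-!
# NO-3S, natural lines, critical distance 2: THEOREM INN, `JJ`, exactness

* `InnG.exists_jj` : (F2') : a 2-group `J` inducing all `u ↦ u + φ(u)` on `I_V / Z`;
* `InnG.fo_eq`, `InnG.hex` : `|A| |C_M(A)| = |M|` for `A = W_B` mod its kernel.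
-/

set_option autoImplicit false
set_option linter.unusedSectionVars false

namespace Cfsg.Agent.Omega.NO3S.MidB.No

open Subgroup Cfsg.Agent.Omega.NO3S.PT Cfsg.Agent.Omega.NoFF.Basic Cfsg.Agent.ZN
open Cfsg.Agent.Omega.NO3S.MidQ (Adj Com Cr UU ws_of kx_of isCj_iff adj_iff com_iff cr_iff)
open Cfsg.Agent.Omega.NO3S.OneS (IsBB Fr Lam mem_sup' ne_bot_iff' TorAct br br_le JJ)
open Cfsg.Agent.ClassTwoFusion.Quad (cv)
open Cfsg.Agent.Omega.NOThree.NoOver (fo)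
open scoped Pointwise

universe u

variable {G : Type u} [Group G]

/-- a Sylow 2-subgroup covers a 2-quotient -/
theorem exists_sylow_cover {H : Type*} [Group H] [Finite H] {J₀ K : Subgroup H}
    (hn : ∀ x ∈ J₀, ∀ k ∈ K, x * k * x⁻¹ ∈ K) (h2 : ∀ x ∈ J₀, x * x ∈ K) :
    ∃ J ≤ J₀, IsPGroup 2 J ∧ ∀ x ∈ J₀, ∃ j ∈ J, ∃ k ∈ K, x = j * k := by
  have : Fact (Nat.Prime 2) := ⟨Nat.prime_two⟩
  have hnorm : (K.subgroupOf J₀).Normal := ⟨fun k hk x => mem_subgroupOf.2 (hn x x.2 k (mem_subgroupOf.1 hk))⟩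
  let f : J₀ →* J₀ ⧸ K.subgroupOf J₀ := QuotientGroup.mk' _
  have hf : Function.Surjective f := QuotientGroup.mk'_surjective _
  have hq : IsPGroup 2 (J₀ ⧸ K.subgroupOf J₀) := by
    intro x
    obtain ⟨y, rfl⟩ := hf x
    refine ⟨1, ?_⟩
    rw [pow_one, pow_two, ← map_mul]
    exact (QuotientGroup.eq_one_iff _).2 (mem_subgroupOf.2 (h2 y y.2))
  obtain ⟨T⟩ : Nonempty (Sylow 2 J₀) := inferInstance
  have h3 : (⊤ : Subgroup (J₀ ⧸ K.subgroupOf J₀)) = (T.mapSurjective hf : Sylow 2 _) :=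
    (T.mapSurjective hf).is_maximal' (hq.to_subgroup ⊤) le_top
  refine ⟨(T : Subgroup J₀).map J₀.subtype, ?_, T.isPGroup'.map _, fun x hx => ?_⟩
  · rintro _ ⟨y, -, rfl⟩
    exact y.2
  · have h4 : f ⟨x, hx⟩ ∈ (T.mapSurjective hf : Subgroup _) := by
      rw [← h3]
      exact mem_top _
    obtain ⟨j, hj, e⟩ := h4
    refine ⟨j, ⟨j, hj, rfl⟩, (j : H)⁻¹ * x, ?_, by group⟩
    exact mem_subgroupOf.1 (QuotientGroup.eq.1 e)

theorem NOg.of {V Z L X : Subgroup G} (hL : IsCj V L) (hX : IsCj Z X) (hNO : NOg V Z) : NOg L X := by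
  intro Y N D E C hY hN hYN h1 h2 h3 h4 h5 h6
  rw [kx_of hL] at h3 h5 ⊢
  rw [ws_of hL] at h6 ⊢
  exact hNO Y N D E C ((isCj_iff hX).1 hY) ((isCj_iff hL).1 hN) hYN h1 h2 h3 h4 h5 h6

theorem Inn.of {V Z L X A R B : Subgroup G} (hL : IsCj V L) (hX : IsCj Z X) (hI : Inn V Z A R B) : Inn L X A R B := by
  refine ⟨(cr_iff hL hX).2 hI.cr, ?_⟩
  rw [ws_of hL, ws_of hL, ws_of hL]
  exact hI.le

theorem Inn.symm {V Z A R B : Subgroup G} (hI : Inn V Z A R B) : Inn V Z B R A := by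
  refine ⟨hI.cr.symm, fun b hb a ha => ?_⟩
  have h1 := inv_mem (hI.le a ha b hb)
  have e : (a * b * a⁻¹ * b⁻¹)⁻¹ = b * a * b⁻¹ * a⁻¹ := by group
  rwa [e] at h1

namespace InnG

variable [Finite G] {S : Sylow 2 G} {P V Z : Subgroup G} (h : Mid S P V Z)

section

include h

/-- `|I_L|` -/
theorem card_inf {X Y : Subgroup G} (hXY : Adj V Z X Y) :
    Nat.card (ws V X ⊓ ws V Y : Subgroup G) = Nat.card (IV V Z) := by
  obtain ⟨hX, hY, hne, L, hL, hXL, hYL⟩ := hXY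
  rw [PB.Geom.inf_eq h.pl h.hf hL hX hXL hY hYL hne]
  obtain ⟨g, rfl, rfl⟩ := h.exists_conj hX hL hXL
  rw [PB.Geom.IV_conj h.pl h.hf g, card_cj]

end

variable {H M : Type*} [Group H] [CommGroup M] [MulDistribMulAction H M] {ρ : G → H} {π : G → M} (r : RN V Z ρ π)

section

include h r

/-- **(F2')** -/
theorem exists_jj : ∃ J : Subgroup H, JJ J (r.mp V) (r.mp (IV V Z)) := by
  have := r.finite_H
  set J₀ : Subgroup H := r.mr (XV V Z ⊓ centralizer (V : Set G)) with hJ₀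
  have hCN : centralizer (V : Set G) ≤ normalizer (Z : Set G) :=
    (centralizer_le h.pl.ZV).trans (centralizer_le_normalizer _)
  have hlamU : r.mp V ≤ r.mp (IV V Z) := (r.mp_le_iff (Z_le_IV h r) (V_le_ws h r)).2 h.pl.V_le_IV
  have fx : ∀ k ∈ J₀, ∀ z ∈ r.mp V, k • z = z := by
    intro k hk m hm
    obtain ⟨c, hc, hcN, rfl⟩ := r.mem_mr.1 hk
    obtain ⟨a, ha, ha', rfl⟩ := r.mem_mp.1 hm
    rw [← r.act c hcN a ha', ← mem_centralizer_iff.1 hc.2 a ha, mul_inv_cancel_right]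
  have cl : ∀ k ∈ J₀, ∀ u ∈ r.mp (IV V Z), k • u * u ∈ r.mp V := by
    intro k hk m hm
    obtain ⟨c, hc, hcN, rfl⟩ := r.mem_mr.1 hk
    obtain ⟨a, ha, ha', rfl⟩ := r.mem_mp.1 hm
    rw [r.π_comm hcN ha' (sq h r)]
    exact r.mp_mem (h.pl.XV_act hc.1 ha) (mul_mem (r.conj_ws hcN ha') (inv_mem ha'))
  have on : ∀ u ∈ r.mp (IV V Z), u ∉ r.mp V → ∀ z ∈ r.mp V, ∃ k ∈ J₀, k • u = u * z := by
    intro u hu hu' z hz
    obtain ⟨w, hw, hw', rfl⟩ := r.mem_mp.1 hu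
    obtain ⟨v, hv, hv', rfl⟩ := r.mem_mp.1 hz
    have hwV : w ∉ V := fun e => hu' (r.mp_mem e hw')
    obtain ⟨c, hc, hcV, hcw⟩ := h.pl.F2 h.hf h.hO hw hwV hv
    refine ⟨ρ c, r.mr_mem ⟨hc, hcV⟩ (hCN hcV), ?_⟩
    have e : c * w * c⁻¹ = v * w := by rw [← hcw]; group
    rw [← r.act c (hCN hcV) w hw', e, r.mulπ v hv' w hw', mul_comm]
  let K : Subgroup H :=
    { carrier := {k | k ∈ J₀ ∧ ∀ u ∈ r.mp (IV V Z), k • u = u}
      one_mem' := ⟨one_mem _, fun u _ => one_smul _ _⟩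
      mul_mem' := by
        rintro a b ⟨ha, ha'⟩ ⟨hb, hb'⟩
        exact ⟨mul_mem ha hb, fun u hu => by rw [mul_smul, hb' u hu, ha' u hu]⟩
      inv_mem' := by
        rintro a ⟨ha, ha'⟩
        exact ⟨inv_mem ha, fun u hu => by rw [inv_smul_eq_iff, ha' u hu]⟩ }
  have hinv : ∀ x ∈ J₀, ∀ u ∈ r.mp (IV V Z), x • u ∈ r.mp (IV V Z) := by
    intro x hx u hu
    have e : x • u = (x • u * u) * u := by rw [mul_assoc, sq h r, mul_one]
    rw [e]
    exact mul_mem (hlamU (cl x hx u hu)) hu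
  obtain ⟨J, hJ, hJ2, hcov⟩ := exists_sylow_cover (J₀ := J₀) (K := K) (by
    rintro x hx k ⟨hk, hk'⟩
    refine ⟨mul_mem (mul_mem hx hk) (inv_mem hx), fun u hu => ?_⟩
    rw [mul_smul, mul_smul, hk' _ (hinv _ (inv_mem hx) u hu), smul_inv_smul]) (by
    intro x hx
    refine ⟨mul_mem hx hx, fun u hu => ?_⟩
    have h1 := fx x hx _ (cl x hx u hu)
    rw [smul_mul', ← mul_smul] at h1
    have h2 : (x * x) • u = (x • u * u) * x • u := by
      rw [← h1, mul_assoc, sq h r, mul_one]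
    rw [h2, mul_comm (x • u) u, mul_assoc, sq h r, mul_one])
  refine ⟨J, hJ2, fun k hk => fx k (hJ hk), fun k hk => cl k (hJ hk), fun u hu hu' z hz => ?_⟩
  obtain ⟨x, hx, e⟩ := on u hu hu' z hz
  obtain ⟨j, hj, k, hk, rfl⟩ := hcov x hx
  refine ⟨j, hj, ?_⟩
  rw [← e, mul_smul, hk.2 u hu]

/-- `|A| |C_M(A)| |C_{W_B}(W_Z)| |Z| = |W_B| |C_{W_Z}(W_B)|` -/
theorem fo_eq {R B : Subgroup G} (hc : Cr V Z Z R B) :
    fo M (r.mr (ws V B)) * (Nat.card (ws V B ⊓ centralizer ((ws V Z : Subgroup G) : Set G) : Subgroup G) *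
      Nat.card Z) =
    Nat.card (ws V B) * Nat.card (ws V Z ⊓ centralizer ((ws V B : Subgroup G) : Set G) : Subgroup G) := by
  have hBN : ws V B ≤ normalizer (Z : Set G) :=
    (h.ws_le_cent hc.r.symm hc.l.symm).trans (centralizer_le_normalizer _)
  -- `A`
  have e1 : Nat.card (r.mr (ws V B)) *
      Nat.card (ws V B ⊓ centralizer ((ws V Z : Subgroup G) : Set G) : Subgroup G) = Nat.card (ws V B) := by
    let f : ws V B →* H := r.rh.comp (inclusion hBN)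
    have h1 : f.range = r.mr (ws V B) := by
      ext x
      constructor
      · rintro ⟨w, rfl⟩
        exact r.mr_mem w.2 (hBN w.2)
      · intro hx
        obtain ⟨w, hw, hw', rfl⟩ := r.mem_mr.1 hx
        exact ⟨⟨w, hw⟩, rfl⟩
    have h2 := Subgroup.card_mul_index f.ker
    rw [Subgroup.index_ker, h1, mul_comm] at h2
    rw [← h2]
    congr 1
    have hk : ∀ w : ws V B, w ∈ f.ker ↔ (w : G) ∈ centralizer ((ws V Z : Subgroup G) : Set G) := by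
      intro w
      rw [MonoidHom.mem_ker]
      constructor
      · intro e
        have h3 := (r.kerρ w (hBN w.2)).1 e
        rw [mem_centralizer_iff]
        exact fun x hx => (h.cent_of_mod hc w.2 h3 x hx).symm
      · intro e
        refine (r.kerρ w (hBN w.2)).2 fun x hx => ?_
        rw [← mem_centralizer_iff.1 e x hx, mul_inv_cancel_right, mul_inv_cancel]
        exact one_mem _
    exact Nat.card_congr ⟨fun x => ⟨⟨x, x.2.1⟩, (hk _).2 x.2.2⟩, fun x => ⟨(x : ws V B), (x : ws V B).2,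
      (hk _).1 x.2⟩, fun x => rfl, fun x => rfl⟩
  have e2 : Nat.card (cv M ((r.mr (ws V B) : Subgroup H) : Set H)) * Nat.card Z =
      Nat.card (ws V Z ⊓ centralizer ((ws V B : Subgroup G) : Set G) : Subgroup G) := by
    have hZK : Z ≤ ws V Z ⊓ centralizer ((ws V B : Subgroup G) : Set G) := by
      refine le_inf r.le ?_
      exact comm_symm (h.ws_le_cent hc.r.symm hc.l.symm)
    rw [← r.card_mp hZK inf_le_left]
    suffices e3 : cv M ((r.mr (ws V B) : Subgroup H) : Set H) =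
        r.mp (ws V Z ⊓ centralizer ((ws V B : Subgroup G) : Set G)) by rw [e3]
    ext m
    constructor
    · intro hm
      obtain ⟨x, hx, rfl⟩ := r.surjπ m
      have h3 : x ∈ centralizer ((ws V B : Subgroup G) : Set G) := by
        rw [mem_centralizer_iff]
        refine h.cent_of_mod' hc hx fun w hw => ?_
        exact (r.fix_iff (hBN hw) hx).1 (hm _ (r.mr_mem hw (hBN hw)))
      exact r.mp_mem ⟨hx, h3⟩ hx
    · intro hm
      obtain ⟨x, hx, hx', rfl⟩ := r.mem_mp.1 hm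
      intro a ha
      obtain ⟨w, hw, hw', rfl⟩ := r.mem_mr.1 ha
      have h3 := mem_centralizer_iff.1 hx.2 w hw
      rw [r.fix_iff hw' hx', h3, mul_inv_cancel_right, mul_inv_cancel]
      exact one_mem _
  unfold fo
  rw [← e1, ← e2]
  ring

/-- `|C_{W_Z}(W_B)| ≤ |C_{W_B}(W_Z)|` -/
theorem card_cent_le (hNO : NOg V Z) {R B : Subgroup G} (hRV : R ≤ V) (hI : Inn V Z Z R B) :
    Nat.card (ws V Z ⊓ centralizer ((ws V B : Subgroup G) : Set G) : Subgroup G) ≤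
      Nat.card (ws V B ⊓ centralizer ((ws V Z : Subgroup G) : Set G) : Subgroup G) := by
  have h1 := no_of h r hNO _ (hA_gen h r (isCj_V h) h.pl.ZV hRV hI)
  have h2 := fo_eq h r hI.cr
  have h3 : Nat.card (ws V B) = Nat.card (ws V Z) := by
    obtain ⟨g, hg⟩ := hI.cr.r.right
    rw [hg, ws_cj, card_cj]
  rw [h3, ← r.card_M] at h2
  have h4 : Nat.card M * Nat.card Z *
      Nat.card (ws V Z ⊓ centralizer ((ws V B : Subgroup G) : Set G) : Subgroup G) ≤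
      Nat.card M * Nat.card Z *
        Nat.card (ws V B ⊓ centralizer ((ws V Z : Subgroup G) : Set G) : Subgroup G) := by
    rw [← h2]
    calc _ ≤ Nat.card M * (Nat.card (ws V B ⊓ centralizer ((ws V Z : Subgroup G) : Set G) : Subgroup G) *
          Nat.card Z) := Nat.mul_le_mul_right _ h1
      _ = _ := by ring
  have := r.finite_M
  exact Nat.le_of_mul_le_mul_left h4 (Nat.mul_pos Nat.card_pos Nat.card_pos)

end

section

include h

/-- the same, `Z` any point -/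
theorem card_cent_le' (hNO : NOg V Z) {X R B : Subgroup G} (hI : Inn V Z X R B) :
    Nat.card (ws V X ⊓ centralizer ((ws V B : Subgroup G) : Set G) : Subgroup G) ≤
      Nat.card (ws V B ⊓ centralizer ((ws V X : Subgroup G) : Set G) : Subgroup G) := by
  obtain ⟨hX, hR, hne, L, hL, hXL, hRL⟩ := hI.cr.l
  obtain ⟨T, Q, h'⟩ := h.flag hX hL hXL
  obtain ⟨H, M, i1, i2, i3, ρ, π, r⟩ := exists_rn (h'.pt_le_ws h'.pl.isCj_self) (h'.com_self h'.pl.isCj_self)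
  have h1 := card_cent_le h' r (hNO.of hL hX) hRL (hI.of hL hX)
  rwa [ws_of hL, ws_of hL] at h1

end

include h r

/-- **exactness** -/
theorem hex (hNO : NOg V Z) {R B : Subgroup G} (hI : Inn V Z Z R B) : fo M (r.mr (ws V B)) = Nat.card M := by
  have h1 := fo_eq h r hI.cr
  have h2 := le_antisymm (card_cent_le' h hNO hI) (card_cent_le' h hNO hI.symm)
  have h3 : Nat.card (ws V B) = Nat.card (ws V Z) := by
    obtain ⟨g, hg⟩ := hI.cr.r.right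
    rw [hg, ws_cj, card_cj]
  rw [h2, h3, ← r.card_M] at h1
  have := r.finite_M
  have h4 : 0 < Nat.card (ws V B ⊓ centralizer ((ws V Z : Subgroup G) : Set G) : Subgroup G) * Nat.card Z :=
    Nat.mul_pos Nat.card_pos Nat.card_pos
  refine Nat.eq_of_mul_eq_mul_right h4 ?_
  rw [h1]
  ring

end InnG

end Cfsg.Agent.Omega.NO3S.MidB.No

end

section


/-!
# NO-3S, natural lines, critical distance 2: **THEOREM INN** (49's `OneS`), geometric form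

`innN_of : Mid S P V Z → 4 ≤ |Z| → NOg V Z → InnN V Z`.
-/

set_option autoImplicit false
set_option linter.unusedSectionVars false

namespace Cfsg.Agent.Omega.NO3S.MidB.No

open Subgroup Cfsg.Agent.Omega.NO3S.PT Cfsg.Agent.Omega.NoFF.Basic Cfsg.Agent.ZN
open Cfsg.Agent.Omega.NO3S.MidQ (Adj Com Cr UU ws_of kx_of isCj_iff adj_iff com_iff cr_iff)
open Cfsg.Agent.Omega.NO3S.OneS (IsBB Fr Lam mem_sup' ne_bot_iff' TorAct br br_le JJ Fatt)
open Cfsg.Agent.ClassTwoFusion.Quad (cv)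
open Cfsg.Agent.Omega.NOThree.NoOver (fo)
open scoped Pointwise

universe u

variable {G : Type u} [Group G]

namespace InnG

variable [Finite G] {S : Sylow 2 G} {P V Z : Subgroup G} (h : Mid S P V Z)

section

variable {H M : Type*} [Group H] [CommGroup M] [MulDistribMulAction H M] {ρ : G → H} {π : G → M} (r : RN V Z ρ π)
include h r

/-- `π [W_B, W_Z] ≤ [M, A]` -/
theorem mem_br_of {R B : Subgroup G} (hI : Inn V Z Z R B) {e : G} (he : e ∈ ⁅ws V B, ws V Z⁆) :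
    π e ∈ br (r.mr (ws V B)) := by
  let E : Subgroup G :=
    { carrier := {w | w ∈ ws V Z ∧ π w ∈ br (r.mr (ws V B))}
      one_mem' := ⟨one_mem _, by rw [r.one_π]; exact one_mem _⟩
      mul_mem' := by
        rintro a b ⟨ha, ha'⟩ ⟨hb, hb'⟩
        exact ⟨mul_mem ha hb, by rw [r.mulπ a ha b hb]; exact mul_mem ha' hb'⟩
      inv_mem' := by
        rintro a ⟨ha, ha'⟩
        exact ⟨inv_mem ha, by rw [r.inv_π ha]; exact inv_mem ha'⟩ }
  have h1 : ⁅ws V B, ws V Z⁆ ≤ E := by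
    rw [commutator_le]
    intro b hb z hz
    have hbN := ws_le_norm_Z h hI hb
    refine ⟨mul_mem (r.conj_ws hbN hz) (inv_mem hz), ?_⟩
    have h2 := OneS.mem_br (r.mr_mem hb hbN) (π z)
    rwa [r.π_comm hbN hz (sq h r)] at h2
  exact (h1 he).2

/-- `[M, A] ≤ π [W_B, W_Z]` -/
theorem exists_of_mem_br {R B : Subgroup G} (hI : Inn V Z Z R B) {m : M} (hm : m ∈ br (r.mr (ws V B))) :
    ∃ e ∈ ⁅ws V B, ws V Z⁆, e ∈ ws V Z ∧ π e = m := by
  have h1 : (br (r.mr (ws V B)) : Subgroup M) ≤ r.mp ⁅ws V B, ws V Z⁆ := by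
    refine br_le fun a ha m => ?_
    obtain ⟨w, hw, hw', rfl⟩ := r.mem_mr.1 ha
    obtain ⟨b, hb, rfl⟩ := r.surjπ m
    rw [r.π_comm hw' hb (sq h r)]
    exact r.mp_mem (commutator_mem_commutator hw hb) (comm_mem_K h hI hw hb).2
  exact r.mem_mp.1 (h1 hm)

end

section

include h

/-- a point with an element in `[W_B, W_Z]` has the same `I_L` -/
theorem flag_mid (hNO : NOg V Z) (hq : 4 ≤ Nat.card Z) {R E B : Subgroup G} (hRV : R ≤ V) (hI : Inn V Z Z R B)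
    (hE : Adj V Z Z E) {e : G} (he : e ∈ E) (heZ : e ∉ Z) (he' : e ∈ ⁅ws V B, ws V Z⁆) :
    ws V Z ⊓ ws V E = ws V Z ⊓ ws V R := by
  have hZ := h.pl.isCj_self
  obtain ⟨H, M, i1, i2, i3, ρ, π, r⟩ := exists_rn (h.pt_le_ws hZ) (h.com_self hZ)
  have := r.finite_M
  have := r.finite_H
  obtain ⟨N, hN, hZN, hEN⟩ := hE.line
  obtain ⟨g, hg, rfl⟩ := exists_norm h hN hZN
  have e1 : IV V Z = ws V Z ⊓ ws V R := IV_eq h (isCj_V h) h.pl.ZV hI.cr.l.right hRV hI.cr.l.ne.symm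
  have e2 : IV (cj g V) Z = ws V Z ⊓ ws V E := IV_eq h hN hZN hE.right hEN hE.ne.symm
  have hA : r.mr (ws V B) ≠ ⊥ := by
    intro e
    apply hI.cr.symm.ne
    intro w hw
    have hw' := ws_le_norm_Z h hI hw
    have h1 : ρ w ∈ r.mr (ws V B) := r.mr_mem hw hw'
    rw [e, mem_bot] at h1
    rw [mem_centralizer_iff]
    exact fun x hx => (h.cent_of_mod hI.cr hw ((r.kerρ w hw').1 h1) x hx).symm
  have heW : e ∈ ws V Z := h.adj_le_ws hE he
  have h0 := mem_br_of h r hI he'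
  have h1 := (inn_base h r hNO hq hRV hI).flag_eq hA (hex h r hNO hI) h0
    (fun e1 => heZ ((r.kerπ e heW).1 e1)) ((mp_line_mem h r hg heW).2 (hEN he))
  have hZI := Z_le_IV h r
  rw [r.smul_mp hg, r.mp_inj (Z_le_cj h r hg hZI) hZI (cj_le_ws h r hg h.pl.IV_le_ws) h.pl.IV_le_ws, cj_IV h hg,
    e1, e2] at h1
  exact h1

/-- the same at any point -/
theorem flag_mid' (hNO : NOg V Z) (hq : 4 ≤ Nat.card Z) {X R E B : Subgroup G} (hI : Inn V Z X R B)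
    (hE : Adj V Z X E) {e : G} (he : e ∈ E) (heX : e ∉ X) (he' : e ∈ ⁅ws V B, ws V X⁆) :
    ws V X ⊓ ws V E = ws V X ⊓ ws V R := by
  obtain ⟨hX, hR, hne, L, hL, hXL, hRL⟩ := hI.cr.l
  obtain ⟨T, Q, h'⟩ := h.flag hX hL hXL
  have hq' : 4 ≤ Nat.card X := by
    rw [h.pl.card_pt hX]
    exact hq
  have h1 := flag_mid h' (hNO.of hL hX) hq' hRL (hI.of hL hX) ((adj_iff hL hX).2 hE) he heX (by
    rw [ws_of hL, ws_of hL]
    exact he')
  rwa [ws_of hL, ws_of hL, ws_of hL] at h1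

end

variable {H M : Type*} [Group H] [CommGroup M] [MulDistribMulAction H M] {ρ : G → H} {π : G → M} (r : RN V Z ρ π)
include h r

/-- (T) -/
theorem fatt (hNO : NOg V Z) (hq : 4 ≤ Nat.card Z) {R B : Subgroup G} (hRV : R ≤ V) (hI : Inn V Z Z R B) :
    Fatt (r.mp V) (r.mp (IV V Z)) (r.mr (ws V B)) := by
  intro x hx v hv hv1 hvx
  obtain ⟨g, hg, rfl⟩ := r.surjρ x
  rw [smul_eq_iff h r hg]
  by_contra hne
  have hZ := h.pl.isCj_self
  have hZI := Z_le_IV h r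
  have hZN := Z_le_cj h r hg h.pl.ZV
  have hN : IsCj V (cj g V) := ⟨g, rfl⟩
  rw [r.smul_mp hg, r.mp_inj (Z_le_cj h r hg hZI) hZI (cj_le_ws h r hg h.pl.IV_le_ws) h.pl.IV_le_ws, cj_IV h hg] at hx
  obtain ⟨e, hec, heW, rfl⟩ := exists_of_mem_br h r hI hv
  have he : e ∈ ws V B ⊓ ws V R ⊓ ws V Z := by
    have h1 : ⁅ws V B, ws V Z⁆ ≤ ws V B ⊓ ws V R ⊓ ws V Z := by
      rw [commutator_le]
      exact fun b hb z hz => comm_mem_K h hI hb hz
    exact h1 hec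
  have heZ : e ∉ Z := fun e1 => hv1 ((r.kerπ e heW).2 e1)
  have heN : e ∈ cj g V := (mp_line_mem h r hg heW).1 hvx
  obtain ⟨E, hE, hEN, heE⟩ := h.exists_point hN heN (fun e1 => heZ (e1 ▸ one_mem _))
  have hEZ : E ≠ Z := fun e1 => heZ (e1 ▸ heE)
  have hER : E ≠ R := by
    rintro rfl
    exact hne (h.line_unique hZ hE hEZ.symm hN (isCj_V h) hZN hEN h.pl.ZV hRV)
  obtain ⟨h1, h2⟩ := adj_of h (isCj_V h) h.pl.ZV hRV hI hN hZN hE hEN heE heZ he hER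
  have e1 : IV V Z = ws V Z ⊓ ws V R := IV_eq h (isCj_V h) h.pl.ZV hI.cr.l.right hRV hI.cr.l.ne.symm
  have e2 : IV (cj g V) Z = ws V Z ⊓ ws V E := IV_eq h hN hZN hE hEN hEZ
  rw [e1, e2] at hx
  have h3 := flag_mid' h hNO hq hI.symm h2.symm heE
    (fun e1 => heZ (by rw [h.star' hI.cr e1 heW]; exact one_mem _)) (by rw [commutator_comm]; exact hec)
  -- the three `I_L`
  have h4 : ws V Z ⊓ ws V R = ws V E ⊓ ws V R := by
    refine eq_of_le_of_card_ge (le_inf (hx ▸ inf_le_right) inf_le_right) ?_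
    rw [card_inf h h1, card_inf h hI.cr.l]
  have h5 : ws V B ⊓ ws V R = ws V E ⊓ ws V R := by
    refine eq_of_le_of_card_ge (le_inf (h3 ▸ inf_le_right) inf_le_right) ?_
    rw [card_inf h h1, card_inf h hI.cr.r.symm]
  have h6 : B ≤ ws V Z := by
    have h7 : B ≤ ws V B ⊓ ws V R := le_inf (h.pt_le_ws hI.cr.r.right) (h.adj_le_ws hI.cr.r)
    rw [h5, ← h4] at h7
    exact h7.trans inf_le_left
  obtain ⟨b, hb, hb1⟩ := h.pt_ne_bot hI.cr.r.right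
  exact hb1 (h.star' hI.cr hb (h6 hb))

end InnG

variable [Finite G] {S : Sylow 2 G} {P V Z : Subgroup G}

/-- **THEOREM INN** at the base flag -/
theorem inn_base_of (h : Mid S P V Z) (hq : 4 ≤ Nat.card Z) (hNO : NOg V Z) {R B : Subgroup G} (hRV : R ≤ V)
    (hI : Inn V Z Z R B) : ∀ a ∈ ws V Z, ∀ b ∈ ws V B, a * b * a⁻¹ * b⁻¹ ∈ R := by
  have hZ := h.pl.isCj_self
  obtain ⟨H, M, i1, i2, i3, ρ, π, r⟩ := exists_rn (h.pt_le_ws hZ) (h.com_self hZ)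
  have := r.finite_M
  have := r.finite_H
  obtain ⟨J, hJ⟩ := InnG.exists_jj h r
  have h1 := (InnG.inn_base h r hNO hq hRV hI).br_le_lam hJ (InnG.fatt h r hNO hq hRV hI) (InnG.hex h r hNO hI)
  intro a ha b hb
  have hbN := InnG.ws_le_norm_Z h hI hb
  have hK := InnG.comm_mem_K h hI hb ha
  have e0 : a * b * a⁻¹ * b⁻¹ = (b * a * b⁻¹ * a⁻¹)⁻¹ := by group
  rw [e0]
  apply inv_mem
  set e := b * a * b⁻¹ * a⁻¹ with he
  have heV : e ∈ V := by
    have h2 := h1 (OneS.mem_br (r.mr_mem hb hbN) (π a))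
    rw [r.π_comm hbN ha (InnG.sq h r)] at h2
    exact (r.mp_mem_iff h.pl.ZV hK.2).1 h2
  by_cases he1 : e = 1
  · rw [he1]; exact one_mem _
  have heZ : e ∉ Z := fun e1 => he1 (h.star hI.cr e1 hK.1.1)
  obtain ⟨E, hE, hEV, heE⟩ := h.exists_point (InnG.isCj_V h) heV he1
  by_cases hER : E = R
  · rw [← hER]; exact heE
  exfalso
  obtain ⟨-, h3⟩ := InnG.adj_of h (InnG.isCj_V h) h.pl.ZV hRV hI (InnG.isCj_V h) h.pl.ZV hE hEV heE heZ hK hER
  have h4 : V ≤ ws V B := h.line_le_of hE hI.cr.l.right hER (InnG.isCj_V h) hEV hRV (h.adj_le_ws h3.symm)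
    (h.adj_le_ws hI.cr.r.symm)
  obtain ⟨z, hz, hz1⟩ := h.pt_ne_bot hZ
  exact hz1 (h.star hI.cr hz (h4 (h.pl.ZV hz)))

/-- **THEOREM INN** -/
theorem innN_of (h : Mid S P V Z) (hq : 4 ≤ Nat.card Z) (hNO : NOg V Z) : InnN V Z := by
  intro X R Y hI a ha b hb
  obtain ⟨hX, hR, hne, L, hL, hXL, hRL⟩ := hI.cr.l
  obtain ⟨T, Q, h'⟩ := h.flag hX hL hXL
  have hq' : 4 ≤ Nat.card X := by
    rw [h.pl.card_pt hX]
    exact hq
  refine inn_base_of h' hq' (hNO.of hL hX) hRL (hI.of hL hX) a ?_ b ?_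
  · rwa [ws_of hL]
  · rwa [ws_of hL]

end Cfsg.Agent.Omega.NO3S.MidB.No

end

private theorem dce_db7a5896140d : _root_.True := by
  try have : _root_.True := by simp only [_root_.Cfsg.Agent.Omega.NO3S.MidB.No.RN.mp.eq_1]
  exact _root_.True.intro
end

-- part: Mrg/Omega/NO3S/OneQ/POne
section
prune_inst 0x300000000180010000000504000000000000000000000020000004020000000008005100810080000040000024400000000000000000000000004010000000080080100020000000000000000000000000000000000000000000000000000000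
set_option linter.all false
open scoped Cfsg.Agent.FastGrp

-- part: Mrg/Omega/NO3S/OneQ/FitQ
section
-- merged: Cfsg.Agent.Mrg.Omega.NO3S.OneQ.Rep
section

/-!
# The module `M = W / Z` for `H = C / {c | [W, c] ≤ Z}`

`WRep W Z C M H` : `pi : G → M`, `phi : G → H` (used on `W`, `C`) identify `M` with `W / Z` and `H` with the group induced by `C`
on `W / Z`; `exists_wrep` : it exists, with a faithful action, if `W` is abelian and `C` normalises `W` and `Z`.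

* `R.hom`, `R.img K`, `R.pre K`; `R.up D` : the preimage in `W` of `D ≤ M`;
* `R.th n`, `R.ka n` : the automorphisms of `M` and `H` induced by `n ∈ N(W) ∩ N(Z) ∩ N(C)`; `R.up_brs`, `R.up_fxs`.
-/

set_option autoImplicit false
set_option linter.unusedSectionVars false

namespace Cfsg.Agent.Omega.NO3S.OneQ

open Subgroup
open Cfsg.Agent.ZN.Block (conj_mem_of_normalizer conj_mem_of_normalizer' le_normalizer_of_forall
  mem_normalizer_of)
open Cfsg.Agent.Omega.NO3S.Fit (cjW quoHom)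
open Cfsg.Agent.Omega.NO3S.Fit.Abs

universe u

variable {G : Type u} [Group G]

/-- `M = W / Z`, `H = C / C_C(W / Z)` -/
structure WRep (W Z C : Subgroup G) (M H : Type u) [AddCommGroup M] [Group H] [DistribMulAction H M] where
  pi : G → M
  phi : G → H
  pi_mul : ∀ a ∈ W, ∀ b ∈ W, pi (a * b) = pi a + pi b
  pi_surj : ∀ m, ∃ w ∈ W, pi w = m
  pi_ker : ∀ w ∈ W, pi w = 0 ↔ w ∈ Z
  phi_mul : ∀ c ∈ C, ∀ d ∈ C, phi (c * d) = phi c * phi d
  phi_surj : ∀ x, ∃ c ∈ C, phi c = x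
  phi_ker : ∀ c ∈ C, phi c = 1 ↔ ∀ w ∈ W, c * w * c⁻¹ * w⁻¹ ∈ Z
  act : ∀ c ∈ C, ∀ w ∈ W, phi c • pi w = pi (c * w * c⁻¹)

theorem exists_wrep [Finite G] {W Z C : Subgroup G} (hab : ∀ a ∈ W, ∀ b ∈ W, a * b = b * a)
    (hW : C ≤ normalizer (W : Set G)) (hX : C ≤ normalizer (Z : Set G)) :
    ∃ (M H : Type u) (_ : AddCommGroup M) (_ : Finite M) (_ : Group H)
    (_ : Finite H) (_ : DistribMulAction H M) (_ : FaithfulSMul H M), Nonempty (WRep W Z C M H) := by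
  classical
  have hn : (Z.subgroupOf W).Normal := by
    refine ⟨fun x hx w => ?_⟩
    have h1 : w * x * w⁻¹ = x := by
      apply Subtype.ext
      change (w : G) * x * (w : G)⁻¹ = x
      rw [hab _ w.2 _ x.2, mul_inv_cancel_right]
    rw [h1]; exact hx
  let Q := W ⧸ Z.subgroupOf W
  let M := Additive Q
  have hcomm : ∀ a b : Q, a * b = b * a := by
    intro a b
    induction a using QuotientGroup.induction_on with
    | H a =>
      induction b using QuotientGroup.induction_on with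
      | H b =>
        change (QuotientGroup.mk (a * b) : Q) = QuotientGroup.mk (b * a)
        congr 1
        ext
        exact hab a a.2 b b.2
  let iQ : CommGroup Q := { (inferInstance : Group Q) with mul_comm := hcomm }
  let iM : AddCommGroup M := Additive.addCommGroup
  obtain ⟨Φ, hΦ⟩ : ∃ Φ : C →* MulAut Q, ∀ (c : C) (w : W), Φ c (QuotientGroup.mk w : Q) =
      QuotientGroup.mk (⟨c * w * (c : G)⁻¹, conj_mem_of_normalizer hW c.2 w.2⟩ : W) :=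
    ⟨quoHom W Z C hW hX, fun c w => rfl⟩
  obtain ⟨H, hH⟩ : ∃ H : Subgroup (MulAut Q), H = Φ.range := ⟨_, rfl⟩
  have hfin : Finite M := inferInstanceAs (Finite (W ⧸ Z.subgroupOf W))
  have hfinA : Finite (MulAut Q) := Finite.of_injective (fun f : MulAut Q => (f : Q → Q)) DFunLike.coe_injective
  let iA : DistribMulAction H M :=
    { smul := fun x m => Additive.ofMul ((x : MulAut Q) m.toMul)
      one_smul := fun m => rfl
      mul_smul := fun x y m => rfl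
      smul_zero := fun x => congrArg Additive.ofMul (map_one (x : MulAut Q))
      smul_add := fun x m n => congrArg Additive.ofMul (map_mul (x : MulAut Q) m.toMul n.toMul) }
  have hmemH : ∀ c, Φ c ∈ H := fun c => by rw [hH]; exact MonoidHom.mem_range.mpr ⟨c, rfl⟩
  let piF : G → M := fun g => if hg : g ∈ W then Additive.ofMul (QuotientGroup.mk ⟨g, hg⟩) else 0
  let phiF : G → H := fun g => if hg : g ∈ C then ⟨Φ ⟨g, hg⟩, hmemH _⟩ else 1
  have piE : ∀ g (hg : g ∈ W), piF g = Additive.ofMul (QuotientGroup.mk ⟨g, hg⟩) := fun g hg => dif_pos hg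
  have phiE : ∀ g (hg : g ∈ C), phiF g = ⟨Φ ⟨g, hg⟩, hmemH _⟩ := fun g hg => dif_pos hg
  have key : ∀ c (hc : c ∈ C) w (hw : w ∈ W), Φ ⟨c, hc⟩ (QuotientGroup.mk ⟨w, hw⟩ : Q) =
      QuotientGroup.mk ⟨w, hw⟩ ↔ c * w * c⁻¹ * w⁻¹ ∈ Z := by
    intro c hc w hw
    rw [hΦ, eq_comm, QuotientGroup.eq, mem_subgroupOf]
    change w⁻¹ * (c * w * c⁻¹) ∈ Z ↔ _
    have hcw : c * w * c⁻¹ ∈ W := conj_mem_of_normalizer hW hc hw
    rw [hab w⁻¹ (inv_mem hw) _ hcw]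
  refine ⟨M, H, iM, hfin, inferInstance, inferInstance, iA, ?_, ⟨?_⟩⟩
  · refine ⟨fun {a b} hab => Subtype.ext ?_⟩
    ext m
    exact congrArg Additive.toMul (hab (Additive.ofMul m))
  · refine ⟨piF, phiF, ?_, ?_, ?_, ?_, ?_, ?_, ?_⟩
    · intro a ha b hb
      rw [piE a ha, piE b hb, piE _ (mul_mem ha hb)]
      rfl
    · intro m
      obtain ⟨w, hw⟩ := QuotientGroup.mk_surjective m.toMul
      refine ⟨w, w.2, ?_⟩
      rw [piE w w.2]
      exact congrArg Additive.ofMul hw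
    · intro w hw
      rw [piE w hw]
      change (QuotientGroup.mk (⟨w, hw⟩ : W) : Q) = 1 ↔ _
      rw [QuotientGroup.eq_one_iff, mem_subgroupOf]
    · intro c hc d hd
      rw [phiE c hc, phiE d hd, phiE _ (mul_mem hc hd)]
      apply Subtype.ext
      rw [Subgroup.coe_mul, ← map_mul]
      rfl
    · rintro ⟨x, hx⟩
      obtain ⟨c, rfl⟩ := MonoidHom.mem_range.mp (hH ▸ hx)
      exact ⟨c, c.2, phiE c c.2⟩
    · intro c hc
      rw [phiE c hc]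
      constructor
      · intro e
        have e' : Φ ⟨c, hc⟩ = 1 := congrArg Subtype.val e
        intro w hw
        refine (key c hc w hw).mp ?_
        rw [e']; rfl
      · intro hq
        apply Subtype.ext
        change Φ ⟨c, hc⟩ = 1
        ext m
        obtain ⟨w, hw⟩ := QuotientGroup.mk_surjective m
        have hm : m = QuotientGroup.mk ⟨(w : G), w.2⟩ := hw.symm
        rw [hm]
        exact (key c hc w w.2).mpr (hq w w.2)
    · intro c hc w hw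
      rw [phiE c hc, piE w hw, piE _ (conj_mem_of_normalizer hW hc hw)]
      exact congrArg Additive.ofMul (hΦ ⟨c, hc⟩ ⟨w, hw⟩)

/-- the standing hypotheses on `W`, `Z`, `C` -/
structure WRep.Ok (W Z C : Subgroup G) : Prop where
  ab : ∀ a ∈ W, ∀ b ∈ W, a * b = b * a
  ZW : Z ≤ W
  CW : C ≤ normalizer (W : Set G)

namespace WRep

variable {W Z C : Subgroup G} {M H : Type u} [AddCommGroup M] [Group H] [DistribMulAction H M]

theorem pi_one (R : WRep W Z C M H) : R.pi 1 = 0 := (R.pi_ker 1 (one_mem _)).mpr (one_mem _)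

theorem phi_one (R : WRep W Z C M H) : R.phi 1 = 1 :=
  (R.phi_ker 1 (one_mem _)).mpr fun w _ => by simp

theorem pi_inv (R : WRep W Z C M H) {w : G} (hw : w ∈ W) : R.pi w⁻¹ = - R.pi w := by
  have := R.pi_mul w hw w⁻¹ (inv_mem hw)
  rw [mul_inv_cancel, R.pi_one] at this
  exact (neg_eq_of_add_eq_zero_right this.symm).symm

theorem phi_inv (R : WRep W Z C M H) {c : G} (hc : c ∈ C) : R.phi c⁻¹ = (R.phi c)⁻¹ := by
  have := R.phi_mul c hc c⁻¹ (inv_mem hc)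
  rw [mul_inv_cancel, R.phi_one] at this
  exact (inv_eq_of_mul_eq_one_right this.symm).symm

theorem pi_eq (R : WRep W Z C M H) {a b : G} (ha : a ∈ W) (hb : b ∈ W) : R.pi a = R.pi b ↔ a * b⁻¹ ∈ Z := by
  rw [← R.pi_ker _ (mul_mem ha (inv_mem hb)), R.pi_mul a ha _ (inv_mem hb), R.pi_inv hb, ← sub_eq_add_neg,
    sub_eq_zero]

theorem phi_eq (R : WRep W Z C M H) {c d : G} (hc : c ∈ C) (hd : d ∈ C) :
    R.phi c = R.phi d ↔ R.phi (c * d⁻¹) = 1 := by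
  rw [R.phi_mul c hc _ (inv_mem hd), R.phi_inv hd, mul_inv_eq_one]

/-- `[w, c]` -/
theorem pi_comm (R : WRep W Z C M H) (ok : WRep.Ok W Z C) {c w : G} (hc : c ∈ C) (hw : w ∈ W) :
    R.pi (c * w * c⁻¹ * w⁻¹) = R.phi c • R.pi w - R.pi w := by
  rw [R.pi_mul _ (conj_mem_of_normalizer ok.CW hc hw) _ (inv_mem hw), R.pi_inv hw, R.act c hc w hw, sub_eq_add_neg]

/-- `phi` as a homomorphism -/
def hom (R : WRep W Z C M H) : C →* H where
  toFun c := R.phi c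
  map_one' := R.phi_one
  map_mul' c d := R.phi_mul c c.2 d d.2

theorem hom_surj (R : WRep W Z C M H) : Function.Surjective R.hom := by
  intro x
  obtain ⟨c, hc, rfl⟩ := R.phi_surj x
  exact ⟨⟨c, hc⟩, rfl⟩

/-- the image of `K ≤ C` in `H` -/
def img (R : WRep W Z C M H) (K : Subgroup G) : Subgroup H := (K.subgroupOf C).map R.hom

theorem mem_img (R : WRep W Z C M H) {K : Subgroup G} (hK : K ≤ C) {x : H} :
    x ∈ R.img K ↔ ∃ k ∈ K, R.phi k = x := by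
  constructor
  · rintro ⟨k, hk, rfl⟩
    exact ⟨k, mem_subgroupOf.mp hk, rfl⟩
  · rintro ⟨k, hk, rfl⟩
    exact ⟨⟨k, hK hk⟩, mem_subgroupOf.mpr hk, rfl⟩

/-- the preimage of `K ≤ H` in `C` -/
def pre (R : WRep W Z C M H) (K : Subgroup H) : Subgroup G := (K.comap R.hom).map C.subtype

theorem mem_pre (R : WRep W Z C M H) {K : Subgroup H} {c : G} : c ∈ R.pre K ↔ c ∈ C ∧ R.phi c ∈ K := by
  constructor
  · rintro ⟨c, hc, rfl⟩
    exact ⟨c.2, hc⟩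
  · rintro ⟨hc, hc'⟩
    exact ⟨⟨c, hc⟩, hc', rfl⟩

theorem pre_le (R : WRep W Z C M H) (K : Subgroup H) : R.pre K ≤ C := fun _ hc => (R.mem_pre.mp hc).1

/-- the preimage of `D ≤ M` in `W` -/
def up (R : WRep W Z C M H) (D : AddSubgroup M) : Subgroup G where
  carrier := {w | w ∈ W ∧ R.pi w ∈ D}
  mul_mem' := by
    rintro a b ⟨ha, ha1⟩ ⟨hb, hb1⟩
    refine ⟨mul_mem ha hb, ?_⟩
    rw [R.pi_mul a ha b hb]
    exact add_mem ha1 hb1
  one_mem' := ⟨one_mem _, by rw [R.pi_one]; exact zero_mem _⟩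
  inv_mem' := by
    rintro a ⟨ha, ha1⟩
    refine ⟨inv_mem ha, ?_⟩
    rw [R.pi_inv ha]
    exact neg_mem ha1

theorem up_le (R : WRep W Z C M H) (D : AddSubgroup M) : R.up D ≤ W := fun _ hw => hw.1

theorem le_up (R : WRep W Z C M H) (hZW : Z ≤ W) (D : AddSubgroup M) : Z ≤ R.up D := fun w hw =>
  ⟨hZW hw, by rw [(R.pi_ker w (hZW hw)).mpr hw]; exact zero_mem _⟩

theorem up_inf (R : WRep W Z C M H) (hZW : Z ≤ W) {D1 D2 : AddSubgroup M} (h : ∀ m, m ∈ D1 → m ∈ D2 → m = 0) :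
    R.up D1 ⊓ R.up D2 = Z := by
  apply le_antisymm
  · rintro w ⟨⟨hw, h1⟩, -, h2⟩
    exact (R.pi_ker w hw).mp (h _ h1 h2)
  · exact le_inf (R.le_up hZW D1) (R.le_up hZW D2)

theorem up_sup (R : WRep W Z C M H) (hZW : Z ≤ W) {D1 D2 : AddSubgroup M}
    (h : ∀ m : M, ∃ a ∈ D1, ∃ b ∈ D2, a + b = m) : R.up D1 ⊔ R.up D2 = W := by
  apply le_antisymm
  · exact sup_le (R.up_le D1) (R.up_le D2)
  · intro w hw
    obtain ⟨a, ha, b, hb, e⟩ := h (R.pi w)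
    obtain ⟨u, hu, rfl⟩ := R.pi_surj a
    obtain ⟨v, hv, rfl⟩ := R.pi_surj b
    rw [← R.pi_mul u hu v hv, R.pi_eq (mul_mem hu hv) hw] at e
    have e1 : w = (u * v * w⁻¹)⁻¹ * (u * v) := by group
    rw [e1]
    refine mul_mem (inv_mem ((le_sup_left : R.up D1 ≤ _) (R.le_up hZW D1 e))) (mul_mem ?_ ?_)
    · exact (le_sup_left : R.up D1 ≤ _) ⟨hu, ha⟩
    · exact (le_sup_right : R.up D2 ≤ R.up D1 ⊔ _) ⟨hv, hb⟩

/-- the image of `K` (`K ≤ W`) in `M` -/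
def dn (R : WRep W Z C M H) (K : Subgroup G) : AddSubgroup M where
  carrier := {m | ∃ k ∈ K, k ∈ W ∧ R.pi k = m}
  add_mem' := by
    rintro _ _ ⟨v, hv, hv', rfl⟩ ⟨w, hw, hw', rfl⟩
    exact ⟨v * w, mul_mem hv hw, mul_mem hv' hw', R.pi_mul v hv' w hw'⟩
  zero_mem' := ⟨1, one_mem _, one_mem _, R.pi_one⟩
  neg_mem' := by
    rintro _ ⟨v, hv, hv', rfl⟩
    exact ⟨v⁻¹, inv_mem hv, inv_mem hv', R.pi_inv hv'⟩

theorem mem_dn (R : WRep W Z C M H) {K : Subgroup G} (hK : K ≤ W) {m : M} : m ∈ R.dn K ↔ ∃ k ∈ K, R.pi k = m :=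
  ⟨fun ⟨k, hk, _, e⟩ => ⟨k, hk, e⟩, fun ⟨k, hk, e⟩ => ⟨k, hk, hK hk, e⟩⟩

theorem pi_mem_dn (R : WRep W Z C M H) {K : Subgroup G} (hZK : Z ≤ K) (hK : K ≤ W) {w : G} (hw : w ∈ W) :
    R.pi w ∈ R.dn K ↔ w ∈ K := by
  rw [R.mem_dn hK]
  constructor
  · rintro ⟨v, hv, e⟩
    rw [R.pi_eq (hK hv) hw] at e
    have e1 : w = (v * w⁻¹)⁻¹ * v := by group
    rw [e1]
    exact mul_mem (inv_mem (hZK e)) hv
  · exact fun h => ⟨w, h, rfl⟩

/-- `|M : K̄| = |W : K|`, `Z ≤ K ≤ W` -/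
theorem index_dn (R : WRep W Z C M H) {K : Subgroup G} (hZK : Z ≤ K) (hK : K ≤ W) :
    (R.dn K).index = K.relIndex W := by
  let f : W →* Multiplicative M :=
    { toFun := fun w => Multiplicative.ofAdd (R.pi w)
      map_one' := by
        change Multiplicative.ofAdd (R.pi 1) = 1
        rw [R.pi_one]; rfl
      map_mul' := fun a b => by
        change Multiplicative.ofAdd (R.pi (a * b)) = _
        rw [R.pi_mul a a.2 b b.2]; rfl }
  have hf : Function.Surjective f := by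
    intro m
    obtain ⟨w, hw, e⟩ := R.pi_surj m.toAdd
    exact ⟨⟨w, hw⟩, congrArg Multiplicative.ofAdd e⟩
  have h1 : (AddSubgroup.toSubgroup (R.dn K)).comap f = K.subgroupOf W := by
    ext w
    rw [mem_comap, mem_subgroupOf]
    exact R.pi_mem_dn hZK hK w.2
  have h2 := index_comap_of_surjective (AddSubgroup.toSubgroup (R.dn K)) hf
  rw [h1] at h2
  rw [relIndex, h2]
  rfl

/-! ### normalisers -/

variable {n : G}

/-- the automorphism of `M` induced by `n` -/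
theorem exists_th (R : WRep W Z C M H) (hnW : n ∈ normalizer (W : Set G)) (hnZ : n ∈ normalizer (Z : Set G)) :
    ∃ θ : M ≃+ M, ∀ w ∈ W, θ (R.pi w) = R.pi (n * w * n⁻¹) := by
  classical
  choose s hsW hs using R.pi_surj
  have hcj : ∀ {g w : G}, g ∈ normalizer (W : Set G) → w ∈ W → g * w * g⁻¹ ∈ W := fun hg hw =>
    (mem_normalizer_iff.1 hg _).1 hw
  have hcz : ∀ {g w : G}, g ∈ normalizer (Z : Set G) → w ∈ Z → g * w * g⁻¹ ∈ Z := fun hg hw =>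
    (mem_normalizer_iff.1 hg _).1 hw
  have hwd : ∀ {g : G}, g ∈ normalizer (W : Set G) → g ∈ normalizer (Z : Set G) → ∀ {a b : G}, a ∈ W → b ∈ W →
      R.pi a = R.pi b → R.pi (g * a * g⁻¹) = R.pi (g * b * g⁻¹) := by
    intro g hg hg' a b ha hb e
    rw [R.pi_eq ha hb] at e
    rw [R.pi_eq (hcj hg ha) (hcj hg hb)]
    have : g * a * g⁻¹ * (g * b * g⁻¹)⁻¹ = g * (a * b⁻¹) * g⁻¹ := by group
    rw [this]
    exact hcz hg' e
  have hval : ∀ {g : G}, g ∈ normalizer (W : Set G) → g ∈ normalizer (Z : Set G) → ∀ {w : G}, w ∈ W →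
      R.pi (g * s (R.pi w) * g⁻¹) = R.pi (g * w * g⁻¹) := fun hg hg' w hw =>
    hwd hg hg' (hsW _) hw (hs _)
  have hadd : ∀ {g : G}, g ∈ normalizer (W : Set G) → g ∈ normalizer (Z : Set G) → ∀ m m' : M,
      R.pi (g * s (m + m') * g⁻¹) = R.pi (g * s m * g⁻¹) + R.pi (g * s m' * g⁻¹) := by
    intro g hg hg' m m'
    rw [← R.pi_mul _ (hcj hg (hsW m)) _ (hcj hg (hsW m'))]
    have : g * s m * g⁻¹ * (g * s m' * g⁻¹) = g * (s m * s m') * g⁻¹ := by group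
    rw [this]
    refine hwd hg hg' (hsW _) (mul_mem (hsW m) (hsW m')) ?_
    rw [hs, R.pi_mul _ (hsW m) _ (hsW m'), hs, hs]
  have hnW' := inv_mem hnW
  have hnZ' := inv_mem hnZ
  refine ⟨{ toFun := fun m => R.pi (n * s m * n⁻¹)
            invFun := fun m => R.pi (n⁻¹ * s m * n⁻¹⁻¹)
            left_inv := ?_
            right_inv := ?_
            map_add' := hadd hnW hnZ }, ?_⟩
  · intro m
    change R.pi (n⁻¹ * s (R.pi (n * s m * n⁻¹)) * n⁻¹⁻¹) = m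
    rw [hval hnW' hnZ' (hcj hnW (hsW m))]
    have : n⁻¹ * (n * s m * n⁻¹) * n⁻¹⁻¹ = s m := by group
    rw [this, hs]
  · intro m
    change R.pi (n * s (R.pi (n⁻¹ * s m * n⁻¹⁻¹)) * n⁻¹) = m
    rw [hval hnW hnZ (hcj hnW' (hsW m))]
    have : n * (n⁻¹ * s m * n⁻¹⁻¹) * n⁻¹ = s m := by group
    rw [this, hs]
  · intro w hw
    exact hval hnW hnZ hw

/-- the automorphism of `H` induced by `n` -/
theorem exists_ka (R : WRep W Z C M H) (hnW : n ∈ normalizer (W : Set G)) (hnZ : n ∈ normalizer (Z : Set G))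
    (hnC : n ∈ normalizer (C : Set G)) :
    ∃ κ : H ≃* H, ∀ c ∈ C, κ (R.phi c) = R.phi (n * c * n⁻¹) := by
  classical
  choose s hsC hs using R.phi_surj
  have hcj : ∀ {g c : G}, g ∈ normalizer (C : Set G) → c ∈ C → g * c * g⁻¹ ∈ C := fun hg hw =>
    (mem_normalizer_iff.1 hg _).1 hw
  have hcw : ∀ {g w : G}, g ∈ normalizer (W : Set G) → w ∈ W → g * w * g⁻¹ ∈ W := fun hg hw =>
    (mem_normalizer_iff.1 hg _).1 hw
  have hcz : ∀ {g w : G}, g ∈ normalizer (Z : Set G) → w ∈ Z → g * w * g⁻¹ ∈ Z := fun hg hw =>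
    (mem_normalizer_iff.1 hg _).1 hw
  have hwd : ∀ {g : G}, g ∈ normalizer (C : Set G) → g ∈ normalizer (W : Set G) → g ∈ normalizer (Z : Set G) →
      ∀ {a b : G}, a ∈ C → b ∈ C → R.phi a = R.phi b → R.phi (g * a * g⁻¹) = R.phi (g * b * g⁻¹) := by
    intro g hgC hg hg' a b ha hb e
    rw [R.phi_eq ha hb, R.phi_ker _ (mul_mem ha (inv_mem hb))] at e
    rw [R.phi_eq (hcj hgC ha) (hcj hgC hb), R.phi_ker _ (mul_mem (hcj hgC ha) (inv_mem (hcj hgC hb)))]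
    intro w hw
    have h1 := hcw (inv_mem hg) hw
    have h2 := hcz hg' (e _ h1)
    have e1 : g * (a * b⁻¹ * (g⁻¹ * w * g⁻¹⁻¹) * (a * b⁻¹)⁻¹ * (g⁻¹ * w * g⁻¹⁻¹)⁻¹) * g⁻¹ =
      g * a * g⁻¹ * (g * b * g⁻¹)⁻¹ * w * (g * a * g⁻¹ * (g * b * g⁻¹)⁻¹)⁻¹ * w⁻¹ := by group
    rw [← e1]; exact h2
  have hval : ∀ {g : G}, g ∈ normalizer (C : Set G) → g ∈ normalizer (W : Set G) → g ∈ normalizer (Z : Set G) →
      ∀ {c : G}, c ∈ C → R.phi (g * s (R.phi c) * g⁻¹) = R.phi (g * c * g⁻¹) := fun h1 h2 h3 c hc =>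
    hwd h1 h2 h3 (hsC _) hc (hs _)
  have hnW' := inv_mem hnW
  have hnZ' := inv_mem hnZ
  have hnC' := inv_mem hnC
  refine ⟨{ toFun := fun m => R.phi (n * s m * n⁻¹)
            invFun := fun m => R.phi (n⁻¹ * s m * n⁻¹⁻¹)
            left_inv := ?_
            right_inv := ?_
            map_mul' := ?_ }, ?_⟩
  · intro m
    change R.phi (n⁻¹ * s (R.phi (n * s m * n⁻¹)) * n⁻¹⁻¹) = m
    rw [hval hnC' hnW' hnZ' (hcj hnC (hsC m))]
    have : n⁻¹ * (n * s m * n⁻¹) * n⁻¹⁻¹ = s m := by group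
    rw [this, hs]
  · intro m
    change R.phi (n * s (R.phi (n⁻¹ * s m * n⁻¹⁻¹)) * n⁻¹) = m
    rw [hval hnC hnW hnZ (hcj hnC' (hsC m))]
    have : n * (n⁻¹ * s m * n⁻¹⁻¹) * n⁻¹ = s m := by group
    rw [this, hs]
  · intro m m'
    rw [← R.phi_mul _ (hcj hnC (hsC m)) _ (hcj hnC (hsC m'))]
    have : n * s m * n⁻¹ * (n * s m' * n⁻¹) = n * (s m * s m') * n⁻¹ := by group
    rw [this]
    refine hwd hnC hnW hnZ (hsC _) (mul_mem (hsC m) (hsC m')) ?_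
    rw [hs, R.phi_mul _ (hsC m) _ (hsC m'), hs, hs]
  · intro c hc
    exact hval hnC hnW hnZ hc

/-- compatibility -/
theorem th_smul (R : WRep W Z C M H) (ok : WRep.Ok W Z C) (hnW : n ∈ normalizer (W : Set G))
    (hnC : n ∈ normalizer (C : Set G)) {θ : M ≃+ M} (hθ : ∀ w ∈ W, θ (R.pi w) = R.pi (n * w * n⁻¹)) {κ : H ≃* H}
    (hκ : ∀ c ∈ C, κ (R.phi c) = R.phi (n * c * n⁻¹)) (x : H) (m : M) : θ (x • m) = κ x • θ m := by
  obtain ⟨c, hc, rfl⟩ := R.phi_surj x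
  obtain ⟨w, hw, rfl⟩ := R.pi_surj m
  have hcW : c * w * c⁻¹ ∈ W := conj_mem_of_normalizer ok.CW hc hw
  rw [R.act c hc w hw, hθ _ hcW, hκ c hc, hθ w hw, R.act _ ((mem_normalizer_iff.1 hnC _).1 hc) _
    ((mem_normalizer_iff.1 hnW _).1 hw)]
  congr 1
  group

/-- `[M, P]` is invariant under `n` if `P` is -/
theorem up_brs (R : WRep W Z C M H) (ok : WRep.Ok W Z C) (hnW : n ∈ normalizer (W : Set G))
    (hnZ : n ∈ normalizer (Z : Set G)) (hnC : n ∈ normalizer (C : Set G)) {P : Subgroup H} {κ : H ≃* H}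
    (hκ : ∀ c ∈ C, κ (R.phi c) = R.phi (n * c * n⁻¹)) (hP : ∀ x ∈ P, κ x ∈ P) {w : G} (hw : w ∈ R.up (brs M P)) :
    n * w * n⁻¹ ∈ R.up (brs M P) := by
  obtain ⟨θ, hθ⟩ := R.exists_th hnW hnZ
  refine ⟨(mem_normalizer_iff.1 hnW _).1 hw.1, ?_⟩
  rw [← hθ w hw.1]
  have h1 : brs M P ≤ (brs M P).comap (θ : M →+ M) := by
    refine brs_le fun k hk => ?_
    rintro _ ⟨m, rfl⟩
    rw [AddSubgroup.mem_comap]
    change θ (k • m - m) ∈ brs M P
    rw [map_sub, R.th_smul ok hnW hnC hθ hκ]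
    exact br_le_brs (hP k hk) (sub_mem_br _ _)
  exact h1 hw.2

/-- `C_M(P)` is invariant under `n` if `P` is -/
theorem up_fxs (R : WRep W Z C M H) (ok : WRep.Ok W Z C) (hnW : n ∈ normalizer (W : Set G))
    (hnZ : n ∈ normalizer (Z : Set G)) (hnC : n ∈ normalizer (C : Set G)) {P : Subgroup H} {κ : H ≃* H}
    (hκ : ∀ c ∈ C, κ (R.phi c) = R.phi (n * c * n⁻¹)) (hP : ∀ x ∈ P, κ.symm x ∈ P) {w : G}
    (hw : w ∈ R.up (fxs M P)) : n * w * n⁻¹ ∈ R.up (fxs M P) := by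
  obtain ⟨θ, hθ⟩ := R.exists_th hnW hnZ
  refine ⟨(mem_normalizer_iff.1 hnW _).1 hw.1, ?_⟩
  rw [← hθ w hw.1, mem_fxs]
  intro k hk
  have h1 := mem_fxs.mp hw.2 _ (hP k hk)
  have h2 := R.th_smul ok hnW hnC hθ hκ (κ.symm k) (R.pi w)
  rw [h1, MulEquiv.apply_symm_apply] at h2
  exact h2.symm

end WRep

end Cfsg.Agent.Omega.NO3S.OneQ

end

-- merged: Cfsg.Agent.Mrg.Omega.NO3S.OneQ.FitQ
section

section


/-!
# NO-3S, natural lines, critical distance 1 (`OneQ`): `A` centralises `F(H)` (helper279's (E) of #17428)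

`QRep V Z M H` : `M = W_Z / Z`, `H = C_G(Z) / K_Z`; `A = R.img (ws V Y)`, `Y ≠ Z` a point of `V`.

* `One.exists_rep`; `One.two`, `One.quad`, `One.elab`, `One.img_eq` (`A` does not depend on `Y`), `One.stab_A`,
  `One.card_A`, `One.index_E`;
* `One.o2h` : `O₂(H) = 1`;
* `Dec V Z` (B), `FLin V Z mz` (C) : helper258's inputs; **`One.fit_cen`** : `A` centralises every nilpotent normal subgroup of `H`.
-/

set_option autoImplicit false
set_option linter.unusedSectionVars false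

namespace Cfsg.Agent.Omega.NO3S.OneQ

open Subgroup Cfsg Cfsg.Agent.Omega.NO3S.PT Cfsg.Agent.Omega.NoFF.Basic
open Cfsg.Agent.Omega.NO3S.Fit.Abs
open Cfsg.Agent.Omega.NO3S.OneQ.FitQ
open scoped Pointwise

universe u

variable {G : Type u} [Group G]

/-- `M = W_Z / Z`, `H = C_G(Z) / K_Z` -/
abbrev QRep (V Z : Subgroup G) (M H : Type u) [AddCommGroup M] [Group H] [DistribMulAction H M] :=
  WRep (ws V Z) Z (centralizer (Z : Set G)) M H

/-- **(B)** of #17428: a decomposition of `W_Z / Z` invariant under `N_G(Z) ∩ N_G(V)`: `W_Y` is trivial on one of the parts -/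
def Dec (V Z : Subgroup G) : Prop :=
  ∀ Y, Pnt V Z Y → Y ≠ Z → ∀ A B : Subgroup G, Z ≤ A → A ≤ ws V Z → Z ≤ B → B ≤ ws V Z →
    (∀ n ∈ normalizer (Z : Set G), n ∈ normalizer (V : Set G) → ∀ w ∈ A, n * w * n⁻¹ ∈ A) →
    (∀ n ∈ normalizer (Z : Set G), n ∈ normalizer (V : Set G) → ∀ w ∈ B, n * w * n⁻¹ ∈ B) →
    A ⊔ B = ws V Z → A ⊓ B = Z →
    (∀ w ∈ A, ∀ u ∈ ws V Y, u * w * u⁻¹ * w⁻¹ ∈ Z) ∨ ∀ w ∈ B, ∀ u ∈ ws V Y, u * w * u⁻¹ * w⁻¹ ∈ Z

/-- **(C)** of #17428: the `F`-structure on `W_Z / C_{W_Z}(K_Z)`; `mz c z = c z` on `Z` -/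
structure FLin (V Z : Subgroup G) {F : Type*} (mz : F → G → G) : Prop where
  mem : ∀ c, ∀ a ∈ Z, mz c a ∈ Z
  mul : ∀ c, ∀ a ∈ Z, ∀ b ∈ Z, mz c (a * b) = mz c a * mz c b
  inj : ∀ c c', ∀ z ∈ Z, z ≠ 1 → mz c z = mz c' z → c = c'
  ex : ∀ c, ∀ w ∈ ws V Z, ∃ w' ∈ ws V Z, ∀ k ∈ kx V Z, k * w' * k⁻¹ * w'⁻¹ = mz c (k * w * k⁻¹ * w⁻¹)
  tr : ∀ u ∈ V, u ∉ Z → ∀ v ∈ V, ∃ c, ∀ k ∈ kx V Z, k * v * k⁻¹ * v⁻¹ = mz c (k * u * k⁻¹ * u⁻¹)
  rad : ∀ w ∈ ws V Z, (∀ k ∈ kx V Z, k * w = w * k) → ∀ Y, Pnt V Z Y → ∀ u ∈ ws V Y, u * w * u⁻¹ * w⁻¹ ∈ Z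

namespace One

variable [Finite G] {S : Sylow 2 G} {B P V Z : Subgroup G} (h : One S B P V Z)
include h

theorem C_norm_W : centralizer (Z : Set G) ≤ normalizer ((ws V Z : Subgroup G) : Set G) :=
  (centralizer_le_normalizer _).trans (normalizer_le_ws V Z)

theorem ok : WRep.Ok (ws V Z) Z (centralizer (Z : Set G)) :=
  ⟨fun _ ha _ hb => h.comm_W h.pl.isCj_self ha hb, h.pl.Z_le_ws, h.C_norm_W⟩

theorem exists_rep : ∃ (M H : Type u) (_ : AddCommGroup M) (_ : Finite M) (_ : Group H)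
    (_ : Finite H) (_ : DistribMulAction H M) (_ : FaithfulSMul H M), Nonempty (QRep V Z M H) :=
  exists_wrep h.ok.ab h.ok.CW (centralizer_le_normalizer _)

variable {M H : Type u} [AddCommGroup M] [Group H] [DistribMulAction H M] (R : QRep V Z M H)
variable {Y : Subgroup G} (hY : Pnt V Z Y) (hne : Y ≠ Z)

include R in
theorem two (m : M) : m + m = 0 := by
  obtain ⟨w, hw, rfl⟩ := R.pi_surj m
  rw [← R.pi_mul w hw w hw, h.sq_W h.self hw, R.pi_one]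

theorem phi_ker' {c : G} (hc : c ∈ centralizer (Z : Set G)) : R.phi c = 1 ↔ c ∈ kx V Z := by
  rw [R.phi_ker c hc, mem_kx]
  exact ⟨fun h1 => ⟨fun x hx => (mem_centralizer_iff.1 hc x hx).symm, h1⟩, fun h1 => h1.2⟩

theorem W_le_C (hY : Pnt V Z Y) : ws V Y ≤ centralizer (Z : Set G) :=
  (h.W_le_cent hY).trans (centralizer_le h.pl.ZV)

theorem V_le_W' : V ≤ ws V Z := h.V_le_W h.self

theorem K_le_C : kx V Z ≤ centralizer (Z : Set G) := kx_le_cent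

theorem conj_pnt {c : G} (hc : c ∈ normalizer (Z : Set G)) (hcV : c ∈ normalizer (V : Set G)) (hY : Pnt V Z Y)
    (hne : Y ≠ Z) : Pnt V Z (cj c Y) ∧ cj c Y ≠ Z := by
  refine ⟨hY.conj hcV, fun e => hne ?_⟩
  have : cj c Y = cj c Z := by rw [e, cj_eq_iff.2 hc]
  exact cj_inj.1 this

/-- `A` does not depend on `Y` -/
theorem img_le {Y' : Subgroup G} (hY : Pnt V Z Y) (hne : Y ≠ Z) (hY' : Pnt V Z Y') (hne' : Y' ≠ Z) :
    R.img (ws V Y') ≤ R.img (ws V Y) := by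
  intro x hx
  obtain ⟨w, hw, rfl⟩ := (R.mem_img (h.W_le_C hY')).mp hx
  obtain ⟨k, hk, rfl⟩ := h.move h.self hY hY' hne hne'
  rw [ws_cj, mem_cj] at hw
  rw [R.mem_img (h.W_le_C hY)]
  refine ⟨k⁻¹ * w * k, hw, ?_⟩
  have hkC := h.K_le_C hk
  have hwC := h.W_le_C hY hw
  have e : w = k * (k⁻¹ * w * k) * k⁻¹ := by group
  have hk1 : R.phi k = 1 := (h.phi_ker' R hkC).mpr hk
  have hk2 : R.phi k⁻¹ = 1 := by rw [R.phi_inv hkC, hk1, inv_one]
  conv_rhs => rw [e, R.phi_mul _ (mul_mem hkC hwC) _ (inv_mem hkC), R.phi_mul _ hkC _ hwC, hk1, hk2, one_mul, mul_one]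

theorem img_eq {Y' : Subgroup G} (hY : Pnt V Z Y) (hne : Y ≠ Z) (hY' : Pnt V Z Y') (hne' : Y' ≠ Z) :
    R.img (ws V Y') = R.img (ws V Y) :=
  le_antisymm (h.img_le R hY hne hY' hne') (h.img_le R hY' hne' hY hne)

/-- `A` is quadratic -/
theorem quad (hY : Pnt V Z Y) (hne : Y ≠ Z) : ∀ a ∈ R.img (ws V Y), ∀ b ∈ R.img (ws V Y), ∀ m : M,
    a • (b • m - m) = b • m - m := by
  intro a ha b hb m
  obtain ⟨u, hu, rfl⟩ := (R.mem_img (h.W_le_C hY)).mp ha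
  obtain ⟨v, hv, rfl⟩ := (R.mem_img (h.W_le_C hY)).mp hb
  obtain ⟨w, hw, rfl⟩ := R.pi_surj m
  rw [← R.pi_comm h.ok (h.W_le_C hY hv) hw]
  have h1 : v * w * v⁻¹ * w⁻¹ ∈ IV V Z := h.comm_mem hY h.self hne hv hw
  have h2 := h.I_le_W h.self h1
  rw [R.act u (h.W_le_C hY hu) _ h2]
  congr 1
  rw [← h.I_comm_W hY h1 hu, mul_inv_cancel_right]

/-- `A` is elementary abelian -/
theorem elabA (hY : Pnt V Z Y) : Cfsg.IsElementaryAbelian 2 (R.img (ws V Y)) := by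
  have hm : ∀ a ∈ R.img (ws V Y), ∀ b ∈ R.img (ws V Y), a * b = b * a := by
    intro a ha b hb
    obtain ⟨u, hu, rfl⟩ := (R.mem_img (h.W_le_C hY)).mp ha
    obtain ⟨v, hv, rfl⟩ := (R.mem_img (h.W_le_C hY)).mp hb
    rw [← R.phi_mul u (h.W_le_C hY hu) v (h.W_le_C hY hv), h.comm_W hY.cj hu hv,
      R.phi_mul v (h.W_le_C hY hv) u (h.W_le_C hY hu)]
  refine ⟨⟨⟨fun a b => Subtype.ext (hm a a.2 b b.2)⟩⟩, fun a ha => ?_⟩
  obtain ⟨u, hu, rfl⟩ := (R.mem_img (h.W_le_C hY)).mp ha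
  rw [pow_two, ← R.phi_mul u (h.W_le_C hY hu) u (h.W_le_C hY hu), h.sq_W hY hu, R.phi_one]

/-- `|A| = |W_Y : E_Y|` -/
theorem card_A (hY : Pnt V Z Y) (hne : Y ≠ Z) : Nat.card (R.img (ws V Y)) = (ee V Z Y).relIndex (ws V Y) := by
  have h1 : R.hom.ker = (kx V Z).subgroupOf (centralizer (Z : Set G)) := by
    ext c
    rw [MonoidHom.mem_ker, mem_subgroupOf]
    exact h.phi_ker' R c.2
  have h2 : Nat.card (R.img (ws V Y)) =
      R.hom.ker.relIndex ((ws V Y).subgroupOf (centralizer (Z : Set G))) := by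
    rw [relIndex_ker]; rfl
  rw [h2, h1, relIndex_subgroupOf (h.W_le_C hY), h.ee_eq hY h.self hne.symm, inf_comm, inf_relIndex_right]

theorem mem_lam {m : M} : m ∈ R.dn V ↔ ∃ v ∈ V, R.pi v = m := R.mem_dn h.V_le_W'

theorem mem_eb {m : M} : m ∈ R.dn (ee V Z Z) ↔ ∃ v ∈ ee V Z Z, R.pi v = m := R.mem_dn ee_le

theorem lam_fix (hY : Pnt V Z Y) : ∀ a ∈ R.img (ws V Y), ∀ v ∈ R.dn V, a • v = v := by
  intro a ha m hm
  obtain ⟨v, hv, rfl⟩ := (h.mem_lam R).mp hm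
  obtain ⟨u, hu, rfl⟩ := (R.mem_img (h.W_le_C hY)).mp ha
  rw [R.act u (h.W_le_C hY hu) v (h.V_le_W' hv), h.cent_V (h.W_le_cent hY hu) hv, mul_inv_cancel_right]

theorem eb_act (hY : Pnt V Z Y) (hne : Y ≠ Z) : ∀ a ∈ R.img (ws V Y), ∀ m ∈ R.dn (ee V Z Z), a • m - m ∈ R.dn V := by
  intro a ha m hm
  obtain ⟨v, hv, rfl⟩ := (h.mem_eb R).mp hm
  obtain ⟨u, hu, rfl⟩ := (R.mem_img (h.W_le_C hY)).mp ha
  rw [← R.pi_comm h.ok (h.W_le_C hY hu) (ee_le hv)]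
  exact (h.mem_lam R).mpr ⟨_, hY.le (h.ee_act' hY hne hv hu), rfl⟩

theorem Z_le_ee : Z ≤ ee V Z Z := (h.X_le_dd h.self).trans (h.dd_le_ee h.self)

theorem index_eb_le (hY : Pnt V Z Y) (hne : Y ≠ Z) : (R.dn (ee V Z Z)).index ≤ Nat.card (R.img (ws V Y)) := by
  rw [R.index_dn h.Z_le_ee ee_le, h.card_A R hY hne, h.relIndex_ee h.self hY]

/-- an element of `H` which fixes the line vectors normalises `A` -/
theorem stab_A (hY : Pnt V Z Y) (hne : Y ≠ Z) (x : H) (hx : ∀ v ∈ R.dn V, x • v = v) :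
    ∀ a ∈ R.img (ws V Y), x * a * x⁻¹ ∈ R.img (ws V Y) := by
  intro a ha
  obtain ⟨u, hu, rfl⟩ := (R.mem_img (h.W_le_C hY)).mp ha
  obtain ⟨c, hc, rfl⟩ := R.phi_surj x
  have hcZ : c ∈ normalizer (Z : Set G) := centralizer_le_normalizer _ hc
  have h1 : ∀ v ∈ V, c * v * c⁻¹ ∈ V := by
    intro v hv
    have h2 := hx _ ((h.mem_lam R).mpr ⟨v, hv, rfl⟩)
    have hvW := h.V_le_W' hv
    have hcv : c * v * c⁻¹ ∈ ws V Z := (mem_normalizer_iff.1 (h.C_norm_W hc) _).1 hvW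
    rw [R.act c hc v hvW, R.pi_eq hcv hvW] at h2
    have e : c * v * c⁻¹ = c * v * c⁻¹ * v⁻¹ * v := by group
    rw [e]
    exact mul_mem (h.pl.ZV h2) hv
  have hcV : c ∈ normalizer (V : Set G) := by
    rw [← cj_eq_iff]
    refine eq_of_le_of_card_ge ?_ (by rw [card_cj])
    intro v hv
    rw [mem_cj] at hv
    have := h1 _ hv
    have e : c * (c⁻¹ * v * c) * c⁻¹ = v := by group
    rwa [e] at this
  obtain ⟨h3, h4⟩ := h.conj_pnt hcZ hcV hY hne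
  rw [← h.img_eq R hY hne h3 h4, R.mem_img (h.W_le_C h3)]
  refine ⟨c * u * c⁻¹, ?_, ?_⟩
  · rw [ws_cj]; exact conj_mem_cj hu
  · have huC := h.W_le_C hY hu
    rw [R.phi_mul _ (mul_mem hc huC) _ (inv_mem hc), R.phi_mul c hc u huC, R.phi_inv hc]

/-! ### `O₂(H) = 1` -/

theorem img_S_index : ¬ 2 ∣ (R.img B).index := by
  intro hd
  have h1 : (R.img B).index ∣ (B.subgroupOf (centralizer (Z : Set G))).index := index_map_dvd _ R.hom_surj
  exact h.B_index (hd.trans h1)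

include R in
/-- **`O₂(H) = 1`** -/
theorem o2h [Finite H] [FaithfulSMul H M] : Cfsg.pCore 2 H = ⊥ := by
  classical
  have : Fact (Nat.Prime 2) := ⟨Nat.prime_two⟩
  have hS2 : IsPGroup 2 (R.img B) := by
    have : IsPGroup 2 (B.subgroupOf (centralizer (Z : Set G))) :=
      h.isP_B.comap_of_injective _ (subtype_injective _)
    exact this.map _
  have hle : Cfsg.pCore 2 H ≤ R.img B := by
    have h1 := Cfsg.Agent.Lib.Cores.pCore_le_sylow (hS2.toSylow (h.img_S_index R))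
    exact h1
  have hch : (Cfsg.pCore 2 H).Characteristic := Cfsg.Agent.Lib.Cores.pCore_characteristic 2
  -- `O₂(H)` fixes the line vectors
  have hfix : ∀ x ∈ Cfsg.pCore 2 H, ∀ v ∈ V, x • R.pi v = R.pi v := by
    intro x hx v hv
    obtain ⟨s, hs, rfl⟩ := (R.mem_img h.B_le_C).mp (hle hx)
    have hsC := h.B_le_C hs
    have hvW := h.V_le_W' hv
    rw [R.act s hsC v hvW, R.pi_eq ((mem_normalizer_iff.1 (h.C_norm_W hsC) _).1 hvW) hvW]
    exact h.pl.act s hs v hv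
  rw [eq_bot_iff]
  intro x hx
  rw [mem_bot]
  refine FaithfulSMul.eq_of_smul_eq_smul (α := M) fun m => ?_
  rw [one_smul]
  obtain ⟨w, hw, rfl⟩ := R.pi_surj m
  let B : Subgroup G := R.up (fx M x)
  have hWB : ws V Z ≤ B := by
    refine ws_le fun L hL hZL => ?_
    obtain ⟨g, rfl⟩ := hL
    -- `g p ∈ N(Z)`
    have h1 : Pnt V Z (cj g⁻¹ Z) := ⟨h.pl.isCj_self.cj _, cj_le_iff.2 (by rw [inv_inv]; exact hZL)⟩
    obtain ⟨p, hp, e⟩ := h.pl.exists_pt h1.cj h1.le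
    have hpV : cj p V = V := cj_eq_iff.2 (h.pl.PN hp)
    set n := g * p with hn
    have hnZ : n ∈ normalizer (Z : Set G) := by
      rw [← cj_eq_iff, hn, ← cj_cj, ← e, cj_cj, mul_inv_cancel, cj_one]
    have hnV : cj g V = cj n V := by rw [hn, ← cj_cj, hpV]
    rw [hnV]
    intro v hv
    rw [mem_cj] at hv
    have hnW : n ∈ normalizer ((ws V Z : Subgroup G) : Set G) := normalizer_le_ws V Z hnZ
    have hnC : n ∈ normalizer ((centralizer (Z : Set G) : Subgroup G) : Set G) := by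
      rw [← cj_eq_iff, cj_centralizer, cj_eq_iff.2 hnZ]
    obtain ⟨θ, hθ⟩ := R.exists_th hnW hnZ
    obtain ⟨κ, hκ⟩ := R.exists_ka hnW hnZ hnC
    have hv0 : n⁻¹ * v * n ∈ ws V Z := h.V_le_W' hv
    have e1 : v = n * (n⁻¹ * v * n) * n⁻¹ := by group
    have hvW : v ∈ ws V Z := by
      rw [e1]; exact (mem_normalizer_iff.1 hnW _).1 hv0
    refine ⟨hvW, ?_⟩
    rw [mem_fx, e1, ← hθ _ hv0]
    have h2 := R.th_smul h.ok hnW hnC hθ hκ (κ.symm x) (R.pi (n⁻¹ * v * n))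
    rw [MulEquiv.apply_symm_apply] at h2
    rw [← h2, hfix _ ?_ _ hv]
    have h3 := characteristic_iff_le_comap.1 hch κ.symm hx
    exact h3
  exact (hWB hw).2

/-! ### the `F`-structure -/

theorem comm_mul {k a b : G} (hk : k ∈ kx V Z) (ha : a ∈ ws V Z) (hb : b ∈ ws V Z) :
    k * (a * b) * k⁻¹ * (a * b)⁻¹ = (k * a * k⁻¹ * a⁻¹) * (k * b * k⁻¹ * b⁻¹) := by
  have h1 : k * b * k⁻¹ * b⁻¹ ∈ Z := (mem_kx.1 hk).2 b hb
  have h2 := h.comm_W h.pl.isCj_self ha (h.pl.Z_le_ws h1)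
  calc k * (a * b) * k⁻¹ * (a * b)⁻¹ = (k * a * k⁻¹) * ((k * b * k⁻¹ * b⁻¹) * a⁻¹) := by group
    _ = (k * a * k⁻¹) * (a⁻¹ * (k * b * k⁻¹ * b⁻¹)) := by
        rw [(show Commute a (k * b * k⁻¹ * b⁻¹) from h2).inv_left.eq]
    _ = _ := by group

theorem comm_inv {k b : G} (hk : k ∈ kx V Z) (hb : b ∈ ws V Z) :
    k * b⁻¹ * k⁻¹ * b⁻¹⁻¹ = (k * b * k⁻¹ * b⁻¹)⁻¹ := by
  have h1 := h.comm_mul hk hb (inv_mem hb)
  rw [eq_comm, inv_eq_iff_mul_eq_one, ← h1]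
  group

theorem comm_Z {k z : G} (hk : k ∈ kx V Z) (hz : z ∈ Z) : k * z * k⁻¹ * z⁻¹ = 1 := by
  rw [(mem_kx.1 hk).1 z hz]; group

theorem comm_eq {k a b : G} (hk : k ∈ kx V Z) (ha : a ∈ ws V Z) (hb : b ∈ ws V Z) (hab : a * b⁻¹ ∈ Z) :
    k * a * k⁻¹ * a⁻¹ = k * b * k⁻¹ * b⁻¹ := by
  have h1 := h.comm_Z hk hab
  rw [h.comm_mul hk ha (inv_mem hb), h.comm_inv hk hb, mul_inv_eq_one] at h1
  exact h1

omit h in
theorem rad_le : ws V Z ⊓ centralizer ((kx V Z : Subgroup G) : Set G) ≤ ws V Z := inf_le_left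

theorem linRel {F : Type*} {mz : F → G → G} (L : FLin V Z mz) (hY : Pnt V Z Y) :
    LinRel H (R.img (ws V Y)) (R.dn (ws V Z ⊓ centralizer ((kx V Z : Subgroup G) : Set G)))
      (fun (c : F) (m m' : M) => ∃ w ∈ ws V Z, ∃ w' ∈ ws V Z, R.pi w = m ∧ R.pi w' = m' ∧
        ∀ k ∈ kx V Z, k * w' * k⁻¹ * w'⁻¹ = mz c (k * w * k⁻¹ * w⁻¹)) where
  inv := by
    intro x m hm
    obtain ⟨w, hw, rfl⟩ := (R.mem_dn rad_le).mp hm
    obtain ⟨c, hc, rfl⟩ := R.phi_surj x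
    have hcw := (mem_normalizer_iff.1 (h.C_norm_W hc) _).1 hw.1
    rw [R.act c hc w hw.1]
    refine (R.mem_dn rad_le).mpr ⟨_, ⟨hcw, ?_⟩, rfl⟩
    refine mem_centralizer_iff.2 fun k hk => ?_
    have hk' : c⁻¹ * k * c ∈ kx V Z := by
      have := (mem_normalizer_iff.1 (normalizer_le_kx V Z (centralizer_le_normalizer _ (inv_mem hc))) k).1 hk
      simpa using this
    have h1 := mem_centralizer_iff.1 hw.2 _ hk'
    calc k * (c * w * c⁻¹) = c * (c⁻¹ * k * c * w) * c⁻¹ := by group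
      _ = c * w * c⁻¹ * k := by rw [h1]; group
  cen := by
    intro a ha m hm
    obtain ⟨u, hu, rfl⟩ := (R.mem_img (h.W_le_C hY)).mp ha
    obtain ⟨w, hw, rfl⟩ := (R.mem_dn rad_le).mp hm
    have h1 := L.rad w hw.1 (fun k hk => (mem_centralizer_iff.1 hw.2 k hk)) Y hY u hu
    rw [← sub_eq_zero, ← R.pi_comm h.ok (h.W_le_C hY hu) hw.1]
    exact (R.pi_ker _ (h.pl.Z_le_ws h1)).mpr h1
  ex := by
    intro c m
    obtain ⟨w, hw, rfl⟩ := R.pi_surj m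
    obtain ⟨w', hw', e⟩ := L.ex c w hw
    exact ⟨R.pi w', w, hw, w', hw', rfl, rfl, e⟩
  smul := by
    rintro c _ _ x ⟨w, hw, w', hw', rfl, rfl, e⟩
    obtain ⟨g, hg, rfl⟩ := R.phi_surj x
    have hN := h.C_norm_W hg
    refine ⟨g * w * g⁻¹, (mem_normalizer_iff.1 hN _).1 hw, g * w' * g⁻¹, (mem_normalizer_iff.1 hN _).1 hw',
      (R.act g hg w hw).symm, (R.act g hg w' hw').symm, ?_⟩
    intro k hk
    have hk' : g⁻¹ * k * g ∈ kx V Z := by
      have := (mem_normalizer_iff.1 (normalizer_le_kx V Z (centralizer_le_normalizer _ (inv_mem hg))) k).1 hk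
      simpa using this
    have key : ∀ v ∈ ws V Z, k * (g * v * g⁻¹) * k⁻¹ * (g * v * g⁻¹)⁻¹ =
        (g⁻¹ * k * g) * v * (g⁻¹ * k * g)⁻¹ * v⁻¹ := by
      intro v hv
      have h1 := (mem_kx.1 hk').2 v hv
      have h2 := mem_centralizer_iff.1 hg _ h1
      calc k * (g * v * g⁻¹) * k⁻¹ * (g * v * g⁻¹)⁻¹ =
          g * ((g⁻¹ * k * g) * v * (g⁻¹ * k * g)⁻¹ * v⁻¹) * g⁻¹ := by group
        _ = _ := by rw [← h2, mul_inv_cancel_right]
    rw [key w' hw', key w hw]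
    exact e _ hk'
  sub := by
    rintro c _ _ _ _ ⟨w, hw, w', hw', rfl, rfl, e⟩ ⟨v, hv, v', hv', rfl, rfl, e'⟩
    refine ⟨w * v⁻¹, mul_mem hw (inv_mem hv), w' * v'⁻¹, mul_mem hw' (inv_mem hv'), ?_, ?_, ?_⟩
    · rw [R.pi_mul _ hw _ (inv_mem hv), R.pi_inv hv, sub_eq_add_neg]
    · rw [R.pi_mul _ hw' _ (inv_mem hv'), R.pi_inv hv', sub_eq_add_neg]
    · intro k hk
      have hz := (mem_kx.1 hk).2 w hw
      have hz' := (mem_kx.1 hk).2 v hv
      have h1 : mz c (1 : G) = 1 := by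
        have := L.mul c 1 (one_mem _) 1 (one_mem _)
        rw [mul_one] at this
        exact (mul_eq_left.mp this.symm)
      have h2 : mz c (k * v * k⁻¹ * v⁻¹)⁻¹ = (mz c (k * v * k⁻¹ * v⁻¹))⁻¹ := by
        have := L.mul c _ hz' _ (inv_mem hz')
        rw [mul_inv_cancel, h1] at this
        exact (inv_eq_of_mul_eq_one_right this.symm).symm
      rw [h.comm_mul hk hw' (inv_mem hv'), h.comm_inv hk hv', e k hk, e' k hk, h.comm_mul hk hw (inv_mem hv),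
        h.comm_inv hk hv, L.mul c _ hz _ (inv_mem hz'), h2]
  zero := by
    rintro c _ ⟨w, hw, w', hw', e0, rfl, e⟩
    have hwZ := (R.pi_ker w hw).mp e0
    have h1 : mz c (1 : G) = 1 := by
      have := L.mul c 1 (one_mem _) 1 (one_mem _)
      rw [mul_one] at this
      exact (mul_eq_left.mp this.symm)
    refine (R.mem_dn rad_le).mpr ⟨w', ⟨hw', ?_⟩, rfl⟩
    refine mem_centralizer_iff.2 fun k hk => ?_
    have h2 := e k hk
    rw [h.comm_Z hk hwZ, h1, mul_inv_eq_one, mul_inv_eq_iff_eq_mul] at h2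
    exact h2
  inj := by
    rintro c c' _ _ ⟨w, hw, w', hw', rfl, rfl, e⟩ ⟨v, hv, v', hv', e1, e2, e'⟩ hne
    refine (R.mem_dn rad_le).mpr ⟨w, ⟨hw, ?_⟩, rfl⟩
    refine mem_centralizer_iff.2 fun k hk => ?_
    rw [R.pi_eq hv hw] at e1
    rw [R.pi_eq hv' hw'] at e2
    have h1 := h.comm_eq hk hv hw e1
    have h2 := h.comm_eq hk hv' hw' e2
    have h3 : mz c (k * w * k⁻¹ * w⁻¹) = mz c' (k * w * k⁻¹ * w⁻¹) := by
      rw [← e k hk, ← h2, e' k hk, h1]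
    by_contra hcon
    apply hne
    refine L.inj c c' _ ((mem_kx.1 hk).2 w hw) ?_ h3
    intro h4
    apply hcon
    rw [mul_inv_eq_one, mul_inv_eq_iff_eq_mul] at h4
    exact h4

/-! ### `|A| > 2` -/

omit h in
/-- two elements of `W` outside `E`, `|W : E| ≤ 2`, differ by an element of `E` -/
theorem mem_of_relIndex {E W : Subgroup G} (hi : E.relIndex W ≤ 2) {a b : G} (ha : a ∈ W) (hb : b ∈ W)
    (ha' : a ∉ E) (hb' : b ∉ E) : a⁻¹ * b ∈ E := by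
  have hi2 : E.relIndex W = 2 := by
    have h1 : E.relIndex W ≠ 0 := Subgroup.FiniteIndex.index_ne_zero
    have h2 : E.relIndex W ≠ 1 := by
      rw [Ne, relIndex_eq_one]
      exact fun e => ha' (e ha)
    omega
  have h1 := mul_mem_iff_of_index_two (H := E.subgroupOf W) hi2 (a := (⟨a, ha⟩ : W)⁻¹) (b := ⟨b, hb⟩)
  simp only [inv_mem_iff, mem_subgroupOf, coe_mul, coe_inv] at h1
  exact h1.mpr (iff_of_false ha' hb')

omit h in
/-- `|Z⟨r⟩| ≤ 2 |Z|` -/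
theorem exists_ext {Z : Subgroup G} {r : G} (hr : r * r = 1) (hc : ∀ z ∈ Z, z * r = r * z) :
    ∃ B : Subgroup G, Z ≤ B ∧ r ∈ B ∧ Nat.card B ≤ Nat.card Z * 2 := by
  classical
  let B : Subgroup G :=
    { carrier := {x | x ∈ Z ∨ x * r ∈ Z}
      one_mem' := Or.inl (one_mem _)
      mul_mem' := by
        rintro x y (hx | hx) (hy | hy)
        · exact Or.inl (mul_mem hx hy)
        · refine Or.inr ?_
          rw [mul_assoc]; exact mul_mem hx hy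
        · refine Or.inr ?_
          rw [mul_assoc, hc y hy, ← mul_assoc]; exact mul_mem hx hy
        · refine Or.inl ?_
          have h1 : r * (y * r) = y * r * r := (hc _ hy).symm
          have h2 : x * y = x * r * (y * r) := by
            calc x * y = x * (y * (r * r)) := by rw [hr, mul_one]
              _ = x * (y * r * r) := by group
              _ = x * (r * (y * r)) := by rw [h1]
              _ = _ := by group
          rw [h2]; exact mul_mem hx hy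
      inv_mem' := by
        rintro x (hx | hx)
        · exact Or.inl (inv_mem hx)
        · refine Or.inr ?_
          have h1 := inv_mem hx
          have h2 := hc _ h1
          have h3 : x⁻¹ * r = (x * r)⁻¹ := by
            have hr' : r⁻¹ = r := inv_eq_of_mul_eq_one_left hr
            rw [mul_inv_rev, hr'] at h2 ⊢
            calc x⁻¹ * r = r * (r * x⁻¹ * r) := by
                  rw [← mul_assoc, ← mul_assoc, hr, one_mul]
              _ = r * (r * (r * x⁻¹)) := by rw [h2]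
              _ = (r * r) * (r * x⁻¹) := by group
              _ = _ := by rw [hr, one_mul]
          rw [h3]; exact h1 }
  refine ⟨B, fun z hz => Or.inl hz, Or.inr (by rw [hr]; exact one_mem _), ?_⟩
  have h1 : Nat.card B ≤ Nat.card (Z × Bool) := by
    refine Nat.card_le_card_of_injective
      (fun x : B => if hx : (x : G) ∈ Z then ((⟨x, hx⟩ : Z), false)
        else ((⟨x * r, x.2.resolve_left hx⟩ : Z), true)) ?_
    intro x y hxy
    simp only at hxy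
    by_cases hx : (x : G) ∈ Z <;> by_cases hy : (y : G) ∈ Z
    · rw [dif_pos hx, dif_pos hy] at hxy
      exact Subtype.ext (congrArg (fun t => (t.1 : G)) hxy)
    · rw [dif_pos hx, dif_neg hy] at hxy
      exact absurd (congrArg Prod.snd hxy) Bool.false_ne_true
    · rw [dif_neg hx, dif_pos hy] at hxy
      exact absurd (congrArg Prod.snd hxy).symm Bool.false_ne_true
    · rw [dif_neg hx, dif_neg hy] at hxy
      exact Subtype.ext (mul_right_cancel (congrArg (fun t => (t.1 : G)) hxy))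
  rw [Nat.card_prod, Nat.card_eq_fintype_card (α := Bool), Fintype.card_bool] at h1
  exact h1

/-- `|A| ≤ 2` implies that `E_Y` centralises `W_Z` -/
theorem cent_EY {F : Type*} {mz : F → G → G} (L : FLin V Z mz) (hF : 4 ≤ Nat.card F)
    (hY : Pnt V Z Y) (hne : Y ≠ Z) (hlt : (ee V Z Z).relIndex (ws V Z) ≤ 2) :
    ∀ e ∈ ee V Z Y, ∀ w ∈ ws V Z, e * w = w * e := by
  classical
  intro e he w hw
  have hek : e ∈ kx V Z := (mem_ee.1 he).2 Z h.self hne.symm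
  by_contra hcon
  have hz1 : e * w * e⁻¹ * w⁻¹ ≠ 1 := by
    rw [Ne, mul_inv_eq_one, mul_inv_eq_iff_eq_mul]; exact hcon
  choose g hgW hg using fun c => L.ex c w hw
  have hval : ∀ c, mz c (e * w * e⁻¹ * w⁻¹) = 1 ∨ mz c (e * w * e⁻¹ * w⁻¹) = e * w * e⁻¹ * w⁻¹ := by
    intro c
    rw [← hg c e hek]
    have hwE : w ∉ ee V Z Z := fun hwE => hcon (h.ee_comm hY h.self hne he hwE)
    by_cases hgE : g c ∈ ee V Z Z
    · left
      rw [h.ee_comm hY h.self hne he hgE]; group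
    · right
      have h1 := mem_of_relIndex hlt hw (hgW c) hwE hgE
      have h2 : g c = w * (w⁻¹ * g c) := by group
      have h3 : e * (w⁻¹ * g c) * e⁻¹ * (w⁻¹ * g c)⁻¹ = 1 := by
        rw [h.ee_comm hY h.self hne he h1]; group
      rw [h2, h.comm_mul hek hw (mul_mem (inv_mem hw) (hgW c)), h3, mul_one]
  have h1 : Nat.card F ≤ Nat.card ({1, e * w * e⁻¹ * w⁻¹} : Set G) := by
    refine Nat.card_le_card_of_injective
      (fun c => (⟨mz c (e * w * e⁻¹ * w⁻¹), by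
        rcases hval c with h | h
        · rw [h]; exact Set.mem_insert _ _
        · rw [h]; exact Set.mem_insert_of_mem _ rfl⟩ : ({1, e * w * e⁻¹ * w⁻¹} : Set G))) ?_
    intro c c' hc
    exact L.inj c c' _ ((mem_kx.1 hek).2 w hw) hz1 (congrArg Subtype.val hc)
  have h2 : Nat.card ({1, e * w * e⁻¹ * w⁻¹} : Set G) ≤ 2 := by
    rw [Nat.card_coe_set_eq]
    exact Set.ncard_insert_le _ _ |>.trans (by rw [Set.ncard_singleton])
  omega

/-- `|A| > 2` -/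
theorem two_lt_card {F : Type*} {mz : F → G → G} (L : FLin V Z mz) (hF : 4 ≤ Nat.card F)
    (hY : Pnt V Z Y) (hne : Y ≠ Z)
    (hV : ∀ B : Subgroup G, Z ≤ B → (∀ w ∈ ws V Z, ∀ u ∈ ws V Y, u * w * u⁻¹ * w⁻¹ ∈ B) → V ≤ B) :
    2 < Nat.card (R.img (ws V Y)) := by
  classical
  rw [h.card_A R hY hne]
  by_contra hlt
  push Not at hlt
  have hltZ : (ee V Z Z).relIndex (ws V Z) ≤ 2 := by rw [h.relIndex_ee h.self hY]; exact hlt
  have hEY := h.cent_EY L hF hY hne hltZ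
  -- `E_Z` centralises `W_Y`
  have hEZ : ∀ e ∈ ee V Z Z, ∀ u ∈ ws V Y, e * u = u * e := by
    intro e he u hu
    obtain ⟨k, hk, -, hkZ, hkY⟩ := h.pl.swap h.hf h.self.cj h.self.le hY.cj hY.le
    have h1 : k * e * k⁻¹ ∈ ee V Z Y := by
      have h2 := conj_mem_cj (g := k) he
      rwa [cj_ee (h.pl.XV_le_N hk), hkZ] at h2
    have h2 : k * u * k⁻¹ ∈ ws V Z := by
      have h2 := conj_mem_cj (g := k) hu
      rwa [← ws_cj, hkY] at h2
    have h3 := hEY _ h1 _ h2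
    have h4 : k * (e * u) * k⁻¹ = k * (u * e) * k⁻¹ := by
      calc k * (e * u) * k⁻¹ = k * e * k⁻¹ * (k * u * k⁻¹) := by group
        _ = k * u * k⁻¹ * (k * e * k⁻¹) := h3
        _ = _ := by group
    exact mul_left_cancel (mul_right_cancel h4)
  obtain ⟨w, hw, hwE⟩ : ∃ w ∈ ws V Z, w ∉ ee V Z Z := by
    by_contra hcon
    push Not at hcon
    exact h.ee_ne h.self (le_antisymm ee_le hcon)
  obtain ⟨u, hu, huE⟩ : ∃ u ∈ ws V Y, u ∉ ee V Z Y := by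
    by_contra hcon
    push Not at hcon
    exact h.ee_ne hY (le_antisymm ee_le hcon)
  have hrI : u * w * u⁻¹ * w⁻¹ ∈ IV V Z := h.comm_mem hY h.self hne hu hw
  obtain ⟨B, hZB, hrB, hcB⟩ := exists_ext (Z := Z) (h.I_sq hrI)
    (fun z hz => (h.I_comm_W h.self hrI (h.pl.Z_le_ws hz)).symm)
  have hVB : V ≤ B := by
    refine hV _ hZB fun w1 hw1 u1 hu1 => ?_
    by_cases h1 : w1 ∈ ee V Z Z
    · have : u1 * w1 * u1⁻¹ * w1⁻¹ = 1 := by rw [← hEZ _ h1 _ hu1]; group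
      rw [this]; exact one_mem _
    by_cases h2 : u1 ∈ ee V Z Y
    · have : u1 * w1 * u1⁻¹ * w1⁻¹ = 1 := by rw [hEY _ h2 _ hw1]; group
      rw [this]; exact one_mem _
    have h3 := mem_of_relIndex hltZ hw hw1 hwE h1
    have h4 := mem_of_relIndex hlt hu hu1 huE h2
    have key : ∀ f ∈ ee V Z Z, ∀ g ∈ ee V Z Y, u * g * (w * f) * (u * g)⁻¹ * (w * f)⁻¹ = u * w * u⁻¹ * w⁻¹ := by
      intro f hf g hg
      have c1 : g * w = w * g := hEY _ hg _ hw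
      have c2 : g * f = f * g := hEY _ hg _ (ee_le hf)
      have c3 : f * u = u * f := hEZ _ hf _ hu
      calc u * g * (w * f) * (u * g)⁻¹ * (w * f)⁻¹ = u * (g * w) * f * g⁻¹ * u⁻¹ * f⁻¹ * w⁻¹ := by group
        _ = u * w * (g * f) * g⁻¹ * u⁻¹ * f⁻¹ * w⁻¹ := by rw [c1]; group
        _ = u * w * u⁻¹ * (u * f) * u⁻¹ * f⁻¹ * w⁻¹ := by rw [c2]; group
        _ = u * w * u⁻¹ * w⁻¹ := by rw [← c3]; group
    have e1 : w1 = w * (w⁻¹ * w1) := by group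
    have e2 : u1 = u * (u⁻¹ * u1) := by group
    have e3 := key _ h3 _ h4
    rw [← e1, ← e2] at e3
    rw [e3]; exact hrB
  -- the order
  have hZle : 4 ≤ Nat.card Z := by
    obtain ⟨z, hz, hz1⟩ := h.pl.pt_ne_bot h.self.cj
    refine hF.trans (Nat.card_le_card_of_injective (fun c : F => (⟨mz c z, L.mem c z hz⟩ : Z)) ?_)
    intro c c' hc
    exact L.inj c c' z hz hz1 (congrArg Subtype.val hc)
  have h2 := (Nat.le_of_dvd Nat.card_pos (card_dvd_of_le hVB)).trans hcB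
  rw [h.pl.card] at h2
  nlinarith only [hZle, h2]

/-! ### the theorem -/

/-- **(B)** for `[N, A]`, `N` a characteristic subgroup of `H` -/
theorem hB (D : Dec V Z) (hY : Pnt V Z Y) (hne : Y ≠ Z) [Finite H] (two : ∀ m : M, m + m = 0) {N : Subgroup H}
    (hN : N.Characteristic) (hNo : Odd (Nat.card N)) :
    (∀ a ∈ R.img (ws V Y), ∀ m ∈ brs M (cmm N (R.img (ws V Y))), a • m = m) ∨
      ∀ a ∈ R.img (ws V Y), ∀ m ∈ fxs M (cmm N (R.img (ws V Y))), a • m = m := by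
  classical
  set A := R.img (ws V Y) with hA
  have hNn : N.Normal := inferInstance
  have hPN : cmm N A ≤ N := cmm_le fun a _ f hf => hNn.conj_mem f hf a
  have hPo : Odd (Nat.card (cmm N A)) := hNo.of_dvd_nat (card_dvd_of_le hPN)
  -- the automorphisms of `H` induced by `N_G(Z) ∩ N_G(V)` normalise `[N, A]`
  have hκ : ∀ n ∈ normalizer (Z : Set G), n ∈ normalizer (V : Set G) → ∀ κ : H ≃* H,
      (∀ c ∈ centralizer (Z : Set G), κ (R.phi c) = R.phi (n * c * n⁻¹)) → ∀ x ∈ cmm N A, κ x ∈ cmm N A := by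
    intro n hnZ hnV κ hκ x hx
    obtain ⟨h3, h4⟩ := h.conj_pnt hnZ hnV hY hne
    have hκA : ∀ a ∈ A, κ a ∈ A := by
      intro a ha
      obtain ⟨u, hu, rfl⟩ := (R.mem_img (h.W_le_C hY)).mp ha
      rw [hκ u (h.W_le_C hY hu), hA, ← h.img_eq R hY hne h3 h4, R.mem_img (h.W_le_C h3)]
      exact ⟨_, by rw [ws_cj]; exact conj_mem_cj hu, rfl⟩
    have h1 : cmm N A ≤ (cmm N A).comap κ.toMonoidHom := by
      rw [cmm, closure_le]
      rintro _ ⟨f, hf, a, ha, rfl⟩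
      change κ (f * a * f⁻¹ * a⁻¹) ∈ cmm N A
      rw [map_mul, map_mul, map_mul, map_inv, map_inv]
      exact subset_closure ⟨κ f, characteristic_iff_le_comap.1 hN κ hf, κ a, hκA a ha, rfl⟩
    exact h1 hx
  have hinv : ∀ n ∈ normalizer (Z : Set G), n ∈ normalizer (V : Set G) →
      n ∈ normalizer ((ws V Z : Subgroup G) : Set G) ∧
      n ∈ normalizer ((centralizer (Z : Set G) : Subgroup G) : Set G) := by
    intro n hnZ hnV
    refine ⟨normalizer_le_ws V Z hnZ, ?_⟩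
    rw [← cj_eq_iff, cj_centralizer, cj_eq_iff.2 hnZ]
  have h1 := D Y hY hne (R.up (brs M (cmm N A))) (R.up (fxs M (cmm N A))) (R.le_up h.pl.Z_le_ws _) (R.up_le _)
    (R.le_up h.pl.Z_le_ws _) (R.up_le _) ?_ ?_ (R.up_sup h.pl.Z_le_ws (exists_decomp_sub two hPo))
    (R.up_inf h.pl.Z_le_ws fun m hm hm' => brs_inf_fxs two hPo hm hm')
  · refine h1.imp ?_ ?_
    all_goals
      intro h2 a ha m hm
      obtain ⟨u, hu, rfl⟩ := (R.mem_img (h.W_le_C hY)).mp ha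
      obtain ⟨w, hw, rfl⟩ := R.pi_surj m
      have h3 := h2 w ⟨hw, hm⟩ u hu
      rw [← sub_eq_zero, ← R.pi_comm h.ok (h.W_le_C hY hu) hw]
      exact (R.pi_ker _ (h.pl.Z_le_ws h3)).mpr h3
  · intro n hnZ hnV w hw
    obtain ⟨hnW, hnC⟩ := hinv n hnZ hnV
    obtain ⟨κ, hk⟩ := R.exists_ka hnW hnZ hnC
    exact R.up_brs h.ok hnW hnZ hnC hk (hκ n hnZ hnV κ hk) hw
  · intro n hnZ hnV w hw
    obtain ⟨hnW, hnC⟩ := hinv n hnZ hnV
    obtain ⟨κ, hk⟩ := R.exists_ka hnW hnZ hnC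
    refine R.up_fxs h.ok hnW hnZ hnC hk ?_ hw
    intro x hx
    have h3 : (cmm N A).map κ.toMonoidHom = cmm N A := by
      refine eq_of_le_of_card_ge ?_ ?_
      · rintro _ ⟨y, hy, rfl⟩
        exact hκ n hnZ hnV κ hk y hy
      · rw [card_map_of_injective κ.injective]
    have h4 : x ∈ (cmm N A).map κ.toMonoidHom := by rw [h3]; exact hx
    obtain ⟨y, hy, rfl⟩ := h4
    change κ.symm (κ y) ∈ cmm N A
    rw [MulEquiv.symm_apply_apply]
    exact hy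

/-- `A` centralises `O_p(H)`, `p` odd -/
theorem pcore_cen [Finite M] [Finite H] [FaithfulSMul H M] (D : Dec V Z) {F : Type*} {mz : F → G → G}
    (L : FLin V Z mz) (hF : 4 ≤ Nat.card F) (hY : Pnt V Z Y) (hne : Y ≠ Z)
    (hV : ∀ B : Subgroup G, Z ≤ B → (∀ w ∈ ws V Z, ∀ u ∈ ws V Y, u * w * u⁻¹ * w⁻¹ ∈ B) → V ≤ B)
    {p : ℕ} (hp : p.Prime) (hp2 : p ≠ 2) :
    ∀ a ∈ R.img (ws V Y), ∀ f ∈ Cfsg.pCore p H, a * f = f * a := by
  have : Fact p.Prime := ⟨hp⟩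
  have hch : (Cfsg.pCore p H).Characteristic := Cfsg.Agent.Lib.Cores.pCore_characteristic p
  have hpg : IsPGroup p (Cfsg.pCore p H) := Cfsg.Agent.Lib.Cores.pCore_isPGroup p
  have hodd : Odd (Nat.card (Cfsg.pCore p H)) := by
    obtain ⟨k, hk⟩ := IsPGroup.iff_card.mp hpg
    rw [hk]
    exact (hp.odd_of_ne_two hp2).pow
  have hsol : Group.IsSolvable (Cfsg.pCore p H) := by
    have : Group.IsNilpotent (Cfsg.pCore p H) := hpg.isNilpotent
    infer_instance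
  have hn : (Cfsg.pCore p H).Normal := inferInstance
  refine _root_.Cfsg.Agent.Omega.NO3S.OneQ.FitQ.comm_of (h.two R) (h.quad R hY hne) (h.elabA R hY) hsol hodd (fun a _ f hf => hn.conj_mem f hf a)
    (h.hB R D hY hne (h.two R) hch hodd) (h.lam_fix R hY) (h.eb_act R hY hne) (h.index_eb_le R hY hne)
    (h.stab_A R hY hne) (h.linRel R L hY) ?_ hF (h.two_lt_card R L hF hY hne hV)
  intro u' hu' hu0 v' hv'
  obtain ⟨u, hu, rfl⟩ := (h.mem_lam R).mp hu'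
  obtain ⟨v, hv, rfl⟩ := (h.mem_lam R).mp hv'
  have huZ : u ∉ Z := fun e => hu0 ((R.pi_ker u (h.V_le_W' hu)).mpr e)
  obtain ⟨c, hc⟩ := L.tr u hu huZ v hv
  exact ⟨c, u, h.V_le_W' hu, v, h.V_le_W' hv, rfl, rfl, hc⟩

/-- **(E) of #17428**: `A` centralises every nilpotent normal subgroup of `H` -/
theorem fit_cen [Finite M] [Finite H] [FaithfulSMul H M] (D : Dec V Z) {F : Type*} {mz : F → G → G}
    (L : FLin V Z mz) (hF : 4 ≤ Nat.card F) (hY : Pnt V Z Y) (hne : Y ≠ Z)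
    (hV : ∀ B : Subgroup G, Z ≤ B → (∀ w ∈ ws V Z, ∀ u ∈ ws V Y, u * w * u⁻¹ * w⁻¹ ∈ B) → V ≤ B)
    {N : Subgroup H} (hN : N.Normal) (hnil : Group.IsNilpotent N) :
    R.img (ws V Y) ≤ centralizer (N : Set H) := by
  classical
  intro a ha
  rw [mem_centralizer_iff]
  intro n hn
  by_contra hcon
  let K : Subgroup N := (centralizer ({a} : Set H)).subgroupOf N
  have hK : ∀ x : N, x ∈ K ↔ a * x = x * a := by
    intro x
    rw [mem_subgroupOf, mem_centralizer_singleton_iff]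
    exact ⟨fun e => e.symm, fun e => e.symm⟩
  obtain ⟨p, hp, hpK⟩ : ∃ p, p.Prime ∧ p ∣ K.index := by
    by_contra hcon'
    push Not at hcon'
    have h1 : K.index = 1 := by
      by_contra h2
      obtain ⟨p, hp, hd⟩ := Nat.exists_prime_and_dvd h2
      exact hcon' p hp hd
    have h2 : (⟨n, hn⟩ : N) ∈ K := by
      rw [index_eq_one.mp h1]; exact mem_top _
    exact hcon ((hK _).mp h2).symm
  have : Fact p.Prime := ⟨hp⟩
  obtain ⟨P'⟩ : Nonempty (Sylow p N) := inferInstance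
  have hPn : (P' : Subgroup N).Normal := by
    have := (Group.isNilpotent_of_finite_tfae (G := N)).out 0 3
    exact (this.mp hnil) p ⟨hp⟩ P'
  have hPK : ¬ (P' : Subgroup N) ≤ K := by
    intro hle
    exact P'.not_dvd_index (hpK.trans (index_dvd_of_le hle))
  have hPc : (P' : Subgroup N).Characteristic := P'.characteristic_of_normal hPn
  set E : Subgroup H := (P' : Subgroup N).map N.subtype with hE
  have hEn : E.Normal := ConjAct.normal_of_characteristic_of_normal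
  have hEp : IsPGroup p E := P'.isPGroup'.map _
  have hEle : E ≤ Cfsg.pCore p H := le_sSup ⟨hEn, hEp⟩
  obtain ⟨x, hx, hxK⟩ := SetLike.not_le_iff_exists.mp hPK
  have hxE : (x : H) ∈ Cfsg.pCore p H := hEle ⟨x, hx, rfl⟩
  apply hxK
  rw [hK]
  by_cases hp2 : p = 2
  · subst hp2
    rw [h.o2h R, mem_bot] at hxE
    rw [hxE, mul_one, one_mul]
  · exact h.pcore_cen R D L hF hY hne hV hp hp2 a ha x hxE

end One

end Cfsg.Agent.Omega.NO3S.OneQ

end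

section


/-!
# NO-3S, `OneQ`: `A` centralises the nilpotent normal subgroups of `H = C_G(Z) / K_Z` (bb OMEGA #17428 (E))

* `Co.dec`, `Co.flin` : the hypotheses `Dec`, `FLin` of `FitQ.lean`; `Co.fit` : (E).
-/

set_option autoImplicit false
set_option linter.unusedSectionVars false

namespace Cfsg.Agent.Omega.NO3S.OneQ.Co

open Subgroup Cfsg.Agent.Omega.NO3S.PT Cfsg.Agent.Omega.NoFF.Basic
open scoped Pointwise

universe u

variable {G : Type u} [Group G] [Finite G] {F : Type*} [Field F] [CharP F 2] {S : Sylow 2 G} {B P V Z : Subgroup G}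
  (h : Co F S B P V Z)

theorem flip_mem {w u : G} (hm : w * u * w⁻¹ * u⁻¹ ∈ Z) : u * w * u⁻¹ * w⁻¹ ∈ Z := by
  have := inv_mem hm
  have e : (w * u * w⁻¹ * u⁻¹)⁻¹ = u * w * u⁻¹ * w⁻¹ := by group
  rwa [e] at this

include h in
theorem dec : Dec V Z := by
  intro Y hY hYZ A A' hZA hA hZA' hA' hn hn' _ hinf
  have key : ∀ A : Subgroup G, Z ≤ A →
      (∀ n ∈ normalizer (Z : Set G), n ∈ normalizer (V : Set G) → ∀ w ∈ A, n * w * n⁻¹ ∈ A) → h.Inv A := by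
    intro A hZA hn
    refine Inv.of_norm hZA ?_
    rintro n ⟨h1, h2⟩
    rw [mem_normalizer_iff]
    intro x
    refine ⟨fun hx => hn n h1 h2 x hx, fun hx => ?_⟩
    have h3 := hn n⁻¹ (inv_mem h1) (inv_mem h2) _ hx
    have e : n⁻¹ * (n * x * n⁻¹) * n⁻¹⁻¹ = x := by group
    rwa [e] at h3
  rcases (key A hZA hn).decomp (key A' hZA' hn') hA hA' hinf.le with h1 | h1
  · exact Or.inl fun w hw u hu => flip_mem (h1 Y hY hYZ w hw u hu)
  · exact Or.inr fun w hw u hu => flip_mem (h1 Y hY hYZ w hw u hu)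

/-- the scalars on `Z` -/
noncomputable def mz (c : F) (g : G) : G := h.e (c * h.zv g) 0

theorem mz_e {c : F} {g : G} {a : F} (hg : g = h.e a 0) : h.mz c g = h.e (c * a) 0 := by
  rw [mz, hg, h.zv_e]

theorem flin : FLin V Z h.mz where
  mem := fun c a _ => h.e_memZ _
  mul := by
    intro c a ha b hb
    rw [mz, mz, mz, h.zv_mul ha hb, mul_add, ← h.e_add, add_zero]
  inj := by
    intro c c' z hz hz1 he
    have h1 := (h.e_inj he).1
    exact mul_right_cancel₀ (fun e => hz1 ((h.zv_eq_zero hz).1 e)) h1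
  ex := by
    intro c w hw
    obtain ⟨w', hw', he⟩ := h.exists_smul c hw
    refine ⟨w', hw', fun k hk => ?_⟩
    rw [← h.e_fn hw' hk, ← h.e_fn hw hk, he k hk, h.mz_e rfl]
  tr := by
    intro u hu huZ v hv
    obtain ⟨c, hc⟩ := h.exists_scal hu huZ hv
    refine ⟨c, fun k hk => ?_⟩
    rw [← h.e_fn (h.one.V_le_W h.one.self hv) hk, ← h.e_fn (h.one.V_le_W h.one.self hu) hk, hc k hk, h.mz_e rfl]
  rad := by
    intro w hw hwk Y hY u hu
    have hd : w ∈ rd V Z := mem_rd.2 ⟨hw, hwk⟩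
    by_cases hYZ : Y = Z
    · rw [hYZ] at hu
      rw [h.one.comm_W h.one.self.cj hu hw]
      have e : w * u * u⁻¹ * w⁻¹ = 1 := by group
      rw [e]
      exact one_mem _
    · exact flip_mem (h.rd_comm hY hYZ hd hu)

/-- `[W_Z, W_Y] Z` -/
def cw (V Z Y : Subgroup G) : Subgroup G := Z ⊔ ⁅ws V Z, ws V Y⁆

include h in
/-- `[W_Z, W_Y] Z` does not depend on `Y` -/
theorem cw_le {Y Y' : Subgroup G} (hY : Pnt V Z Y) (hne : Y ≠ Z) (hY' : Pnt V Z Y') (hne' : Y' ≠ Z) :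
    cw V Z Y' ≤ cw V Z Y := by
  refine sup_le le_sup_left ?_
  rw [commutator_le]
  intro w hw u hu
  obtain ⟨k, hk, rfl⟩ := h.one.move h.one.self hY hY' hne hne'
  rw [ws_cj, mem_cj] at hu
  rw [commutatorElement_def]
  have hwk : k⁻¹ * w * k ∈ ws V Z := by
    have := h.W_conj (inv_mem (centralizer_le_normalizer _ (kx_le_cent hk))) hw
    rwa [inv_inv] at this
  -- `[w, u] = [k⁻¹ w k, k⁻¹ u k]^k`
  have h1 : k⁻¹ * w * k * (k⁻¹ * u * k) * (k⁻¹ * w * k)⁻¹ * (k⁻¹ * u * k)⁻¹ ∈ cw V Z Y := by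
    refine le_sup_right (a := Z) (commutator_mem_commutator hwk hu)
  have h2 : k⁻¹ * w * k * (k⁻¹ * u * k) * (k⁻¹ * w * k)⁻¹ * (k⁻¹ * u * k)⁻¹ ∈ ws V Z :=
    h.one.I_le_W h.one.self (h.one.comm_mem h.one.self hY hne.symm hwk hu)
  have h3 := h.kw_mem h2 hk
  have e : w * u * w⁻¹ * u⁻¹ = k * (k⁻¹ * w * k * (k⁻¹ * u * k) * (k⁻¹ * w * k)⁻¹ * (k⁻¹ * u * k)⁻¹) * k⁻¹ *
    (k⁻¹ * w * k * (k⁻¹ * u * k) * (k⁻¹ * w * k)⁻¹ * (k⁻¹ * u * k)⁻¹)⁻¹ *
    (k⁻¹ * w * k * (k⁻¹ * u * k) * (k⁻¹ * w * k)⁻¹ * (k⁻¹ * u * k)⁻¹) := by group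
  rw [e]
  exact mul_mem (le_sup_left (a := Z) h3) h1

/-- `[W_Z, W_Y] Z` is invariant under `N_G(Z) ∩ N_G(V)` -/
theorem inv_cw {Y : Subgroup G} (hY : Pnt V Z Y) (hne : Y ≠ Z) : h.Inv (cw V Z Y) := by
  refine Inv.of_norm le_sup_left ?_
  have key : ∀ n ∈ normalizer (Z : Set G) ⊓ normalizer (V : Set G), PT.cj n (cw V Z Y) ≤ cw V Z Y := by
    rintro n ⟨hnZ, hnV⟩
    have hY' : Pnt V Z (PT.cj n Y) := hY.conj hnV
    have hne' : PT.cj n Y ≠ Z := by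
      intro e
      apply hne
      rw [← cj_inj (g := n), e, cj_eq_iff.2 hnZ]
    have h1 : PT.cj n (cw V Z Y) = cw V Z (PT.cj n Y) := by
      unfold cw
      rw [ws_cj, PT.cj, smul_sup]
      have h2 : MulAut.conj n • ⁅ws V Z, ws V Y⁆ = ⁅MulAut.conj n • ws V Z, MulAut.conj n • ws V Y⁆ :=
        map_commutator _ _ _
      rw [h2]
      have h3 : MulAut.conj n • Z = Z := cj_eq_iff.2 hnZ
      have h4 : MulAut.conj n • ws V Z = ws V Z := cj_eq_iff.2 (normalizer_le_ws V Z hnZ)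
      rw [h3, h4]
    rw [h1]
    exact h.cw_le hY hne hY' hne'
  intro n hn
  rw [← cj_eq_iff]
  refine le_antisymm (key n hn) ?_
  rw [le_cj_iff]
  exact key _ (inv_mem hn)

include h in
/-- `V ≤ [W_Z, W_Y] Z` -/
theorem V_le_cw {Y : Subgroup G} (hY : Pnt V Z Y) (hne : Y ≠ Z) : V ≤ cw V Z Y := by
  refine h.V_le_of_comm (h.inv_cw hY hne) hY hne fun w hw u hu => ?_
  have := commutator_mem_commutator hw hu
  rw [commutatorElement_def] at this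
  exact le_sup_right (a := Z) this

variable {M H : Type u} [AddCommGroup M] [Group H] [DistribMulAction H M] [Finite M] [Finite H] [FaithfulSMul H M]

include h in
/-- **(E) of #17428** -/
theorem fit (R : QRep V Z M H) (hF : 4 ≤ Nat.card F) {Y : Subgroup G} (hY : Pnt V Z Y) (hne : Y ≠ Z) {N : Subgroup H}
    (hN : N.Normal) (hnil : Group.IsNilpotent N) : R.img (ws V Y) ≤ centralizer (N : Set H) := by
  refine h.one.fit_cen R h.dec h.flin hF hY hne (fun B' hZB hB => ?_) hN hnil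
  refine (h.V_le_cw hY hne).trans (sup_le hZB ?_)
  rw [commutator_le]
  intro w hw u hu
  rw [commutatorElement_def]
  have h1 := inv_mem (hB w hw u hu)
  have e : (u * w * u⁻¹ * w⁻¹)⁻¹ = w * u * w⁻¹ * u⁻¹ := by group
  rwa [e] at h1

end Cfsg.Agent.Omega.NO3S.OneQ.Co

end

end
end

-- part: Mrg/Omega/NO3S/OneQ/PComp
section
/-!
# THEOREM W (#17961), section 2, abstract part

`norm_of_o2` : `A` is an elementary abelian 2-group normalised by a Sylow 2-subgroup of `H`, `O₂(H) = 1`, `L` is a component of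
even order, `a ∈ A` and `A ≤ O₂(C_H(a))`.  Then `L^a = L`.
-/

set_option autoImplicit false
set_option linter.unusedSectionVars false

namespace Cfsg.Agent.Omega.NO3S.OneQ

open Cfsg Subgroup Cfsg.Agent.SignalizersComponents.Components

variable {H : Type*} [Group H]

end Cfsg.Agent.Omega.NO3S.OneQ
end

-- part: Mrg/Omega/NO3S/OneQ/POne
section
section


/-!
# THEOREM W (#17961), sections 1, 2: LEMMA CP', COROLLARY BS, `A` normalises the components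

`R : QRep V Z M H`, `A = R.img (ws V Y)`.

* `One.cp` (**CP'**) : `f ∈ H` of odd order inverted by `a ∈ A`, `λ^f ≤ Ī` ⟹ `f = 1`;
* `One.bs` (**BS**) : `A ≤ X ≤ H`, `λ^X ≤ Ī` ⟹ `A ≤ O₂(X)`;
* `One.bs_cent` : `λ ≤ [M, a]` ⟹ `A ≤ O₂(C_H(a))`;
* `Co.lam_le` : `[E_Z, u] ≠ 1`, `u ∈ W_Y` ⟹ `V ≤ [W_Z, u] Z`;
* `One.comm_V_of` : `[E_Z, W_Y] = 1` ⟹ `[W_Z, W_Y] ≤ V`;
* `Co.norm_comp` : if `[W_Z, W_Y] ≰ V`, then `A` normalises every component of even order of `H`.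
-/

set_option autoImplicit false
set_option linter.unusedSectionVars false

namespace Cfsg.Agent.Omega.NO3S.OneQ

open Subgroup Cfsg.Agent.Omega.NO3S.PT Cfsg.Agent.Omega.NoFF.Basic
open scoped Pointwise

universe u

variable {G : Type u} [Group G]

namespace One

variable [Finite G] {S : Sylow 2 G} {B P V Z : Subgroup G} (h : One S B P V Z)
include h

/-- `W_z ≤ C(L)` for a point `z` of a line `L` -/
theorem W_le_line {L z : Subgroup G} (hL : IsCj V L) (hz : IsCj Z z) (hzL : z ≤ L) :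
    ws V z ≤ centralizer (L : Set G) := by
  obtain ⟨g, rfl⟩ := hL
  have h1 : Pnt V Z (cj g⁻¹ z) := ⟨hz.cj _, by rw [cj_le_iff, inv_inv]; exact hzL⟩
  have h2 := h.W_le_cent h1
  intro w hw
  have h3 : g⁻¹ * w * g ∈ ws V (cj g⁻¹ z) := by
    rw [ws_cj, mem_cj, inv_inv]
    have e : g * (g⁻¹ * w * g) * g⁻¹ = w := by group
    rw [e]; exact hw
  rw [← cj_centralizer, mem_cj]
  exact h2 h3

/-- the points `Y` of `V` and `cj c Y`, `c ∈ C_G(Z)`, are on a line if `cj c V ≤ I` -/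
theorem exists_line_of {Y : Subgroup G} (hY : Pnt V Z Y) {c : G} (hc : c ∈ centralizer (Z : Set G))
    (hcV : cj c V ≤ IV V Z) : ∃ L, IsCj V L ∧ Y ≤ L ∧ cj c Y ≤ L := by
  have hcZ : cj c Z = Z := cj_eq_iff.2 (centralizer_le_normalizer _ hc)
  by_cases hYV : cj c Y ≤ V
  · exact ⟨V, ⟨1, (cj_one V).symm⟩, hY.le, hYV⟩
  obtain ⟨u, hu, hu1⟩ := h.pl.pt_ne_bot (hY.cj.cj c)
  have huI : u ∈ IV V Z := hcV (cj_le_cj.2 hY.le hu)
  have huV : u ∉ V := by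
    intro e
    obtain ⟨T, hT, hTV, huT⟩ := h.pl.exists_point e hu1
    exact hYV (h.pl.pts_eq (hY.cj.cj c) hT hu huT hu1 ▸ hTV)
  obtain ⟨x, -, -, hxu, hxZ, -⟩ := h.pl.F2_swap h.hf h.hO huI huV h.self.cj h.self.le hY.cj hY.le
  have h2 : cj x (cj c Y) = cj c Y := cj_eq_iff.2 (h.pl.norm_of_comm (hY.cj.cj c) hu hu1 hxu)
  refine ⟨cj x (cj c V), ⟨x * c, by rw [cj_cj]⟩, ?_, ?_⟩
  · rw [← hxZ, ← hcZ]
    have h3 : cj c Z ≤ cj c V := cj_le_cj.2 h.pl.ZV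
    rw [hcZ] at h3 ⊢
    exact cj_le_cj.2 h3
  · rw [← h2]
    exact cj_le_cj.2 (cj_le_cj.2 hY.le)

variable {M H : Type u} [AddCommGroup M] [Group H] [DistribMulAction H M] (R : QRep V Z M H)
variable {Y : Subgroup G} (hY : Pnt V Z Y) (hne : Y ≠ Z)

theorem I_le_W' : IV V Z ≤ ws V Z := h.I_le_W h.self

theorem Z_le_I : Z ≤ IV V Z := h.pl.ZV.trans h.pl.V_le_IV

/-- **LEMMA CP'** -/
theorem cp (hY : Pnt V Z Y) {f a : H} (hfo : Odd (orderOf f)) (ha : a ∈ R.img (ws V Y))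
    (hinv : a * f * a⁻¹ = f⁻¹) (hV : ∀ v ∈ R.dn V, f • v ∈ R.dn (IV V Z)) : f = 1 := by
  have h2 : Fact (Nat.Prime 2) := ⟨Nat.prime_two⟩
  obtain ⟨c, hc, rfl⟩ := R.phi_surj f
  have hcV : cj c V ≤ IV V Z := by
    intro v hv
    rw [mem_cj] at hv
    have h1 := hV _ ((h.mem_lam R).mpr ⟨_, hv, rfl⟩)
    have e : c * (c⁻¹ * v * c) * c⁻¹ = v := by group
    rw [R.act c hc _ (h.V_le_W' hv), e, R.pi_mem_dn h.Z_le_I h.I_le_W'] at h1
    · exact h1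
    · rw [← e]
      exact (mem_normalizer_iff.1 (h.C_norm_W hc) _).1 (h.V_le_W' hv)
  obtain ⟨L, hL, hYL, hcL⟩ := h.exists_line_of hY hc hcV
  -- `W_{cY}` normalises `W_Y`
  have hW1 : ws V (cj c Y) ≤ normalizer ((ws V Y : Subgroup G) : Set G) :=
    ((h.W_le_line hL (hY.cj.cj c) hcL).trans (centralizer_le hYL)).trans
      ((centralizer_le_normalizer _).trans (normalizer_le_ws V Y))
  have hWc : ws V (cj c Y) = cj c (ws V Y) := by rw [ws_cj]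
  have hWC : ws V (cj c Y) ≤ centralizer (Z : Set G) := by
    rw [hWc, cj_le_iff]
    have h3 : cj c⁻¹ (centralizer (Z : Set G)) = centralizer (Z : Set G) := by
      rw [cj_eq_iff]; exact Subgroup.le_normalizer (inv_mem hc)
    rw [h3]
    exact h.W_le_C hY
  have hYC := h.W_le_C hY
  have hpY : IsPGroup 2 (ws V Y) := fun w => ⟨1, by
    rw [pow_one, pow_two]
    exact Subtype.ext (h.sq_W hY w.2)⟩
  have hpc : IsPGroup 2 (ws V (cj c Y)) := by rw [hWc]; exact hpY.map _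
  have hp : IsPGroup 2 (ws V (cj c Y) ⊔ ws V Y : Subgroup G) := hpc.to_sup_of_normal_right' hpY hW1
  have hsC : ws V (cj c Y) ⊔ ws V Y ≤ centralizer (Z : Set G) := sup_le hWC hYC
  have hpI : IsPGroup 2 (R.img (ws V (cj c Y) ⊔ ws V Y)) := by
    have h4 : IsPGroup 2 ((ws V (cj c Y) ⊔ ws V Y : Subgroup G).subgroupOf (centralizer (Z : Set G))) :=
      hp.comap_of_injective _ (subtype_injective _)
    exact h4.map _
  obtain ⟨w, hw, rfl⟩ := (R.mem_img hYC).mp ha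
  have hwC := hYC hw
  have hff : R.phi c * R.phi c ∈ R.img (ws V (cj c Y) ⊔ ws V Y) := by
    rw [R.mem_img hsC]
    refine ⟨c * w * c⁻¹ * w⁻¹, ?_, ?_⟩
    · refine mul_mem (mem_sup_left ?_) (mem_sup_right (inv_mem hw))
      rw [hWc]
      exact conj_mem_cj hw
    · have e1 : R.phi w * (R.phi c)⁻¹ * (R.phi w)⁻¹ = R.phi c := by
        have := congrArg (fun t => t⁻¹) hinv
        simp only [mul_inv_rev, inv_inv] at this
        rw [mul_assoc]; exact this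
      rw [R.phi_mul _ (mul_mem (mul_mem hc hwC) (inv_mem hc)) _ (inv_mem hwC), R.phi_mul _ (mul_mem hc hwC) _ (inv_mem hc),
        R.phi_mul _ hc _ hwC, R.phi_inv hc, R.phi_inv hwC]
      calc R.phi c * R.phi w * (R.phi c)⁻¹ * (R.phi w)⁻¹ = R.phi c * (R.phi w * (R.phi c)⁻¹ * (R.phi w)⁻¹) := by group
        _ = _ := by rw [e1]
  obtain ⟨k, hk⟩ := hpI ⟨_, hff⟩
  have hk' : (R.phi c * R.phi c) ^ 2 ^ k = 1 := congrArg Subtype.val hk
  rw [← pow_two, ← pow_mul, ← pow_succ'] at hk'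
  have h5 : orderOf (R.phi c) ∣ 2 ^ (k + 1) := orderOf_dvd_of_pow_eq_one hk'
  have h6 : orderOf (R.phi c) = 1 := Nat.Coprime.eq_one_of_dvd (Nat.Coprime.pow_right _ (Nat.coprime_two_right.mpr hfo)) h5
  rwa [orderOf_eq_one_iff] at h6

/-- **COROLLARY BS** -/
theorem bs [Finite H] (hY : Pnt V Z Y) {X : Subgroup H} (hA : R.img (ws V Y) ≤ X)
    (hV : ∀ x ∈ X, ∀ v ∈ R.dn V, x • v ∈ R.dn (IV V Z)) : R.img (ws V Y) ≤ (Cfsg.pCore 2 X).map X.subtype := by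
  intro a ha
  have haX := hA ha
  refine ⟨⟨a, haX⟩, ?_, rfl⟩
  have haa : a * a = 1 := by
    have := (h.elabA R hY).2 a ha
    rwa [pow_two] at this
  have key : IsPGroup 2 (Subgroup.normalClosure {(⟨a, haX⟩ : X)} : Subgroup X) := by
    by_contra hcon
    obtain ⟨f, hf1, hfo, hfi⟩ := Involutions.BaerSuzuki.exists_odd_inverted (⟨a, haX⟩ : X) (Subtype.ext haa) hcon
    apply hf1
    apply Subtype.ext
    refine h.cp R hY (f := (f : H)) (a := a) ?_ ha ?_ (hV f f.2)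
    · rwa [Subgroup.orderOf_coe]
    · exact congrArg Subtype.val hfi
  exact (le_sSup ⟨Subgroup.normalClosure_normal, key⟩ : Subgroup.normalClosure {(⟨a, haX⟩ : X)} ≤ Cfsg.pCore 2 X)
    (Subgroup.subset_normalClosure (by simp))

end One

namespace One

variable [Finite G] {S : Sylow 2 G} {B P V Z : Subgroup G} (h : One S B P V Z)
include h

/-- a point of `V` is `cj g Z`, `g ∈ N_G(V)` -/
theorem exists_g {X : Subgroup G} (hX : Pnt V Z X) : ∃ g ∈ normalizer (V : Set G), cj g Z = X := by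
  obtain ⟨p, hp, e⟩ := h.pl.exists_pt hX.cj hX.le
  exact ⟨p, h.pl.PN hp, e.symm⟩

end One

namespace Co

variable [Finite G] {F : Type*} [Field F] [CharP F 2] {S : Sylow 2 G} {B P V Z : Subgroup G} (h : Co F S B P V Z)

variable {M H : Type u} [AddCommGroup M] [Group H] [DistribMulAction H M] (R : QRep V Z M H)

/-- the image of `B` as a Sylow 2-subgroup of `H` -/
theorem _root_.Cfsg.Agent.Omega.NO3S.OneQ.One.exists_sylow [Finite H] (h : One S B P V Z) :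
    ∃ T : Sylow 2 H, (T : Subgroup H) = R.img B := by
  have : Fact (Nat.Prime 2) := ⟨Nat.prime_two⟩
  have hS2 : IsPGroup 2 (R.img B) := by
    have : IsPGroup 2 (B.subgroupOf (centralizer (Z : Set G))) :=
      h.isP_B.comap_of_injective _ (subtype_injective _)
    exact this.map _
  exact ⟨hS2.toSylow (h.img_S_index R), rfl⟩

end Co

end Cfsg.Agent.Omega.NO3S.OneQ

end

section


/-!
# NO-3S, `OneQ`: the `F`-representation of `C_G(Z) T₁` on `W_Z / rd` (bb OMEGA #17428, (R1)-(R3) of #17961)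

* `Co.hat` : the elements of `N_G(Z)` which multiply `Z = F` by a scalar `Co.chi`; it contains `C_G(Z)` and the torus;
* `Co.rp : Representation F hat MF`, `rp_fm`; `rp_lam`, `rp_I` : weights of the torus on `λ`, `Ī / λ`;
* `Co.v0` spans `λ`; `Co.Rb Y = [MF, W_Y]`; `Rb_sub` : `Rb ≤ Ī`; `Rb_fix` : `C_{Rb}(B) = λ`; `rp_quad`.
-/

set_option autoImplicit false
set_option linter.unusedSectionVars false

namespace Cfsg.Agent.Omega.NO3S.OneQ

open Subgroup Cfsg.Agent.Omega.NO3S.PT Cfsg.Agent.Omega.NoFF.Basic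
open scoped Pointwise

universe u

variable {G : Type u} [Group G]

namespace Co

variable [Finite G] {F : Type*} [Field F] [CharP F 2] {S : Sylow 2 G} {B P V Z : Subgroup G} (h : Co F S B P V Z)

/-- the elements of `N_G(Z)` which multiply `Z = F` by a scalar -/
def hat : Subgroup G where
  carrier := {g | g ∈ normalizer (Z : Set G) ∧ ∃ χ : Fˣ, ∀ a, g * h.e a 0 * g⁻¹ = h.e (χ * a) 0}
  one_mem' := ⟨one_mem _, 1, fun a => by rw [Units.val_one, one_mul, one_mul, inv_one, mul_one]⟩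
  mul_mem' := by
    rintro a b ⟨ha, χ, hχ⟩ ⟨hb, ψ, hψ⟩
    refine ⟨mul_mem ha hb, χ * ψ, fun x => ?_⟩
    have e : a * b * h.e x 0 * (a * b)⁻¹ = a * (b * h.e x 0 * b⁻¹) * a⁻¹ := by group
    rw [e, hψ, hχ, Units.val_mul, mul_assoc]
  inv_mem' := by
    rintro a ⟨ha, χ, hχ⟩
    refine ⟨inv_mem ha, χ⁻¹, fun x => ?_⟩
    have h1 := hχ (((χ⁻¹ : Fˣ) : F) * x)
    rw [← mul_assoc, Units.mul_inv, one_mul] at h1
    rw [← h1, inv_inv]
    group

theorem hat_norm {g : G} (hg : g ∈ h.hat) : g ∈ normalizer (Z : Set G) := hg.1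

/-- the scalar -/
noncomputable def chi (g : h.hat) : Fˣ := g.2.2.choose

theorem chi_spec (g : h.hat) (a : F) : (g : G) * h.e a 0 * (g : G)⁻¹ = h.e (h.chi g * a) 0 := g.2.2.choose_spec a

theorem chi_eq {g : h.hat} {χ : F} (hχ : ∀ a, (g : G) * h.e a 0 * (g : G)⁻¹ = h.e (χ * a) 0) : (h.chi g : F) = χ := by
  have h1 := hχ 1
  rw [h.chi_spec, mul_one, mul_one] at h1
  exact (h.e_inj h1).1

theorem chi_one : h.chi 1 = 1 := Units.ext (h.chi_eq fun a => by simp only [_root_.OneMemClass.coe_one, _root_.one_mul, _root_.inv_one, _root_.mul_one, _root_.Units.val_one])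

theorem chi_mul (g k : h.hat) : h.chi (g * k) = h.chi g * h.chi k :=
  Units.ext (h.chi_eq fun a => by
    have e : ((g * k : h.hat) : G) * h.e a 0 * ((g * k : h.hat) : G)⁻¹ =
        (g : G) * ((k : G) * h.e a 0 * (k : G)⁻¹) * (g : G)⁻¹ := by rw [Subgroup.coe_mul]; group
    rw [e, h.chi_spec, h.chi_spec, Units.val_mul, mul_assoc])

theorem C_le_hat : centralizer (Z : Set G) ≤ h.hat := by
  intro g hg
  refine ⟨centralizer_le_normalizer _ hg, 1, fun a => ?_⟩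
  rw [Units.val_one, one_mul, (mem_centralizer_iff.1 hg _ (h.e_memZ a)).symm, mul_inv_cancel_right]

variable {h} in
theorem Tor.hat {τ : G} {ζ : F} (hτ : h.Tor τ ζ) (hζ : ζ ≠ 0) : τ ∈ h.hat :=
  ⟨hτ.norm_Z hζ, Units.mk0 ζ hζ, fun a => by rw [hτ.act, mul_zero]; rfl⟩

variable {h} in
theorem Tor.chi {τ : G} {ζ : F} (hτ : h.Tor τ ζ) (hζ : ζ ≠ 0) : (h.chi ⟨τ, hτ.hat hζ⟩ : F) = ζ :=
  h.chi_eq fun a => by rw [hτ.act, mul_zero]

/-- the representation of `hat` on `MF` -/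
noncomputable def rp : Representation F h.hat h.MF where
  toFun g :=
    { toFun := fun m => ⟨fun k => h.chi g * (m : kx V Z → F) ⟨(g : G)⁻¹ * k * g, h.K_conj (h.hat_norm g.2) k.2⟩, by
        obtain ⟨f, w, hw, hf⟩ := m
        refine ⟨g * w * (g : G)⁻¹, h.W_conj (h.hat_norm g.2) hw, fun k => ?_⟩
        rw [h.fn_conj' (h.chi_spec g) (h.hat_norm g.2) hw k.2]
        exact congrArg _ (hf _)⟩
      map_add' := fun a b => Subtype.ext (funext fun k => mul_add _ _ _)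
      map_smul' := fun c a => Subtype.ext (funext fun k => mul_left_comm _ _ _) }
  map_one' := by
    refine LinearMap.ext fun m => Subtype.ext (funext fun k => ?_)
    show (h.chi 1 : F) * (m : kx V Z → F) ⟨((1 : h.hat) : G)⁻¹ * k * ((1 : h.hat) : G), _⟩ = (m : kx V Z → F) k
    rw [h.chi_one, Units.val_one, one_mul]
    exact congrArg (m : kx V Z → F) (Subtype.ext (by simp only [_root_.OneMemClass.coe_one, _root_.inv_one, _root_.one_mul, _root_.mul_one]))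
  map_mul' := by
    intro a b
    refine LinearMap.ext fun m => Subtype.ext (funext fun k => ?_)
    show (h.chi (a * b) : F) * (m : kx V Z → F) ⟨((a * b : h.hat) : G)⁻¹ * k * ((a * b : h.hat) : G), _⟩ =
      (h.chi a : F) * ((h.chi b : F) * (m : kx V Z → F) ⟨(b : G)⁻¹ * ((a : G)⁻¹ * k * a) * b, _⟩)
    rw [h.chi_mul, Units.val_mul, mul_assoc]
    exact congrArg (fun x => (h.chi a : F) * ((h.chi b : F) * (m : kx V Z → F) x)) (Subtype.ext (by simp only [mul_assoc, _root_.Subgroup.coe_mul, _root_.mul_inv_rev]))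

theorem rp_fm (g : h.hat) (w : ws V Z) :
    h.rp g (h.fm w) = h.fm ⟨g * w * (g : G)⁻¹, h.W_conj (h.hat_norm g.2) w.2⟩ :=
  Subtype.ext (funext fun k => (h.fn_conj' (h.chi_spec g) (h.hat_norm g.2) w.2 k.2).symm)

theorem rp_fm' {g w : G} (hg : g ∈ h.hat) (hw : w ∈ ws V Z) :
    h.rp ⟨g, hg⟩ (h.fm ⟨w, hw⟩) = h.fm ⟨g * w * g⁻¹, h.W_conj (h.hat_norm hg) hw⟩ := h.rp_fm ⟨g, hg⟩ ⟨w, hw⟩

theorem fm_eq {w w' : G} (hw : w ∈ ws V Z) (hw' : w' ∈ ws V Z) : h.fm ⟨w, hw⟩ = h.fm ⟨w', hw'⟩ ↔ w * w'⁻¹ ∈ rd V Z := by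
  have h1 := h.fm_mul ⟨w * w'⁻¹, mul_mem hw (inv_mem hw')⟩ ⟨w', hw'⟩
  have e : (⟨w * w'⁻¹, mul_mem hw (inv_mem hw')⟩ : ws V Z) * ⟨w', hw'⟩ = ⟨w, hw⟩ := Subtype.ext (by simp)
  rw [e] at h1
  rw [h1, add_eq_right]
  exact h.fm_eq_zero _

theorem fm_inv (w : ws V Z) : h.fm w⁻¹ = h.fm w := Subtype.ext (funext fun k => h.fn_inv w.2)

/-- the kernel of `K_Z` -/
theorem rp_K {k : G} (hk : k ∈ kx V Z) (m : h.MF) : h.rp ⟨k, h.C_le_hat (kx_le_cent hk)⟩ m = m := by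
  obtain ⟨w, rfl⟩ := h.fm_surj m
  have e : h.rp ⟨k, h.C_le_hat (kx_le_cent hk)⟩ (h.fm w) = _ := h.rp_fm' (h.C_le_hat (kx_le_cent hk)) w.2
  rw [e, h.fm_eq]
  exact h.Z_le_rd (h.kw_mem w.2 hk)

/-- the line vector -/
noncomputable def v0 : h.MF := h.fm ⟨h.e 0 1, h.W_V 0 1⟩

theorem fm_e (x y : F) : h.fm ⟨h.e x y, h.W_V x y⟩ = y • h.v0 :=
  Subtype.ext (funext fun k => h.fn_V x y k.2)

theorem v0_ne : h.v0 ≠ 0 := by
  intro h1
  have h2 : h.e 0 1 ∈ rd V Z := (h.fm_eq_zero _).1 h1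
  have h3 := h.rd_inf_I ⟨h2, h.one.pl.V_le_IV (h.e_memV 0 1)⟩
  rw [h.e_memZ_iff] at h3
  exact one_ne_zero h3

/-- `λ` -/
noncomputable def lam : Submodule F h.MF := Submodule.span F {h.v0}

theorem mem_lam {m : h.MF} : m ∈ h.lam ↔ ∃ v : ws V Z, (v : G) ∈ V ∧ h.fm v = m := by
  rw [lam, Submodule.mem_span_singleton]
  constructor
  · rintro ⟨a, rfl⟩
    exact ⟨⟨h.e 0 a, h.W_V 0 a⟩, h.e_memV 0 a, h.fm_e 0 a⟩
  · rintro ⟨v, hv, rfl⟩
    obtain ⟨x, y, hxy⟩ := (h.mem_V _).1 hv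
    refine ⟨y, ?_⟩
    rw [← h.fm_e x y]
    congr 1
    exact Subtype.ext hxy

theorem fm_mem_lam {w : G} (hw : w ∈ ws V Z) : h.fm ⟨w, hw⟩ ∈ h.lam ↔ w ∈ V ⊔ rd V Z := by
  rw [h.mem_lam]
  constructor
  · rintro ⟨v, hv, e⟩
    have h1 := (h.fm_eq v.2 hw).1 e
    have e2 : w = (v * w⁻¹)⁻¹ * v := by group
    rw [e2]
    exact mul_mem (mem_sup_right (inv_mem h1)) (mem_sup_left hv)
  · intro h1
    have hVW : V ≤ ws V Z := h.one.V_le_W'
    have hc : V ≤ normalizer ((rd V Z : Subgroup G) : Set G) :=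
      (hVW.trans (h.one.pl.ws_comm h.one.self.cj)).trans
        ((centralizer_le rd_le).trans (centralizer_le_normalizer _))
    obtain ⟨v, hv, r, hr, rfl⟩ := mem_sup_norm hc h1
    refine ⟨⟨v, h.one.V_le_W' hv⟩, hv, ?_⟩
    rw [h.fm_eq]
    have hvW := h.one.V_le_W' hv
    have hrW := rd_le hr
    have e : v * (v * r)⁻¹ = r⁻¹ := by
      rw [mul_inv_rev, ← mul_assoc]
      have := h.one.comm_W h.one.self.cj hvW (inv_mem hrW)
      rw [this, mul_inv_cancel_right]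
    rw [e]
    exact inv_mem hr

/-- `λ` determines `V` in `I` -/
theorem fm_mem_lam_I {w : G} (hw : w ∈ IV V Z) : h.fm ⟨w, h.one.I_le_W' hw⟩ ∈ h.lam ↔ w ∈ V := by
  rw [h.mem_lam]
  constructor
  · rintro ⟨v, hv, e⟩
    have h1 := (h.fm_eq v.2 _).1 e
    have h2 : (v : G) * w⁻¹ ∈ IV V Z := mul_mem (h.one.pl.V_le_IV hv) (inv_mem hw)
    have h3 := h.rd_inf_I ⟨h1, h2⟩
    have e2 : w = (v * w⁻¹)⁻¹ * v := by group
    rw [e2]
    exact mul_mem (inv_mem (h.one.pl.ZV h3)) hv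
  · exact fun h1 => ⟨⟨w, h.one.I_le_W' hw⟩, h1, rfl⟩

/-- the torus on `λ` -/
theorem rp_lam {τ : G} {ζ : F} (hτ : h.Tor τ ζ) (hζ : ζ ≠ 0) : h.rp ⟨τ, hτ.hat hζ⟩ h.v0 = ζ⁻¹ • h.v0 := by
  have e : h.rp ⟨τ, hτ.hat hζ⟩ h.v0 = _ := h.rp_fm' (hτ.hat hζ) (h.W_V 0 1)
  rw [e, ← h.fm_e 0 ζ⁻¹]
  congr 1
  apply Subtype.ext
  show τ * h.e 0 1 * τ⁻¹ = h.e 0 ζ⁻¹
  rw [hτ.act, mul_zero, mul_one]

/-- `C_G(V)` fixes the line vector -/
theorem rp_cV {g : G} (hg : g ∈ centralizer (V : Set G)) :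
    h.rp ⟨g, h.C_le_hat (centralizer_le h.one.pl.ZV hg)⟩ h.v0 = h.v0 := by
  have e : h.rp ⟨g, h.C_le_hat (centralizer_le h.one.pl.ZV hg)⟩ h.v0 = _ :=
    h.rp_fm' (h.C_le_hat (centralizer_le h.one.pl.ZV hg)) (h.W_V 0 1)
  rw [e]
  show _ = h.fm ⟨h.e 0 1, h.W_V 0 1⟩
  congr 1
  exact Subtype.ext (h.comm_e hg 0 1)

/-- `B` fixes the line vector -/
theorem rp_B {s : G} (hs : s ∈ B) : h.rp ⟨s, h.C_le_hat (h.one.B_le_C hs)⟩ h.v0 = h.v0 := by
  have e : h.rp ⟨s, h.C_le_hat (h.one.B_le_C hs)⟩ h.v0 = _ := h.rp_fm' (h.C_le_hat (h.one.B_le_C hs)) (h.W_V 0 1)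
  rw [e]
  show _ = h.fm ⟨h.e 0 1, h.W_V 0 1⟩
  obtain ⟨t, ht⟩ := h.tv s hs
  rw [h.fm_eq, ht, h.e_inv, ← h.e_add, CharTwo.add_self_eq_zero]
  exact h.Z_le_rd (h.e_memZ _)

/-! ### `[MF, W_Y]` -/

/-- `W_Y ≤ hat` -/
theorem W_hat {Y : Subgroup G} (hY : Pnt V Z Y) {a : G} (ha : a ∈ ws V Y) : a ∈ h.hat := h.C_le_hat (h.one.W_le_C hY ha)

/-- `[a, w]` for `a ∈ W_Y` -/
theorem rp_W {Y : Subgroup G} (hY : Pnt V Z Y) (hne : Y ≠ Z) {a : G} (ha : a ∈ ws V Y) (w : ws V Z) :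
    ∃ u : G, ∃ hu : u ∈ IV V Z, u = a * w * a⁻¹ * (w : G)⁻¹ ∧
      h.rp ⟨a, h.W_hat hY ha⟩ (h.fm w) - h.fm w = h.fm ⟨u, h.one.I_le_W' hu⟩ := by
  have h1 : a * w * a⁻¹ * (w : G)⁻¹ ∈ IV V Z := h.one.comm_mem hY h.one.self hne ha w.2
  refine ⟨_, h1, rfl, ?_⟩
  have e : h.rp ⟨a, h.W_hat hY ha⟩ (h.fm w) = _ := h.rp_fm' (h.W_hat hY ha) w.2
  rw [e, sub_eq_iff_eq_add, ← h.fm_mul]
  congr 1
  apply Subtype.ext
  show a * w * a⁻¹ = a * w * a⁻¹ * (w : G)⁻¹ * w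
  group

/-- `W_Y` centralises `Ī` -/
theorem rp_W_I {Y : Subgroup G} (hY : Pnt V Z Y) {a : G} (ha : a ∈ ws V Y) {u : G} (hu : u ∈ IV V Z) :
    h.rp ⟨a, h.W_hat hY ha⟩ (h.fm ⟨u, h.one.I_le_W' hu⟩) = h.fm ⟨u, h.one.I_le_W' hu⟩ := by
  have e : h.rp ⟨a, h.W_hat hY ha⟩ (h.fm ⟨u, h.one.I_le_W' hu⟩) = _ := h.rp_fm' (h.W_hat hY ha) (h.one.I_le_W' hu)
  rw [e]
  congr 1
  apply Subtype.ext
  show a * u * a⁻¹ = u
  rw [← h.one.I_comm_W hY hu ha, mul_inv_cancel_right]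

/-- `A` is quadratic -/
theorem rp_quad {Y : Subgroup G} (hY : Pnt V Z Y) (hne : Y ≠ Z) {a b : G} (ha : a ∈ ws V Y) (hb : b ∈ ws V Y) (m : h.MF) :
    h.rp ⟨a, h.W_hat hY ha⟩ (h.rp ⟨b, h.W_hat hY hb⟩ m - m) = h.rp ⟨b, h.W_hat hY hb⟩ m - m := by
  obtain ⟨w, rfl⟩ := h.fm_surj m
  obtain ⟨u, hu, -, e⟩ := h.rp_W hY hne hb w
  rw [e]
  exact h.rp_W_I hY ha hu

/-- `[MF, W_Y]` -/
noncomputable def Rb {Y : Subgroup G} (hY : Pnt V Z Y) : Submodule F h.MF :=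
  ⨆ a : ws V Y, LinearMap.range (h.rp ⟨a, h.W_hat hY a.2⟩ - 1)

theorem mem_Rb {Y : Subgroup G} (hY : Pnt V Z Y) {a : G} (ha : a ∈ ws V Y) (m : h.MF) :
    h.rp ⟨a, h.W_hat hY ha⟩ m - m ∈ h.Rb hY :=
  ((le_iSup (fun a : ws V Y => LinearMap.range (h.rp ⟨a, h.W_hat hY a.2⟩ - 1)) ⟨a, ha⟩) ⟨m, rfl⟩ :)

/-- `Ī` -/
noncomputable def Ib : AddSubgroup h.MF where
  carrier := {m | ∃ u, ∃ hu : u ∈ IV V Z, h.fm ⟨u, h.one.I_le_W' hu⟩ = m}
  zero_mem' := ⟨1, one_mem _, h.fm_one⟩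
  add_mem' := by
    rintro _ _ ⟨u, hu, rfl⟩ ⟨v, hv, rfl⟩
    exact ⟨u * v, mul_mem hu hv, h.fm_mul ⟨u, h.one.I_le_W' hu⟩ ⟨v, h.one.I_le_W' hv⟩⟩
  neg_mem' := by
    rintro _ ⟨u, hu, rfl⟩
    refine ⟨u, hu, ?_⟩
    rw [eq_neg_iff_add_eq_zero, ← h.fm_mul]
    have e : (⟨u, h.one.I_le_W' hu⟩ : ws V Z) * ⟨u, h.one.I_le_W' hu⟩ = 1 := Subtype.ext (h.one.I_sq hu)
    rw [e, h.fm_one]

theorem lam_le_Ib {m : h.MF} (hm : m ∈ h.lam) : m ∈ h.Ib := by
  obtain ⟨v, hv, rfl⟩ := h.mem_lam.1 hm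
  exact ⟨v, h.one.pl.V_le_IV hv, rfl⟩

theorem Rb_le_Ib {Y : Subgroup G} (hY : Pnt V Z Y) (hne : Y ≠ Z) {m : h.MF} (hm : m ∈ h.Rb hY) : m ∈ h.Ib := by
  refine Submodule.iSup_induction (motive := fun m => m ∈ h.Ib) _ hm ?_ (zero_mem _) fun _ _ => add_mem
  rintro ⟨a, ha⟩ _ ⟨m, rfl⟩
  obtain ⟨w, rfl⟩ := h.fm_surj m
  obtain ⟨u, hu, -, e⟩ := h.rp_W hY hne ha w
  exact ⟨u, hu, e.symm⟩

/-- `λ ≤ Rb` if `A` is not trivial on `W_Z / Z` -/
theorem fm_I_eq {u v : G} (hu : u ∈ IV V Z) (hv : v ∈ IV V Z) :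
    h.fm ⟨u, h.one.I_le_W' hu⟩ = h.fm ⟨v, h.one.I_le_W' hv⟩ ↔ u * v⁻¹ ∈ Z := by
  rw [h.fm_eq]
  have h2 : u * v⁻¹ ∈ IV V Z := mul_mem hu (inv_mem hv)
  exact ⟨fun h1 => h.rd_inf_I ⟨h1, h2⟩, fun h1 => h.Z_le_rd h1⟩

end Co

end Cfsg.Agent.Omega.NO3S.OneQ

end

section


/-!
# NO-3S, `OneQ`: the maps `α`, `β`, `φ` (bb OMEGA #17428, #17971, #19637 FRAME)

`NTr V Z` : `A` contains no `λ`-transvection (case (N)).

* `Co.XV_mat` : `X_l` acts on `V` by matrices of determinant 1;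
* `NTr.mem_ee` : `[w, W_Y] ≤ V` ⟹ `w ∈ E_Z`; `NTr.rd_le` : `rd ≤ D_Z`;
* `Co.sw` : the swap; `Co.Eb`; `Co.al m` (`m ∈ MF`) : the operator of `sw w sw⁻¹`, `m = fm w`;
  `al_add`, `al_eq_one` (`↔ m ∈ Eb`), `al_symm`, `al_smul_Eb`, `al_smul`.
-/

set_option autoImplicit false
set_option linter.unusedSectionVars false

namespace Cfsg.Agent.Omega.NO3S.OneQ

open Subgroup Cfsg.Agent.Omega.NO3S.PT Cfsg.Agent.Omega.NoFF.Basic
open scoped Pointwise

universe u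

variable {G : Type u} [Group G]

/-- `A` contains no `λ`-transvection: case (N) -/
def NTr (V Z : Subgroup G) : Prop :=
  ∀ Y, Pnt V Z Y → Y ≠ Z → ∀ u ∈ ws V Y, (∀ w ∈ ws V Z, u * w * u⁻¹ * w⁻¹ ∈ V) → u ∈ kx V Z

namespace Co

variable [Finite G] {F : Type*} [Field F] [CharP F 2] {S : Sylow 2 G} {B P V Z : Subgroup G} (h : Co F S B P V Z)

include h in
/-- `X_l` acts on `V` by matrices -/
theorem XV_mat {g : G} (hg : g ∈ XV V Z) : ∃ a b c d : F, a * d + b * c = 1 ∧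
    ∀ x y, g * h.e x y * g⁻¹ = h.e (a * x + b * y) (c * x + d * y) := by
  let E : Subgroup G :=
    { carrier := {g | ∃ a b c d : F, a * d + b * c = 1 ∧
        ∀ x y, g * h.e x y * g⁻¹ = h.e (a * x + b * y) (c * x + d * y)}
      one_mem' := ⟨1, 0, 0, 1, by ring, fun x y => by
        rw [one_mul, inv_one, mul_one]; congr 1 <;> ring⟩
      mul_mem' := by
        rintro g k ⟨a, b, c, d, h1, h2⟩ ⟨a', b', c', d', h1', h2'⟩
        refine ⟨a * a' + b * c', a * b' + b * d', c * a' + d * c', c * b' + d * d', ?_, fun x y => ?_⟩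
        · have h3 : (a * a' + b * c') * (c * b' + d * d') + (a * b' + b * d') * (c * a' + d * c') =
              (a * d + b * c) * (a' * d' + b' * c') + (a * c * a' * b' + a * c * a' * b') +
                (b * d * c' * d' + b * d * c' * d') := by ring
          rw [h3, h1, h1', CharTwo.add_self_eq_zero, CharTwo.add_self_eq_zero, mul_one, add_zero, add_zero]
        · have e : g * k * h.e x y * (g * k)⁻¹ = g * (k * h.e x y * k⁻¹) * g⁻¹ := by group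
          rw [e, h2', h2]
          congr 1 <;> ring
      inv_mem' := by
        rintro g ⟨a, b, c, d, h1, h2⟩
        refine ⟨d, b, c, a, by rw [mul_comm d a]; exact h1, fun x y => ?_⟩
        have h3 := h2 (d * x + b * y) (c * x + a * y)
        have e1 : a * (d * x + b * y) + b * (c * x + a * y) = x := by
          have : a * (d * x + b * y) + b * (c * x + a * y) = (a * d + b * c) * x + (a * b * y + a * b * y) := by ring
          rw [this, h1, CharTwo.add_self_eq_zero, one_mul, add_zero]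
        have e2 : c * (d * x + b * y) + d * (c * x + a * y) = y := by
          have : c * (d * x + b * y) + d * (c * x + a * y) = (a * d + b * c) * y + (c * d * x + c * d * x) := by ring
          rw [this, h1, CharTwo.add_self_eq_zero, one_mul, add_zero]
        rw [e1, e2] at h3
        rw [← h3, inv_inv]
        group }
  have h1 : XV V Z ≤ E := by
    refine h.XV_le.trans (sup_le ?_ ?_)
    · intro k hk
      obtain ⟨t, ht⟩ := h.K_tv hk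
      exact ⟨1, t, 0, 1, by ring, fun x y => by rw [ht]; congr 1 <;> ring⟩
    · intro k hk
      obtain ⟨t, ht⟩ := h.K_tv' hk
      exact ⟨1, 0, t, 1, by ring, fun x y => by rw [ht]; congr 1 <;> ring⟩
  exact h1 hg

/-- the swap in `X_l` -/
noncomputable def sw : G := (h.exists_n (one_ne_zero (α := F))).choose

theorem sw_XV : h.sw ∈ XV V Z := (h.exists_n (one_ne_zero (α := F))).choose_spec.1

theorem sw_act (x y : F) : h.sw * h.e x y * h.sw⁻¹ = h.e y x := by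
  have h1 : h.sw * h.e x y * h.sw⁻¹ = h.e (1 * y) (1⁻¹ * x) :=
    (h.exists_n (one_ne_zero (α := F))).choose_spec.2 x y
  rw [h1, inv_one, one_mul, one_mul]

theorem sw_act' (x y : F) : h.sw⁻¹ * h.e x y * h.sw = h.e y x := by
  rw [← h.sw_act y x]; group

theorem cj_sw : cj h.sw Z = h.Yp := h.cj_swap h.sw_act

theorem cj_sw' : cj h.sw h.Yp = Z := by
  ext v
  rw [mem_cj, h.mem_Yp, h.mem_Z]
  constructor
  · rintro ⟨b, hb⟩
    refine ⟨b, ?_⟩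
    rw [← h.sw_act, hb]; group
  · rintro ⟨a, rfl⟩
    exact ⟨a, (h.sw_act' a 0).symm⟩

theorem sw_sq : h.sw * h.sw ∈ yl V Z := by
  rw [← h.XV_cent]
  refine ⟨mul_mem h.sw_XV h.sw_XV, h.mem_cent fun a b => ?_⟩
  have e : h.sw * h.sw * h.e a b * (h.sw * h.sw)⁻¹ = h.sw * (h.sw * h.e a b * h.sw⁻¹) * h.sw⁻¹ := by group
  rw [e, h.sw_act, h.sw_act]

theorem sw_N : h.sw ∈ normalizer (V : Set G) := h.one.pl.XV_le_N h.sw_XV

theorem sw_W {w : G} (hw : w ∈ ws V Z) : h.sw * w * h.sw⁻¹ ∈ ws V h.Yp := by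
  have := conj_mem_cj (g := h.sw) hw
  rwa [← ws_cj, h.cj_sw] at this

theorem sw_W' {w : G} (hw : w ∈ ws V h.Yp) : h.sw * w * h.sw⁻¹ ∈ ws V Z := by
  have := conj_mem_cj (g := h.sw) hw
  rwa [← ws_cj, h.cj_sw'] at this

theorem sw_inv_W {w : G} (hw : w ∈ ws V h.Yp) : h.sw⁻¹ * w * h.sw ∈ ws V Z := by
  rw [← h.cj_sw, ws_cj, mem_cj] at hw
  exact hw

theorem sw_ee {w : G} : h.sw * w * h.sw⁻¹ ∈ ee V Z h.Yp ↔ w ∈ ee V Z Z := by
  rw [← h.cj_sw, ← cj_ee h.sw_N, mem_cj]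
  have e : h.sw⁻¹ * (h.sw * w * h.sw⁻¹) * h.sw = w := by group
  rw [e]

end Co

namespace NTr

variable [Finite G] {S : Sylow 2 G} {B P V Z : Subgroup G} (hN : NTr V Z) (h : One S B P V Z)
include hN h

/-- `[w, W_Y] ≤ V` implies `w ∈ E_Z` -/
theorem mem_ee {Y : Subgroup G} (hY : Pnt V Z Y) (hne : Y ≠ Z) {w : G} (hw : w ∈ ws V Z)
    (hc : ∀ u ∈ ws V Y, w * u * w⁻¹ * u⁻¹ ∈ V) : w ∈ ee V Z Z := by
  obtain ⟨g, hg, -, hgZ, hgY⟩ := h.pl.swap h.hf h.self.cj h.self.le hY.cj hY.le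
  have hgN := h.pl.XV_le_N hg
  have h1 : g * w * g⁻¹ ∈ ws V Y := by
    have := conj_mem_cj (g := g) hw
    rwa [← ws_cj, hgZ] at this
  have h2 : g * w * g⁻¹ ∈ kx V Z := by
    refine hN Y hY hne _ h1 fun v hv => ?_
    have h3 : g⁻¹ * v * g ∈ ws V Y := by
      rw [← hgY, ws_cj, mem_cj] at hv
      exact hv
    have h4 := (mem_normalizer_iff.1 hgN _).1 (hc _ h3)
    have e : g * (w * (g⁻¹ * v * g) * w⁻¹ * (g⁻¹ * v * g)⁻¹) * g⁻¹ = g * w * g⁻¹ * v * (g * w * g⁻¹)⁻¹ * v⁻¹ := by group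
    rwa [e] at h4
  have h3 : g * w * g⁻¹ ∈ ee V Z Y := by
    rw [h.ee_eq hY h.self hne.symm]
    exact ⟨h1, h2⟩
  rw [← hgZ, ← cj_ee hgN, mem_cj] at h3
  have e : g⁻¹ * (g * w * g⁻¹) * g = w := by group
  rwa [e] at h3

omit hN in
/-- `NN` (helper248) implies `NTr` -/
theorem of_nn (hN : NN V Z) : NTr V Z := by
  intro Y hY hne u hu hc
  obtain ⟨g, hg, -, hgZ, hgY⟩ := h.pl.swap h.hf h.self.cj h.self.le hY.cj hY.le
  have hgN := h.pl.XV_le_N hg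
  have h1 : g * u * g⁻¹ ∈ ws V Z := by
    have := conj_mem_cj (g := g) hu
    rwa [← ws_cj, hgY] at this
  have h2 : g * u * g⁻¹ ∈ ee V Z Z := by
    refine hN (h.n0_eq h.self hY hne h1 fun v hv => ?_)
    have h3 : g⁻¹ * v * g ∈ ws V Z := by
      rw [← hgZ, ws_cj, mem_cj] at hv
      exact hv
    have h4 := (mem_normalizer_iff.1 hgN _).1 (hc _ h3)
    have e : g * (u * (g⁻¹ * v * g) * u⁻¹ * (g⁻¹ * v * g)⁻¹) * g⁻¹ = g * u * g⁻¹ * v * (g * u * g⁻¹)⁻¹ * v⁻¹ := by group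
    rwa [e] at h4
  have h3 : u ∈ ee V Z Y := by
    have h4 : g * u * g⁻¹ ∈ cj g (ee V Z Y) := by
      rw [cj_ee hgN, hgY]
      exact h2
    rw [mem_cj] at h4
    have e : g⁻¹ * (g * u * g⁻¹) * g = u := by group
    rwa [e] at h4
  rw [h.ee_eq hY h.self hne.symm] at h3
  exact h3.2

end NTr

namespace Co

variable [Finite G] {F : Type*} [Field F] [CharP F 2] {S : Sylow 2 G} {B P V Z : Subgroup G} (h : Co F S B P V Z)

include h in
/-- `rd ≤ D_Z` in case (N) -/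
theorem rd_le_dd (hN : NTr V Z) : rd V Z ≤ dd V Z Z := by
  intro w hw
  have hwW := rd_le hw
  have h1 : w ∈ ee V Z Z := by
    refine hN.mem_ee h.one h.pY h.Yp_ne hwW fun u hu => h.one.pl.ZV ?_
    exact h.rd_comm h.pY h.Yp_ne hw hu
  refine h.one.mem_dd_of h.one.self h.pY h.Yp_ne hwW fun u hu => ?_
  have h2 := h.one.ee_act' h.pY h.Yp_ne h1 hu
  have h3 := h.rd_comm h.pY h.Yp_ne hw hu
  have h3' : u * w * u⁻¹ * w⁻¹ ∈ Z := by
    have := inv_mem h3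
    have e : (w * u * w⁻¹ * u⁻¹)⁻¹ = u * w * u⁻¹ * w⁻¹ := by group
    rwa [e] at this
  have h4 : u * w * u⁻¹ * w⁻¹ ∈ Z ⊓ h.Yp := ⟨h3', h2⟩
  rw [h.one.pl.pts_inf h.one.self.cj h.pY.cj h.Yp_ne.symm, mem_bot, mul_inv_eq_one, mul_inv_eq_iff_eq_mul] at h4
  exact h4.symm

include h in
/-- `rd ≤ E_Z` in case (N) -/
theorem rd_le_ee (hN : NTr V Z) : rd V Z ≤ ee V Z Z := (h.rd_le_dd hN).trans (h.one.dd_le_ee h.one.self)

include h in
/-- `D_Z = I` implies `rd = Z` -/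
theorem rd_eq (hN : NTr V Z) (hD : dd V Z Z ≤ IV V Z) : rd V Z = Z :=
  le_antisymm ((le_inf le_rfl ((h.rd_le_dd hN).trans hD)).trans h.rd_inf_I) h.Z_le_rd

/-- `Ē` -/
noncomputable def Eb : Submodule F h.MF where
  carrier := {m | ∀ a (ha : a ∈ ws V h.Yp), h.rp ⟨a, h.W_hat h.pY ha⟩ m - m ∈ h.lam}
  zero_mem' := fun a ha => by rw [map_zero, sub_zero]; exact zero_mem _
  add_mem' := by
    intro m n hm hn a ha
    rw [map_add, add_sub_add_comm]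
    exact add_mem (hm a ha) (hn a ha)
  smul_mem' := by
    intro c m hm a ha
    have e : h.rp ⟨a, h.W_hat h.pY ha⟩ (c • m) - c • m = c • (h.rp ⟨a, h.W_hat h.pY ha⟩ m - m) := by
      rw [map_smul]; exact (smul_sub _ _ _).symm
    rw [e]
    exact h.lam.smul_mem c (hm a ha)

theorem mem_Eb {m : h.MF} : m ∈ h.Eb ↔ ∀ a (ha : a ∈ ws V h.Yp), h.rp ⟨a, h.W_hat h.pY ha⟩ m - m ∈ h.lam := Iff.rfl

theorem fm_Eb {w : ws V Z} (hw : (w : G) ∈ ee V Z Z) : h.fm w ∈ h.Eb := by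
  intro a ha
  obtain ⟨u, hu, hu', e⟩ := h.rp_W h.pY h.Yp_ne ha w
  rw [e, h.fm_mem_lam_I hu, hu']
  exact h.pY.le (h.one.ee_act' h.pY h.Yp_ne hw ha)

theorem fm_Eb_iff (hN : NTr V Z) {w : ws V Z} : h.fm w ∈ h.Eb ↔ (w : G) ∈ ee V Z Z := by
  refine ⟨fun h1 => hN.mem_ee h.one h.pY h.Yp_ne w.2 fun u hu => ?_, h.fm_Eb⟩
  obtain ⟨v, hv, hv', e⟩ := h.rp_W h.pY h.Yp_ne hu w
  have h2 := h1 u hu
  rw [e, h.fm_mem_lam_I hv, hv'] at h2
  have h3 := inv_mem h2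
  have e : (u * w * u⁻¹ * (w : G)⁻¹)⁻¹ = w * u * (w : G)⁻¹ * u⁻¹ := by group
  rwa [e] at h3

theorem add_self (m : h.MF) : m + m = 0 := by
  rw [← two_smul F m, CharTwo.two_eq_zero, zero_smul]

theorem neg_eq (m : h.MF) : -m = m := neg_eq_of_add_eq_zero_left (h.add_self m)

theorem sub_eq (m n : h.MF) : m - n = m + n := by rw [sub_eq_add_neg, h.neg_eq]

/-- the operator of `sw w sw⁻¹` -/
noncomputable def ag (w : ws V Z) : Module.End F h.MF := h.rp ⟨h.sw * w * h.sw⁻¹, h.W_hat h.pY (h.sw_W w.2)⟩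

theorem ag_mul (w w' : ws V Z) : h.ag (w * w') = h.ag w * h.ag w' := by
  rw [ag, ag, ag, ← map_mul]
  congr 1
  apply Subtype.ext
  show h.sw * (w * w') * h.sw⁻¹ = h.sw * w * h.sw⁻¹ * (h.sw * w' * h.sw⁻¹)
  group

/-- `W_Y ∩ K_Z` acts trivially -/
theorem rp_one_of {g : G} (hg : g ∈ kx V Z) (hgh : g ∈ h.hat) : h.rp ⟨g, hgh⟩ = 1 :=
  LinearMap.ext fun m => h.rp_K hg m

theorem ag_one_of {w : ws V Z} (hw : (w : G) ∈ ee V Z Z) : h.ag w = 1 := by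
  refine h.rp_one_of ?_ _
  have h1 := h.sw_ee.2 hw
  rw [h.one.ee_eq h.pY h.one.self h.Yp_ne.symm] at h1
  exact h1.2

theorem ag_eq_one (hN : NTr V Z) {w : ws V Z} : h.ag w = 1 ↔ (w : G) ∈ ee V Z Z := by
  refine ⟨fun h1 => ?_, h.ag_one_of⟩
  have h2 : h.sw * w * h.sw⁻¹ ∈ ee V Z h.Yp := by
    rw [h.one.ee_eq h.pY h.one.self h.Yp_ne.symm]
    refine ⟨h.sw_W w.2, hN _ h.pY h.Yp_ne _ (h.sw_W w.2) fun v hv => ?_⟩
    obtain ⟨u, hu, hu', e⟩ := h.rp_W h.pY h.Yp_ne (h.sw_W w.2) ⟨v, hv⟩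
    have h3 : h.rp ⟨h.sw * w * h.sw⁻¹, h.W_hat h.pY (h.sw_W w.2)⟩ = 1 := h1
    rw [h3, Module.End.one_apply, sub_self] at e
    rw [← hu', ← h.fm_mem_lam_I hu, ← e]
    exact zero_mem _
  exact h.sw_ee.1 h2

theorem ag_congr (hN : NTr V Z) {w w' : ws V Z} (hw : h.fm w - h.fm w' ∈ h.Eb) : h.ag w = h.ag w' := by
  have h1 : h.fm (w * w'⁻¹) ∈ h.Eb := by
    rw [h.fm_mul, h.fm_inv]
    rw [← h.sub_eq]
    exact hw
  have h2 := (h.ag_eq_one hN).2 ((h.fm_Eb_iff hN).1 h1)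
  have h3 := h.ag_mul (w * w'⁻¹) w'
  rw [inv_mul_cancel_right, h2, one_mul] at h3
  exact h3

/-- **`α`** -/
noncomputable def al (m : h.MF) : Module.End F h.MF := h.ag (h.fm_surj m).choose

theorem al_fm (hN : NTr V Z) (w : ws V Z) : h.al (h.fm w) = h.ag w := by
  refine h.ag_congr hN ?_
  rw [(h.fm_surj (h.fm w)).choose_spec, sub_self]
  exact zero_mem _

theorem al_add (hN : NTr V Z) (m n : h.MF) : h.al (m + n) = h.al m * h.al n := by
  obtain ⟨w, rfl⟩ := h.fm_surj m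
  obtain ⟨w', rfl⟩ := h.fm_surj n
  rw [← h.fm_mul, h.al_fm hN, h.al_fm hN, h.al_fm hN, h.ag_mul]

theorem al_eq_one (hN : NTr V Z) {m : h.MF} : h.al m = 1 ↔ m ∈ h.Eb := by
  obtain ⟨w, rfl⟩ := h.fm_surj m
  rw [h.al_fm hN, h.ag_eq_one hN, h.fm_Eb_iff hN]

theorem al_zero (hN : NTr V Z) : h.al 0 = 1 := (h.al_eq_one hN).2 (zero_mem _)

theorem al_sq (hN : NTr V Z) (m : h.MF) : h.al m * h.al m = 1 := by
  rw [← h.al_add hN, h.add_self, h.al_zero hN]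

theorem al_congr (hN : NTr V Z) {m n : h.MF} : h.al m = h.al n ↔ m + n ∈ h.Eb := by
  rw [← h.al_eq_one hN, h.al_add hN]
  constructor
  · intro e
    rw [e, h.al_sq hN]
  · intro e
    calc h.al m = h.al m * (h.al n * h.al n) := by rw [h.al_sq hN, mul_one]
      _ = h.al m * h.al n * h.al n := (mul_assoc _ _ _).symm
      _ = h.al n := by rw [e, one_mul]

theorem exists_al (hN : NTr V Z) (m : h.MF) :
    ∃ a, ∃ ha : a ∈ ws V h.Yp, h.al m = h.rp ⟨a, h.W_hat h.pY ha⟩ := by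
  obtain ⟨w, rfl⟩ := h.fm_surj m
  exact ⟨_, h.sw_W w.2, h.al_fm hN w⟩

theorem al_surj (hN : NTr V Z) {a : G} (ha : a ∈ ws V h.Yp) : ∃ m, h.al m = h.rp ⟨a, h.W_hat h.pY ha⟩ := by
  have h1 := h.sw_inv_W ha
  refine ⟨h.fm ⟨_, h1⟩, ?_⟩
  rw [h.al_fm hN, ag]
  congr 1
  apply Subtype.ext
  show h.sw * (h.sw⁻¹ * a * h.sw) * h.sw⁻¹ = a
  group

theorem al_Ib (hN : NTr V Z) (m : h.MF) {x : h.MF} (hx : x ∈ h.Ib) : h.al m x = x := by
  obtain ⟨a, ha, e⟩ := h.exists_al hN m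
  obtain ⟨u, hu, rfl⟩ := hx
  rw [e]
  exact h.rp_W_I h.pY ha hu

theorem al_sub_Ib (hN : NTr V Z) (m x : h.MF) : h.al m x - x ∈ h.Ib := by
  obtain ⟨a, ha, e⟩ := h.exists_al hN m
  rw [e]
  exact h.Rb_le_Ib h.pY h.Yp_ne (h.mem_Rb h.pY ha x)

theorem al_Eb (hN : NTr V Z) (m : h.MF) {x : h.MF} (hx : x ∈ h.Eb) : h.al m x - x ∈ h.lam := by
  obtain ⟨a, ha, e⟩ := h.exists_al hN m
  rw [e]
  exact hx a ha

theorem mem_Eb_iff (hN : NTr V Z) {x : h.MF} : x ∈ h.Eb ↔ ∀ m, h.al m x - x ∈ h.lam := by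
  refine ⟨fun hx m => h.al_Eb hN m hx, fun hx a ha => ?_⟩
  obtain ⟨m, hm⟩ := h.al_surj hN ha
  rw [← hm]
  exact hx m

theorem sw_ee' {x : G} (hx : x ∈ ee V Z Z) : h.sw⁻¹ * x * h.sw ∈ ee V Z h.Yp := by
  have h1 : x ∈ cj h.sw (ee V Z h.Yp) := by
    rw [cj_ee h.sw_N, h.cj_sw']
    exact hx
  exact mem_cj.1 h1

theorem sw_ee_kx {x : G} (hx : x ∈ ee V Z Z) : h.sw⁻¹ * x * h.sw ∈ kx V Z := by
  have h1 := h.sw_ee' hx
  rw [h.one.ee_eq h.pY h.one.self h.Yp_ne.symm] at h1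
  exact h1.2

/-- the formula for `φ_e` -/
theorem ag_ee {x : G} (hx : x ∈ ee V Z Z) (w : ws V Z) :
    h.ag w (h.fm ⟨x, ee_le hx⟩) - h.fm ⟨x, ee_le hx⟩ = h.fn w (h.sw⁻¹ * x * h.sw) • h.v0 := by
  obtain ⟨u, hu, hu', e⟩ := h.rp_W h.pY h.Yp_ne (h.sw_W w.2) ⟨x, ee_le hx⟩
  have hk := h.sw_ee_kx hx
  have e1 := h.e_fn w.2 hk
  have e2 : u = h.e 0 (h.fn w (h.sw⁻¹ * x * h.sw)) := by
    rw [hu', ← h.sw_act, ← h.e_inv, e1]
    group
  have e3 : h.ag w (h.fm ⟨x, ee_le hx⟩) - h.fm ⟨x, ee_le hx⟩ = _ := e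
  rw [e3, ← h.fm_e 0]
  congr 1
  exact Subtype.ext e2

/-- **`φ_e` is `F`-linear** -/
theorem al_smul_Eb (hN : NTr V Z) (c : F) (m : h.MF) {x : h.MF} (hx : x ∈ h.Eb) :
    h.al (c • m) x - x = c • (h.al m x - x) := by
  obtain ⟨w, rfl⟩ := h.fm_surj m
  obtain ⟨y, rfl⟩ := h.fm_surj x
  obtain ⟨w', hw'⟩ := h.fm_surj (c • h.fm w)
  have hy := (h.fm_Eb_iff hN).1 hx
  have h1 := h.ag_ee hy w
  have h2 := h.ag_ee hy w'
  have hk := h.sw_ee_kx hy
  have h3 : h.fn w' (h.sw⁻¹ * y * h.sw) = c * h.fn w (h.sw⁻¹ * y * h.sw) := by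
    have h4 := congrFun (congrArg Subtype.val hw') ⟨_, hk⟩
    exact h4
  rw [← hw', h.al_fm hN, h.al_fm hN]
  have e1 : h.ag w' (h.fm y) - h.fm y = _ := h2
  have e2 : h.ag w (h.fm y) - h.fm y = _ := h1
  rw [e1, e2, h3, mul_smul]

/-- **`β` is symmetric** -/
theorem ag_symm (w w' : ws V Z) : (h.ag w' (h.fm w) - h.fm w) - (h.ag w (h.fm w') - h.fm w') ∈ h.lam := by
  obtain ⟨u, hu, hu', e⟩ := h.rp_W h.pY h.Yp_ne (h.sw_W w'.2) w
  obtain ⟨v, hv, hv', e'⟩ := h.rp_W h.pY h.Yp_ne (h.sw_W w.2) w'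
  have e1 : h.ag w' (h.fm w) - h.fm w = _ := e
  have e2 : h.ag w (h.fm w') - h.fm w' = _ := e'
  rw [e1, e2, h.sub_eq, ← h.fm_mul]
  have hI : u * v ∈ IV V Z := mul_mem hu hv
  have key : u * v ∈ V := by
    -- `s⁻¹ u s = u` mod `V`
    have h1 : h.sw⁻¹ * u * h.sw * u⁻¹ ∈ V := by
      have := h.one.XV_I (inv_mem h.sw_XV) hu
      rwa [inv_inv] at this
    set a := h.sw * w * h.sw⁻¹ with ha
    have haW : a ∈ ws V h.Yp := h.sw_W w.2
    have hy := inv_mem h.sw_sq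
    have h2 := h.one.yl_ee h.pY hy haW
    set ε := (h.sw * h.sw)⁻¹ * a * (h.sw * h.sw)⁻¹⁻¹ * a⁻¹ with hε
    have h3 : h.sw⁻¹ * w * h.sw = ε * a := by rw [hε, ha]; group
    have h4 : h.sw⁻¹ * u * h.sw = w' * (ε * a) * (w' : G)⁻¹ * (ε * a)⁻¹ := by
      rw [← h3, hu']; group
    have h5 : w' * ε * (w' : G)⁻¹ * ε⁻¹ ∈ Z := h.one.ee_act' h.one.self h.Yp_ne.symm h2 w'.2
    have hεW : ε ∈ ws V h.Yp := ee_le h2
    have h6 : w' * a * (w' : G)⁻¹ * a⁻¹ ∈ IV V Z := h.one.comm_mem h.one.self h.pY h.Yp_ne.symm w'.2 haW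
    have h7 : ε * (w' * a * (w' : G)⁻¹ * a⁻¹) = w' * a * (w' : G)⁻¹ * a⁻¹ * ε := (h.one.I_comm_W h.pY h6 hεW).symm
    have h8 : w' * (ε * a) * (w' : G)⁻¹ * (ε * a)⁻¹ = w' * ε * (w' : G)⁻¹ * ε⁻¹ * (w' * a * (w' : G)⁻¹ * a⁻¹) := by
      calc w' * (ε * a) * (w' : G)⁻¹ * (ε * a)⁻¹ =
          w' * ε * (w' : G)⁻¹ * ε⁻¹ * (ε * (w' * a * (w' : G)⁻¹ * a⁻¹)) * ε⁻¹ := by group
        _ = _ := by rw [h7]; group
    have h9 : w' * a * (w' : G)⁻¹ * a⁻¹ = v⁻¹ := by rw [hv']; group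
    rw [h8, h9] at h4
    rw [h4] at h1
    have h10 : v⁻¹ * u⁻¹ ∈ V := by
      have e3 : v⁻¹ * u⁻¹ = (w' * ε * (w' : G)⁻¹ * ε⁻¹)⁻¹ * (w' * ε * (w' : G)⁻¹ * ε⁻¹ * v⁻¹ * u⁻¹) := by group
      rw [e3]
      exact mul_mem (inv_mem (h.one.pl.ZV h5)) h1
    have h11 := inv_mem h10
    rwa [mul_inv_rev, inv_inv, inv_inv] at h11
  rw [h.mem_lam]
  exact ⟨⟨u * v, h.one.I_le_W' hI⟩, key, rfl⟩

theorem al_symm (hN : NTr V Z) (m n : h.MF) : (h.al n m - m) - (h.al m n - n) ∈ h.lam := by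
  obtain ⟨w, rfl⟩ := h.fm_surj m
  obtain ⟨w', rfl⟩ := h.fm_surj n
  rw [h.al_fm hN, h.al_fm hN]
  exact h.ag_symm w w'

/-- **`β` is `F`-bilinear** -/
theorem al_smul (hN : NTr V Z) (c : F) (m n : h.MF) : (h.al (c • m) n - n) - c • (h.al m n - n) ∈ h.lam := by
  have h1 := h.al_symm hN (c • m) n
  have h2 := h.lam.smul_mem c (h.al_symm hN m n)
  have h3 := sub_mem h2 h1
  have e : h.al n (c • m) - c • m = c • (h.al n m - m) := by
    rw [map_smul]; exact (smul_sub _ _ _).symm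
  rw [e] at h3
  have e2 : c • ((h.al n m - m) - (h.al m n - n)) - (c • (h.al n m - m) - (h.al (c • m) n - n)) =
      (h.al (c • m) n - n) - c • (h.al m n - n) := by
    have e3 : c • ((h.al n m - m) - (h.al m n - n)) = c • (h.al n m - m) - c • (h.al m n - n) := smul_sub _ _ _
    rw [e3]
    abel
  rw [← e2]
  exact h3

/-! ### `K~` -/

include h in
theorem yl_C : yl V Z ≤ centralizer (Z : Set G) := (yl_le_cent V Z).trans (centralizer_le h.one.pl.ZV)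

/-- `Y_l` centralises `A` -/
theorem yl_A {k : G} (hk : k ∈ yl V Z) {a : G} (ha : a ∈ ws V h.Yp) :
    h.rp ⟨k, h.C_le_hat (h.yl_C hk)⟩ * h.rp ⟨a, h.W_hat h.pY ha⟩ =
      h.rp ⟨a, h.W_hat h.pY ha⟩ * h.rp ⟨k, h.C_le_hat (h.yl_C hk)⟩ := by
  have h1 := h.one.yl_ee h.pY hk ha
  rw [h.one.ee_eq h.pY h.one.self h.Yp_ne.symm] at h1
  have h2 := h.rp_one_of h1.2 (h.C_le_hat (kx_le_cent h1.2))
  rw [← map_mul, ← map_mul]
  have e : (⟨k, h.C_le_hat (h.yl_C hk)⟩ * ⟨a, h.W_hat h.pY ha⟩ : h.hat) =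
      ⟨k * a * k⁻¹ * a⁻¹, h.C_le_hat (kx_le_cent h1.2)⟩ * (⟨a, h.W_hat h.pY ha⟩ * ⟨k, h.C_le_hat (h.yl_C hk)⟩) :=
    Subtype.ext (by
      show k * a = k * a * k⁻¹ * a⁻¹ * (a * k)
      group)
  rw [e, map_mul, h2, one_mul]

theorem hat_inv_mul {g : G} (hg : g ∈ h.hat) : h.rp ⟨g⁻¹, inv_mem hg⟩ * h.rp ⟨g, hg⟩ = 1 := by
  rw [← map_mul]
  have e : (⟨g⁻¹, inv_mem hg⟩ * ⟨g, hg⟩ : h.hat) = 1 := Subtype.ext (inv_mul_cancel g)
  rw [e, map_one]

theorem hat_mul_inv {g : G} (hg : g ∈ h.hat) : h.rp ⟨g, hg⟩ * h.rp ⟨g⁻¹, inv_mem hg⟩ = 1 := by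
  rw [← map_mul]
  have e : (⟨g, hg⟩ * ⟨g⁻¹, inv_mem hg⟩ : h.hat) = 1 := Subtype.ext (mul_inv_cancel g)
  rw [e, map_one]

/-- **`α` is `C_G(V)`-equivariant** -/
theorem al_equi (hN : NTr V Z) {c : G} (hc : c ∈ centralizer (V : Set G)) (m : h.MF) :
    h.al (h.rp ⟨c, h.C_le_hat (centralizer_le h.one.pl.ZV hc)⟩ m) * h.rp ⟨c, h.C_le_hat (centralizer_le h.one.pl.ZV hc)⟩ =
      h.rp ⟨c, h.C_le_hat (centralizer_le h.one.pl.ZV hc)⟩ * h.al m := by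
  obtain ⟨w, rfl⟩ := h.fm_surj m
  have hcC := centralizer_le h.one.pl.ZV hc
  have hch := h.C_le_hat hcC
  have e : h.rp ⟨c, hch⟩ (h.fm w) = _ := h.rp_fm' hch w.2
  rw [e, h.al_fm hN, h.al_fm hN, ag, ag]
  -- `s c = y c s`
  have hy : h.sw * c * h.sw⁻¹ * c⁻¹ ∈ yl V Z := h.one.comm_yl h.sw_XV hc
  set y := h.sw * c * h.sw⁻¹ * c⁻¹ with hyd
  set a := h.sw * w * h.sw⁻¹ with had
  have haW : a ∈ ws V h.Yp := h.sw_W w.2
  have hca : c * a * c⁻¹ ∈ ws V h.Yp := (mem_normalizer_iff.1 (h.one.cent_norm_W h.pY hc) _).1 haW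
  have h1 := h.yl_A hy hca
  have h2 := h.hat_mul_inv (h.C_le_hat (h.yl_C hy))
  have e1 : (⟨h.sw * (c * w * c⁻¹) * h.sw⁻¹, h.W_hat h.pY (h.sw_W (h.W_conj (h.hat_norm hch) w.2))⟩ : h.hat) *
      ⟨c, hch⟩ = ⟨y, h.C_le_hat (h.yl_C hy)⟩ * ⟨c * a * c⁻¹, h.W_hat h.pY hca⟩ * ⟨y⁻¹, inv_mem (h.C_le_hat (h.yl_C hy))⟩ *
        ⟨c, hch⟩ := Subtype.ext (by
    show h.sw * (c * w * c⁻¹) * h.sw⁻¹ * c = y * (c * a * c⁻¹) * y⁻¹ * c
    rw [hyd, had]; group)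
  have e2 : (⟨c, hch⟩ : h.hat) * ⟨a, h.W_hat h.pY haW⟩ = ⟨c * a * c⁻¹, h.W_hat h.pY hca⟩ * ⟨c, hch⟩ :=
    Subtype.ext (by
      show c * a = c * a * c⁻¹ * c
      group)
  have e3 : h.rp (⟨h.sw * (c * w * c⁻¹) * h.sw⁻¹, h.W_hat h.pY (h.sw_W (h.W_conj (h.hat_norm hch) w.2))⟩ : h.hat) *
      h.rp ⟨c, hch⟩ = h.rp ⟨c, hch⟩ * h.rp ⟨a, h.W_hat h.pY haW⟩ := by
    rw [← map_mul, e1, map_mul, map_mul, map_mul, h1, mul_assoc (h.rp ⟨c * a * c⁻¹, h.W_hat h.pY hca⟩), h2, mul_one,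
      ← map_mul, ← map_mul, e2]
  exact e3

include h in
/-- **`K~`** : `[u, K_Y ∩ C_G(V)] = Y`, `u ∈ I - V` -/
theorem exists_yl {u : G} (hu : u ∈ IV V Z) (huV : u ∉ V) (a : F) :
    ∃ k ∈ yl V Z, k * u * k⁻¹ = h.e 0 a * u := by
  obtain ⟨k, hk, hkV, hku⟩ := h.one.pl.F2' h.one.hf h.one.hO hu huV h.pY.cj h.pY.le (h.e_memY a)
  refine ⟨k, mem_yl_of h.pY hk hkV, ?_⟩
  rw [← hku]; group

/-- an element of `C_G(Z)` fixing the line vector lies in `K_Z C_G(V)` -/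
theorem fix_v0 (hrd : rd V Z = Z) {d : G} (hd : d ∈ centralizer (Z : Set G))
    (hd0 : h.rp ⟨d, h.C_le_hat hd⟩ h.v0 = h.v0) : ∃ k ∈ kx V Z, k⁻¹ * d ∈ centralizer (V : Set G) := by
  have h1 : ∀ y, d * h.e 0 y * d⁻¹ * (h.e 0 y)⁻¹ ∈ Z := by
    intro y
    have e : h.rp ⟨d, h.C_le_hat hd⟩ (h.fm ⟨h.e 0 y, h.W_V 0 y⟩) = _ := h.rp_fm' (h.C_le_hat hd) (h.W_V 0 y)
    have e2 : h.rp ⟨d, h.C_le_hat hd⟩ (h.fm ⟨h.e 0 y, h.W_V 0 y⟩) = h.fm ⟨h.e 0 y, h.W_V 0 y⟩ := by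
      rw [h.fm_e, map_smul, hd0]
    rw [e, h.fm_eq, hrd] at e2
    exact e2
  obtain ⟨t, ht⟩ := (h.mem_Z _).1 (h1 1)
  obtain ⟨k, hk, -, hkt⟩ := h.exists_K t
  refine ⟨k, hk, ?_⟩
  set f := k⁻¹ * d with hf
  have hkC : k ∈ centralizer (Z : Set G) := kx_le_cent hk
  have hfC : f ∈ centralizer (Z : Set G) := mul_mem (inv_mem hkC) hd
  have hf1 : f * h.e 0 1 = h.e 0 1 * f := by
    have e1 : d * h.e 0 1 * d⁻¹ = k * h.e 0 1 * k⁻¹ := by
      rw [hkt, zero_add, mul_one]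
      have e2 : d * h.e 0 1 * d⁻¹ = h.e t 0 * h.e 0 1 := by rw [ht]; group
      rw [e2, ← h.e_add, add_zero, zero_add]
    calc f * h.e 0 1 = k⁻¹ * (d * h.e 0 1 * d⁻¹) * d := by rw [hf]; group
      _ = k⁻¹ * (k * h.e 0 1 * k⁻¹) * d := by rw [e1]
      _ = h.e 0 1 * f := by rw [hf]; group
  -- `f` acts trivially on `V / Z`
  have hfy : ∀ y, ∃ x, f * h.e 0 y * f⁻¹ = h.e x y := by
    intro y
    obtain ⟨s, hs⟩ := (h.mem_Z _).1 (h1 y)
    have e2 : d * h.e 0 y * d⁻¹ = h.e s y := by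
      have e3 : d * h.e 0 y * d⁻¹ = h.e s 0 * h.e 0 y := by rw [hs]; group
      rw [e3, ← h.e_add, add_zero, zero_add]
    refine ⟨s + t * y, ?_⟩
    have hki : ∀ x y, k⁻¹ * h.e x y * k = h.e (x + t * y) y := by
      intro x y
      have e4 : h.e x y = h.e (x + t * y + t * y) y := by rw [add_assoc, CharTwo.add_self_eq_zero, add_zero]
      rw [e4, ← hkt]; group
    have e5 : f * h.e 0 y * f⁻¹ = k⁻¹ * (d * h.e 0 y * d⁻¹) * k := by rw [hf]; group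
    rw [e5, e2, hki]
  have hfz : ∀ x, f * h.e x 0 * f⁻¹ = h.e x 0 := fun x => by
    rw [(mem_centralizer_iff.1 hfC _ (h.e_memZ x)).symm, mul_inv_cancel_right]
  have hfxy : ∀ x y, ∃ x', f * h.e x y * f⁻¹ = h.e x' y := by
    intro x y
    obtain ⟨x', hx'⟩ := hfy y
    refine ⟨x + x', ?_⟩
    have e1 : h.e x y = h.e x 0 * h.e 0 y := by rw [← h.e_add, add_zero, zero_add]
    have e2 : f * h.e x y * f⁻¹ = f * h.e x 0 * f⁻¹ * (f * h.e 0 y * f⁻¹) := by rw [e1]; group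
    rw [e2, hfz, hx', ← h.e_add, zero_add]
  have hfV : f ∈ normalizer (V : Set G) := by
    rw [← cj_eq_iff]
    refine eq_of_le_of_card_ge ?_ (by rw [card_cj])
    intro v hv
    rw [mem_cj] at hv
    obtain ⟨x, y, hxy⟩ := (h.mem_V _).1 hv
    obtain ⟨x', hx'⟩ := hfxy x y
    rw [hxy] at hx'
    have e : f * (f⁻¹ * v * f) * f⁻¹ = v := by group
    rw [e] at hx'
    rw [hx']
    exact h.e_memV _ _
  have hff : f * f ∈ centralizer (V : Set G) := by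
    refine h.mem_cent fun x y => ?_
    obtain ⟨x', hx'⟩ := hfy y
    have e1 : h.e x y = h.e x 0 * h.e 0 y := by rw [← h.e_add, add_zero, zero_add]
    have e2 : f * f * h.e x y * (f * f)⁻¹ = f * (f * h.e x 0 * f⁻¹) * f⁻¹ * (f * (f * h.e 0 y * f⁻¹) * f⁻¹) := by
      rw [e1]; group
    have e3 : h.e x' y = h.e x' 0 * h.e 0 y := by rw [← h.e_add, add_zero, zero_add]
    have e4 : f * h.e x' y * f⁻¹ = f * h.e x' 0 * f⁻¹ * (f * h.e 0 y * f⁻¹) := by rw [e3]; group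
    rw [e2, hfz, hfz, hx', e4, hfz, hx', ← h.e_add, ← h.e_add]
    congr 1
    · rw [← add_assoc, add_comm x x', add_assoc, add_comm x, ← add_assoc, CharTwo.add_self_eq_zero, zero_add]
    · rw [zero_add, zero_add]
  obtain ⟨m, hm, hfm⟩ := exists_odd_pow f
  have hmV : f ^ m ∈ centralizer (V : Set G) := by
    refine h.one.pl.two_line hfm (pow_mem hfC m) (pow_mem hfV m) (h.e_memV 0 1) ?_
      (Commute.pow_left (show Commute f (h.e 0 1) from hf1) m)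
    rw [h.e_memZ_iff]
    exact one_ne_zero
  obtain ⟨j, rfl⟩ := hm
  have e : f = f ^ (2 * j + 1) * ((f * f) ^ j)⁻¹ := by
    rw [pow_succ', pow_mul, pow_two, mul_inv_cancel_right]
  rw [e]
  exact mul_mem hmV (inv_mem (pow_mem hff j))

end Co

end Cfsg.Agent.Omega.NO3S.OneQ

end

section


set_option autoImplicit false

namespace Cfsg.Agent.Omega.NO3S.OneQ.DualAbs

/-- a nonzero additive functional of a field -/
theorem exists_tt (F : Type*) [Field F] [CharP F 2] : ∃ t : F →+ ZMod 2, ∃ x, t x ≠ 0 := by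
  let _ := ZMod.algebra F 2
  by_contra hcon
  push Not at hcon
  refine one_ne_zero ((Module.forall_dual_apply_eq_zero_iff (ZMod 2) (1 : F)).1 fun φ => ?_)
  exact hcon φ.toAddMonoidHom 1

theorem eq_zero_of_tt {F : Type*} [Field F] {t : F →+ ZMod 2} {x : F} (hx : t x ≠ 0) {y : F}
    (hy : ∀ c : F, t (c * y) = 0) : y = 0 := by
  by_contra hne
  apply hx
  have := hy (x * y⁻¹)
  rwa [mul_assoc, inv_mul_cancel₀ hne, mul_one] at this

/-- **duality over `F_2` of `F`-linear functionals** -/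
theorem mem_of_dual {F M : Type*} [Field F] [CharP F 2] [AddCommGroup M] [Module F M] [Finite M]
    (A : AddSubgroup (M →ₗ[F] F)) {t : F →+ ZMod 2} {x : F} (hx : t x ≠ 0) (f : M →ₗ[F] F)
    (hf : ∀ m, (∀ a ∈ A, t (a m) = 0) → f m = 0) : f ∈ A := by
  have h2 : ∀ m : M, 2 • m = 0 := fun m => by
    rw [← Nat.cast_smul_eq_nsmul F, Nat.cast_ofNat, CharTwo.two_eq_zero, zero_smul]
  let _ : Module (ZMod 2) M := AddCommGroup.zmodModule h2
  let tr : (M →ₗ[F] F) → Module.Dual (ZMod 2) M := fun a => (t.comp a.toAddMonoidHom).toZModLinearMap 2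
  have htr : ∀ a m, tr a m = t (a m) := fun _ _ => rfl
  let E : Submodule (ZMod 2) (Module.Dual (ZMod 2) M) :=
    AddSubgroup.toZModSubmodule 2
      { carrier := {φ | ∃ a ∈ A, tr a = φ}
        zero_mem' := ⟨0, zero_mem _, LinearMap.ext fun m => by rw [htr]; simp⟩
        add_mem' := by
          rintro _ _ ⟨a, ha, rfl⟩ ⟨b, hb, rfl⟩
          exact ⟨a + b, add_mem ha hb, LinearMap.ext fun m => by
            rw [LinearMap.add_apply, htr, htr, htr, LinearMap.add_apply, map_add]⟩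
        neg_mem' := by
          rintro _ ⟨a, ha, rfl⟩
          exact ⟨-a, neg_mem ha, LinearMap.ext fun m => by
            rw [LinearMap.neg_apply, htr, htr, LinearMap.neg_apply, map_neg]⟩ }
  have h3 : tr f ∈ E.dualCoannihilator.dualAnnihilator := by
    rw [Submodule.mem_dualAnnihilator]
    intro m hm
    rw [Submodule.mem_dualCoannihilator] at hm
    rw [htr, hf m fun a ha => by rw [← htr]; exact hm _ ⟨a, ha, rfl⟩, map_zero]
  have : Module.Finite (ZMod 2) M := Module.Finite.of_finite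
  rw [Subspace.dualCoannihilator_dualAnnihilator_eq] at h3
  obtain ⟨a, ha, hae⟩ := h3
  have h4 : f = a := by
    refine LinearMap.ext fun m => sub_eq_zero.1 (eq_zero_of_tt hx fun c => ?_)
    have h5 := congrArg (fun φ => φ (c • m)) hae
    simp only [htr] at h5
    rw [mul_sub, map_sub, ← smul_eq_mul, ← smul_eq_mul, ← map_smul, ← map_smul, h5, sub_self]
  rw [h4]
  exact ha

/-- a functional vanishing on the common kernel of a subspace of functionals -/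
theorem mem_of_coker {F M : Type*} [Field F] [AddCommGroup M] [Module F M] [FiniteDimensional F M]
    (W : Submodule F (Module.Dual F M)) (f : Module.Dual F M) (hf : ∀ m, (∀ a ∈ W, a m = 0) → f m = 0) : f ∈ W := by
  rw [← Subspace.dualCoannihilator_dualAnnihilator_eq (W := W), Submodule.mem_dualAnnihilator]
  intro m hm
  exact hf m ((Submodule.mem_dualCoannihilator _).1 hm)

/-- a subspace is the common kernel of its annihilator -/
theorem mem_of_ann {F M : Type*} [Field F] [AddCommGroup M] [Module F M] 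
    (N : Submodule F M) (m : M) (hm : ∀ a : M →ₗ[F] F, (∀ n ∈ N, a n = 0) → a m = 0) : m ∈ N := by
  rw [← Subspace.dualAnnihilator_dualCoannihilator_eq (W := N), Submodule.mem_dualCoannihilator]
  intro a ha
  exact hm a ((Submodule.mem_dualAnnihilator _).1 ha)

end Cfsg.Agent.Omega.NO3S.OneQ.DualAbs

end

section


/-!
# NO-3S, `OneQ`: EXACT DUALITY (bb OMEGA #17833 (1))

* `lx_le` : `L_Z` is generated by the `C_G(Z)`-conjugates of the `W_Y`, `Y ≠ Z` a point of `V`;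
* `Co.m1` = `{w ∈ W_Z | [L_Z, w] ≤ rd}`; `Co.m1_inf_I` : `m1 ∩ I ≤ Z`;
* `Co.kappa` : every `F`-linear `f : MF → F` vanishing on `m1` is `w ↦ [k, w]` for some `k ∈ K_Z`;
* `Co.dual_E` : every `F`-linear `f : MF → F` vanishing on `n0 V Z Z` is `w ↦ [e, w]` for some `e ∈ E_Y`;
* `Co.dual_N` : in case (N) every `f` vanishing on `E_Z` is `w ↦ [e, w]`, `e ∈ E_Y`; `Co.cent_N` : `C_MF(A) = D_Z`.
-/

set_option autoImplicit false
set_option linter.unusedSectionVars false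

namespace Cfsg.Agent.Omega.NO3S.OneQ

open Subgroup Cfsg.Agent.Omega.NO3S.PT Cfsg.Agent.Omega.NoFF.Basic
open scoped Pointwise

universe u

variable {G : Type u} [Group G]

namespace Co

variable [Finite G] {F : Type*} [Field F] [CharP F 2] {S : Sylow 2 G} {B P V Z : Subgroup G} (h : Co F S B P V Z)

include h in
/-- `L_Z` is generated by the `C_G(Z)`-conjugates of the `W_Y` -/
theorem lx_le {D : Subgroup G}
    (hD : ∀ c ∈ centralizer (Z : Set G), ∀ Y, Pnt V Z Y → Y ≠ Z → ∀ u ∈ ws V Y, c * u * c⁻¹ ∈ D) : lx V Z Z ≤ D := by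
  refine (closure_le _).2 ?_
  rintro a ⟨n, hn, Y, hY, hne, ha⟩
  have hnZ : PT.cj n Z = Z := cj_eq_iff.2 hn
  have h1 : Z ≤ PT.cj n V := by
    rw [← hnZ]
    exact cj_le_cj.2 h.one.pl.ZV
  obtain ⟨c, hc, hcV⟩ := h.line_eq ⟨n, rfl⟩ h1
  have hcZ : PT.cj c Z = Z := cj_eq_iff.2 (centralizer_le_normalizer _ hc)
  have hcZ' : PT.cj c⁻¹ Z = Z := cj_eq_iff.2 (centralizer_le_normalizer _ (inv_mem hc))
  have h2 : Pnt V Z (PT.cj (c⁻¹ * n) Y) := by
    refine ⟨hY.cj.cj _, ?_⟩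
    rw [← cj_cj, cj_le_iff, inv_inv, ← hcV]
    exact cj_le_cj.2 hY.le
  have h3 : PT.cj (c⁻¹ * n) Y ≠ Z := by
    intro e
    apply hne
    have h4 : PT.cj (c⁻¹ * n) Y = PT.cj (c⁻¹ * n) Z := by rw [e, ← cj_cj, hnZ, hcZ']
    exact cj_inj.1 h4
  have h4 : c⁻¹ * a * c ∈ ws V (PT.cj (c⁻¹ * n) Y) := by
    rw [ws_cj, mem_cj]
    have e : (c⁻¹ * n)⁻¹ * (c⁻¹ * a * c) * (c⁻¹ * n) = n⁻¹ * a * n := by group
    rw [e]
    exact ha
  have h5 := hD c hc _ h2 h3 _ h4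
  have e : c * (c⁻¹ * a * c) * c⁻¹ = a := by group
  rwa [e] at h5

/-- `{w ∈ W_Z | [L_Z, w] ≤ rd}` -/
def m1 : Subgroup G where
  carrier := {w | w ∈ ws V Z ∧ ∀ g ∈ lx V Z Z, g * w * g⁻¹ * w⁻¹ ∈ rd V Z}
  one_mem' := ⟨one_mem _, fun g _ => by
    have : g * 1 * g⁻¹ * 1⁻¹ = 1 := by group
    rw [this]; exact one_mem _⟩
  mul_mem' := by
    rintro a b ⟨ha, ha'⟩ ⟨hb, hb'⟩
    refine ⟨mul_mem ha hb, fun g hg => ?_⟩
    have e : g * (a * b) * g⁻¹ * (a * b)⁻¹ = (g * a * g⁻¹ * a⁻¹) * (a * (g * b * g⁻¹ * b⁻¹) * a⁻¹) := by group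
    have h1 := rd_le (hb' g hg)
    rw [e, h.one.comm_W h.one.self.cj ha h1, mul_inv_cancel_right]
    exact mul_mem (ha' g hg) (hb' g hg)
  inv_mem' := by
    rintro a ⟨ha, ha'⟩
    refine ⟨inv_mem ha, fun g hg => ?_⟩
    rw [h.one.inv_eq_W h.one.self ha]
    exact ha' g hg

theorem rd_le_m1 : rd V Z ≤ h.m1 := by
  intro w hw
  refine ⟨rd_le hw, fun g hg => ?_⟩
  have h1 := norm_rd V Z (centralizer_le_normalizer _ (h.one.lx_le_C h.one.self hg))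
  exact mul_mem ((mem_normalizer_iff.1 h1 w).1 hw) (inv_mem hw)

theorem Z_le_m1 : Z ≤ h.m1 := h.Z_le_rd.trans h.rd_le_m1

theorem norm_m1 : normalizer (Z : Set G) ≤ normalizer ((h.m1 : Subgroup G) : Set G) := by
  refine QAbs.norm_of fun n hn w hw => ⟨h.W_conj hn hw.1, fun g hg => ?_⟩
  have h1 : n⁻¹ * g * n ∈ lx V Z Z := by
    have := (mem_normalizer_iff.1 (norm_lx V Z Z (inv_mem hn)) g).1 hg
    rwa [inv_inv] at this
  have h2 := (mem_normalizer_iff.1 (norm_rd V Z hn) _).1 (hw.2 _ h1)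
  have e : n * (n⁻¹ * g * n * w * (n⁻¹ * g * n)⁻¹ * w⁻¹) * n⁻¹ = g * (n * w * n⁻¹) * g⁻¹ * (n * w * n⁻¹)⁻¹ := by group
  rwa [e] at h2

theorem inv_m1 : h.Inv h.m1 := Inv.of_normZ h.Z_le_m1 h.norm_m1

/-- `L_Z` is not trivial on `MF` -/
theorem not_W_le_m1 : ¬ ws V Z ≤ h.m1 := by
  intro h1
  refine h.V_not_le_rd (h.V_le_of_comm h.inv_rd h.pY h.Yp_ne fun w hw u hu => ?_)
  have h2 := (h1 hw).2 u (W_le_lx h.pY h.Yp_ne hu)
  have h3 := inv_mem h2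
  have e : (u * w * u⁻¹ * w⁻¹)⁻¹ = w * u * w⁻¹ * u⁻¹ := by group
  rwa [e] at h3

theorem V_not_le_m1 : ¬ V ≤ h.m1 := fun h1 =>
  h.not_W_le_m1 (h.W_le_of_V h1 ((centralizer_le_normalizer _).trans h.norm_m1))

theorem m1_inf_I : h.m1 ⊓ IV V Z ≤ Z := h.inv_m1.sub h.V_not_le_m1

/-- `[L_Z, w] ≤ rd` in terms of `fn` -/
theorem m1_fn {w g k : G} (hw : w ∈ h.m1) (hg : g ∈ lx V Z Z) (hk : k ∈ kx V Z) : h.fn (g * w * g⁻¹) k = h.fn w k := by
  have hgC := h.one.lx_le_C h.one.self hg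
  have h1 := (h.mem_rd_iff (mul_mem (h.W_conj (centralizer_le_normalizer _ hgC) hw.1) (inv_mem hw.1))).1 (hw.2 g hg) k hk
  rw [h.fn_mul (h.W_conj (centralizer_le_normalizer _ hgC) hw.1) (inv_mem hw.1) hk, h.fn_inv hw.1] at h1
  rw [← add_left_inj (h.fn w k), h1, CharTwo.add_self_eq_zero]

theorem fn_inv' {w k : G} (hw : w ∈ ws V Z) (hk : k ∈ kx V Z) : h.fn w k⁻¹ = h.fn w k := by
  have h1 := h.fn_mul' hw hk (inv_mem hk)
  rw [mul_inv_cancel, h.fn_one' hw] at h1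
  rw [← add_left_inj (h.fn w k), CharTwo.add_self_eq_zero, add_comm]
  exact h1.symm

/-- evaluation at `k` -/
noncomputable def evl (k : kx V Z) : h.MF →ₗ[F] F := (LinearMap.proj k).comp h.MF.subtype

theorem evl_fm (k : kx V Z) (w : ws V Z) : h.evl k (h.fm w) = h.fn w k := rfl

/-- the elements of `K_Z` which centralise `m1` -/
def k0 : Subgroup G where
  carrier := {k | k ∈ kx V Z ∧ ∀ w ∈ h.m1, h.fn w k = 0}
  one_mem' := ⟨one_mem _, fun w hw => h.fn_one' hw.1⟩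
  mul_mem' := by
    rintro a b ⟨ha, ha'⟩ ⟨hb, hb'⟩
    exact ⟨mul_mem ha hb, fun w hw => by rw [h.fn_mul' hw.1 ha hb, ha' w hw, hb' w hw, add_zero]⟩
  inv_mem' := by
    rintro a ⟨ha, ha'⟩
    exact ⟨inv_mem ha, fun w hw => by rw [h.fn_inv' hw.1 ha, ha' w hw]⟩

theorem k0_conj {n k : G} (hn : n ∈ h.hat) (hk : k ∈ h.k0) : n⁻¹ * k * n ∈ h.k0 := by
  refine ⟨h.K_conj (h.hat_norm hn) hk.1, fun w hw => ?_⟩
  have h1 := h.fn_conj' (h.chi_spec ⟨n, hn⟩) (h.hat_norm hn) hw.1 hk.1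
  rw [hk.2 _ ((mem_normalizer_iff.1 (h.norm_m1 (h.hat_norm hn)) w).1 hw)] at h1
  exact (mul_eq_zero.1 h1.symm).resolve_left (Units.ne_zero _)

/-- `[K_Z, L_Z] ≤ k0` -/
theorem comm_k0 {k g : G} (hk : k ∈ kx V Z) (hg : g ∈ lx V Z Z) : k * (g * k⁻¹ * g⁻¹) ∈ h.k0 := by
  have hgC := h.one.lx_le_C h.one.self hg
  have hk' : g * k⁻¹ * g⁻¹ ∈ kx V Z :=
    (mem_normalizer_iff.1 (normalizer_le_kx V Z (centralizer_le_normalizer _ hgC)) _).1 (inv_mem hk)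
  refine ⟨mul_mem hk hk', fun w hw => ?_⟩
  have h1 := h.fn_conj (inv_mem hgC) hw.1 (inv_mem hk)
  rw [inv_inv] at h1
  rw [h.fn_mul' hw.1 hk hk', ← h1]
  have h2 := h.m1_fn hw (inv_mem hg) (inv_mem hk)
  rw [inv_inv] at h2
  rw [h2, h.fn_inv' hw.1 hk, CharTwo.add_self_eq_zero]

section

variable (t : F →+ ZMod 2)

/-- the annihilator of `k0` -/
def d0 : Subgroup G where
  carrier := {w | w ∈ ws V Z ∧ ∀ k ∈ h.k0, t (h.fn w k) = 0}
  one_mem' := ⟨one_mem _, fun k hk => by rw [h.fn_one hk.1, map_zero]⟩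
  mul_mem' := by
    rintro a b ⟨ha, ha'⟩ ⟨hb, hb'⟩
    exact ⟨mul_mem ha hb, fun k hk => by rw [h.fn_mul ha hb hk.1, map_add, ha' k hk, hb' k hk, add_zero]⟩
  inv_mem' := by
    rintro a ⟨ha, ha'⟩
    exact ⟨inv_mem ha, fun k hk => by rw [h.fn_inv ha, ha' k hk]⟩

theorem d0_norm : centralizer (Z : Set G) ≤ normalizer ((h.d0 t : Subgroup G) : Set G) := by
  refine QAbs.norm_of fun n hn w hw => ⟨h.W_conj (centralizer_le_normalizer _ hn) hw.1, fun k hk => ?_⟩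
  rw [h.fn_conj hn hw.1 hk.1]
  exact hw.2 _ (h.k0_conj (h.C_le_hat hn) hk)

/-- the twisted torus -/
theorem V_le_d0 [Finite F] {v : G} (hv : v ∈ h.d0 t) (hvV : v ∈ V) (hvZ : v ∉ Z) : V ≤ h.d0 t := by
  obtain ⟨a, b, rfl⟩ := (h.mem_V v).1 hvV
  have hb : b ≠ 0 := fun e => hvZ (h.e_memZ_iff.2 e)
  intro u hu
  obtain ⟨x, y, rfl⟩ := (h.mem_V u).1 hu
  refine ⟨h.W_V x y, fun k hk => ?_⟩
  by_cases hy : y = 0
  · rw [hy]
    rw [h.fn_Z (h.e_memZ x) hk.1, map_zero]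
  obtain ⟨ζ, hζ⟩ : ∃ ζ : F, ζ * ζ = b * y⁻¹ := by
    obtain ⟨ζ, hζ⟩ := (frobeniusEquiv F 2).surjective (b * y⁻¹)
    exact ⟨ζ, by rw [← hζ, frobeniusEquiv_apply, frobenius_def, pow_two]⟩
  have hζ0 : ζ ≠ 0 := by
    rintro rfl
    rw [mul_zero] at hζ
    exact mul_ne_zero hb (inv_ne_zero hy) hζ.symm
  obtain ⟨τ, hτ⟩ := h.exists_tor hζ0
  have h1 := h.fn_tor hτ hζ0 (h.W_V a b) hk.1
  rw [hτ.act, h.fn_V _ _ hk.1] at h1
  have h2 := hv.2 _ (h.k0_conj (hτ.hat hζ0) hk)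
  have h3 : h.fn (h.e x y) k = h.fn (h.e a b) (τ⁻¹ * k * τ) := by
    rw [h.fn_V x y hk.1]
    apply mul_left_cancel₀ hζ0
    rw [← h1]
    have h4 : y * (ζ * ζ) = b := by rw [hζ, mul_comm, mul_assoc, inv_mul_cancel₀ hy, mul_one]
    have h5 : ζ * y = ζ⁻¹ * b := by
      rw [← h4]
      field_simp
    rw [← mul_assoc, h5]
  rw [h3]
  exact h2

/-- **(κ is everything)** : the annihilator of `k0` is `m1` -/
theorem d0_le [Finite F] {x : F} (hx : t x ≠ 0) : h.d0 t ≤ h.m1 := by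
  by_contra hcon
  have hV : V ≤ h.d0 t := by
    obtain ⟨w, hw, hwm⟩ := SetLike.not_le_iff_exists.1 hcon
    -- some `[u, w] ∉ rd`
    obtain ⟨w, hw, Y, hY, hne, u, hu, huw⟩ : ∃ w ∈ h.d0 t, ∃ Y, Pnt V Z Y ∧ Y ≠ Z ∧ ∃ u ∈ ws V Y,
        u * w * u⁻¹ * w⁻¹ ∉ rd V Z := by
      by_contra hc
      push Not at hc
      apply hwm
      refine ⟨hw.1, fun g hg => ?_⟩
      let D : Subgroup G :=
        { carrier := {g | g ∈ centralizer (Z : Set G) ∧ ∀ w ∈ h.d0 t, g * w * g⁻¹ * w⁻¹ ∈ rd V Z}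
          one_mem' := ⟨one_mem _, fun w _ => by
            have : 1 * w * (1 : G)⁻¹ * w⁻¹ = 1 := by group
            rw [this]; exact one_mem _⟩
          mul_mem' := by
            rintro a b ⟨ha, ha'⟩ ⟨hb, hb'⟩
            refine ⟨mul_mem ha hb, fun w hw => ?_⟩
            have e : a * b * w * (a * b)⁻¹ * w⁻¹ =
                (a * (b * w * b⁻¹) * a⁻¹ * (b * w * b⁻¹)⁻¹) * (b * w * b⁻¹ * w⁻¹) := by group
            rw [e]
            exact mul_mem (ha' _ ((mem_normalizer_iff.1 (h.d0_norm t hb) w).1 hw)) (hb' w hw)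
          inv_mem' := by
            rintro a ⟨ha, ha'⟩
            refine ⟨inv_mem ha, fun w hw => ?_⟩
            have h1 := ha' _ ((mem_normalizer_iff.1 (h.d0_norm t (inv_mem ha)) w).1 hw)
            have h2 := inv_mem h1
            have e : (a * (a⁻¹ * w * a⁻¹⁻¹) * a⁻¹ * (a⁻¹ * w * a⁻¹⁻¹)⁻¹)⁻¹ = a⁻¹ * w * a⁻¹⁻¹ * w⁻¹ := by group
            rwa [e] at h2 }
      have h1 : lx V Z Z ≤ D := by
        refine h.lx_le fun c hc' Y hY hne u hu => ⟨?_, fun w hw => ?_⟩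
        · exact mul_mem (mul_mem hc' (h.one.W_le_C hY hu)) (inv_mem hc')
        · have h2 := (mem_normalizer_iff.1 (h.d0_norm t (inv_mem hc')) w).1 hw
          have h3 := hc _ h2 Y hY hne u hu
          have h4 := (mem_normalizer_iff.1 (norm_rd V Z (centralizer_le_normalizer _ hc')) _).1 h3
          have e : c * (u * (c⁻¹ * w * c⁻¹⁻¹) * u⁻¹ * (c⁻¹ * w * c⁻¹⁻¹)⁻¹) * c⁻¹ = c * u * c⁻¹ * w * (c * u * c⁻¹)⁻¹ * w⁻¹ := by
            group
          rwa [e] at h4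
      exact (h1 hg).2 w hw
    have huC := h.one.W_le_C hY hu
    have h1 : u * w * u⁻¹ * w⁻¹ ∈ h.d0 t ⊓ IV V Z := by
      have h2 : u * w * u⁻¹ ∈ h.d0 t := (mem_normalizer_iff.1 (h.d0_norm t huC) w).1 hw
      exact ⟨(h.d0 t).mul_mem h2 ((h.d0 t).inv_mem hw), h.one.comm_mem hY h.one.self hne hu hw.1⟩
    have hn : B ≤ normalizer ((h.d0 t ⊓ IV V Z : Subgroup G) : Set G) := by
      intro s hs
      rw [← cj_eq_iff, cj_inf, cj_eq_iff.2 (h.d0_norm t (h.one.B_le_C hs)),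
        cj_eq_iff.2 (normalizer_le_IV V Z (h.one.B_norm_V hs))]
    obtain ⟨v, hv, hvV, hvZ⟩ := h.one.fix_sub inf_le_right hn fun e => huw (h.Z_le_rd (e h1))
    exact h.V_le_d0 t hv.1 hvV hvZ
  have hW := h.W_le_of_V hV (h.d0_norm t)
  have h0 : ∀ w ∈ ws V Z, ∀ k ∈ h.k0, h.fn w k = 0 := by
    intro w hw k hk
    refine DualAbs.eq_zero_of_tt hx fun c => ?_
    obtain ⟨w', hw', he⟩ := h.exists_smul c hw
    rw [← he k hk.1]
    exact (hW hw').2 k hk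
  apply h.not_W_le_m1
  intro w hw
  refine ⟨hw, fun g hg => ?_⟩
  have hgC := h.one.lx_le_C h.one.self hg
  have hwg : g * w * g⁻¹ ∈ ws V Z := h.W_conj (centralizer_le_normalizer _ hgC) hw
  rw [h.mem_rd_iff (mul_mem hwg (inv_mem hw))]
  intro k hk
  have h1 := h0 w hw _ (h.comm_k0 hk (inv_mem hg))
  have hk' : g⁻¹ * k⁻¹ * g⁻¹⁻¹ ∈ kx V Z :=
    (mem_normalizer_iff.1 (normalizer_le_kx V Z (centralizer_le_normalizer _ (inv_mem hgC))) _).1 (inv_mem hk)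
  rw [h.fn_mul' hw hk hk', inv_inv, ← h.fn_conj hgC hw (inv_mem hk)] at h1
  rw [h.fn_mul (h.W_conj (centralizer_le_normalizer _ hgC) hw) (inv_mem hw) hk, h.fn_inv hw]
  rw [h.fn_inv' (h.W_conj (centralizer_le_normalizer _ hgC) hw) hk] at h1
  rw [add_comm]
  exact h1

end

/-- **EXACT DUALITY, (κ)** -/
theorem kappa [Finite F] (f : h.MF →ₗ[F] F) (hf : ∀ w (hw : w ∈ h.m1), f (h.fm ⟨w, hw.1⟩) = 0) :
    ∃ k ∈ h.k0, ∀ w : ws V Z, f (h.fm w) = h.fn w k := by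
  have hfin : Finite h.MF := Finite.of_surjective h.fm h.fm_surj
  obtain ⟨t, x, hx⟩ := DualAbs.exists_tt F
  let A : AddSubgroup (h.MF →ₗ[F] F) :=
    { carrier := {a | ∃ k, ∃ hk : k ∈ h.k0, a = h.evl ⟨k, hk.1⟩}
      zero_mem' := ⟨1, one_mem _, by
        refine LinearMap.ext fun m => ?_
        obtain ⟨w, rfl⟩ := h.fm_surj m
        rw [h.evl_fm, LinearMap.zero_apply, h.fn_one' w.2]⟩
      add_mem' := by
        rintro _ _ ⟨k, hk, rfl⟩ ⟨l, hl, rfl⟩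
        refine ⟨k * l, mul_mem hk hl, LinearMap.ext fun m => ?_⟩
        obtain ⟨w, rfl⟩ := h.fm_surj m
        rw [LinearMap.add_apply, h.evl_fm, h.evl_fm, h.evl_fm, ← h.fn_mul' w.2 hk.1 hl.1]
      neg_mem' := by
        rintro _ ⟨k, hk, rfl⟩
        refine ⟨k, hk, LinearMap.ext fun m => ?_⟩
        rw [LinearMap.neg_apply, CharTwo.neg_eq] }
  have h1 : f ∈ A := by
    refine DualAbs.mem_of_dual A hx f fun m hm => ?_
    obtain ⟨w, rfl⟩ := h.fm_surj m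
    refine hf w (h.d0_le t hx ⟨w.2, fun k hk => ?_⟩)
    rw [← h.evl_fm ⟨k, hk.1⟩ w]
    exact hm _ ⟨k, hk, rfl⟩
  obtain ⟨k, hk, rfl⟩ := h1
  exact ⟨k, hk, fun w => h.evl_fm _ w⟩

/-! ### `E_Y` -/

/-- `M₁ = C_MF(L_Z)` -/
noncomputable def M1 : Submodule F h.MF :=
  ⨅ g : lx V Z Z, LinearMap.ker (h.rp ⟨g, h.C_le_hat (h.one.lx_le_C h.one.self g.2)⟩ - 1)

theorem mem_M1 (w : ws V Z) : h.fm w ∈ h.M1 ↔ (w : G) ∈ h.m1 := by
  rw [M1, Submodule.mem_iInf]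
  have key : ∀ g (hg : g ∈ lx V Z Z), h.fm w ∈ LinearMap.ker (h.rp ⟨g, h.C_le_hat (h.one.lx_le_C h.one.self hg)⟩ - 1) ↔
      g * w * g⁻¹ * (w : G)⁻¹ ∈ rd V Z := by
    intro g hg
    rw [LinearMap.mem_ker, LinearMap.sub_apply, Module.End.one_apply, sub_eq_zero]
    have e : h.rp ⟨g, h.C_le_hat (h.one.lx_le_C h.one.self hg)⟩ (h.fm w) = _ := h.rp_fm _ w
    rw [e]
    exact h.fm_eq _ w.2
  constructor
  · intro h1
    exact ⟨w.2, fun g hg => (key g hg).1 (h1 ⟨g, hg⟩)⟩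
  · intro h1 g
    exact (key g g.2).2 (h1.2 g g.2)

/-- `w ∈ n0 V Z Z` in `MF` -/
theorem mem_n0_iff {Y : Subgroup G} (hY : Pnt V Z Y) (hne : Y ≠ Z) (w : ws V Z) :
    (w : G) ∈ n0 V Z Z ↔ ∀ u (hu : u ∈ ws V Y), h.rp ⟨u, h.W_hat hY hu⟩ (h.fm w) - h.fm w ∈ h.lam := by
  constructor
  · intro h1 u hu
    obtain ⟨u', hu', he, e⟩ := h.rp_W hY hne hu w
    rw [e, h.fm_mem_lam_I hu', he]
    have h2 := inv_mem (h1.2.2 Y hY u hu)
    have e2 : ((w : G) * u * (w : G)⁻¹ * u⁻¹)⁻¹ = u * w * u⁻¹ * (w : G)⁻¹ := by group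
    rwa [e2] at h2
  · intro h1
    refine h.one.n0_eq h.one.self hY hne w.2 fun u hu => ?_
    obtain ⟨u', hu', he, e⟩ := h.rp_W hY hne hu w
    have h2 := h1 u hu
    rw [e, h.fm_mem_lam_I hu', he] at h2
    have h3 := inv_mem h2
    have e2 : (u * w * u⁻¹ * (w : G)⁻¹)⁻¹ = (w : G) * u * (w : G)⁻¹ * u⁻¹ := by group
    rwa [e2] at h3

include h in
theorem ee_le_kx {Y : Subgroup G} (hne : Y ≠ Z) {e : G} (he : e ∈ ee V Z Y) : e ∈ kx V Z :=
  (mem_ee.1 he).2 Z h.one.self hne.symm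

/-- **EXACT DUALITY, (E)** : every functional vanishing on `{w | [w, W_Y] ≤ V}` is `w ↦ [e, w]`, `e ∈ E_Y` -/
theorem dual_E [Finite F] {Y : Subgroup G} (hY : Pnt V Z Y) (hne : Y ≠ Z) (f : h.MF →ₗ[F] F)
    (hf : ∀ w : ws V Z, (w : G) ∈ n0 V Z Z → f (h.fm w) = 0) : ∃ e ∈ ee V Z Y, ∀ w : ws V Z, f (h.fm w) = h.fn w e := by
  have hfin : Finite h.MF := Finite.of_surjective h.fm h.fm_surj
  let U : Set (Module.Dual F h.MF) := {a | ∃ f' : h.MF →ₗ[F] F, (∀ m ∈ h.M1 ⊔ h.lam, f' m = 0) ∧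
    ∃ u, ∃ hu : u ∈ ws V Y, a = f' ∘ₗ (h.rp ⟨u, h.W_hat hY hu⟩ - 1)}
  have hU : ∀ a ∈ U, ∃ e ∈ ee V Z Y, ∀ w : ws V Z, a (h.fm w) = h.fn w e := by
    rintro _ ⟨f', hf', u, hu, rfl⟩
    obtain ⟨k, hk, hke⟩ := h.kappa f' fun w hw => hf' _ (Submodule.mem_sup_left ((h.mem_M1 _).2 hw))
    have hkV : k ∈ centralizer (V : Set G) := by
      rw [mem_centralizer_iff]
      intro v hv
      have hvW := h.one.V_le_W' hv
      have h1 : h.fn v k = 0 := by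
        rw [← hke ⟨v, hvW⟩]
        exact hf' _ (Submodule.mem_sup_right ((h.fm_mem_lam hvW).2 (mem_sup_left hv)))
      exact ((h.fn_eq_zero hvW hk.1).1 h1).symm
    have h1 := h.one.kx_ee hY h.one.self hk.1 hkV hu
    have h2 := h.one.n_ee hY (inv_mem (h.one.W_le_cent hY hu)) h1
    have e1 : u⁻¹ * (k * u * k⁻¹ * u⁻¹) * u⁻¹⁻¹ = u⁻¹ * k * u * k⁻¹ := by group
    rw [e1] at h2
    refine ⟨_, h2, fun w => ?_⟩
    have huC := h.one.W_le_C hY hu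
    have e2 : h.rp ⟨u, h.W_hat hY hu⟩ (h.fm w) = _ := h.rp_fm' (h.W_hat hY hu) w.2
    rw [LinearMap.comp_apply, LinearMap.sub_apply, Module.End.one_apply, map_sub, e2, hke, hke,
      h.fn_mul' w.2 (h.K_conj (centralizer_le_normalizer _ huC) hk.1) (inv_mem hk.1), h.fn_inv' w.2 hk.1, ← h.fn_conj huC w.2 hk.1,
      CharTwo.sub_eq_add]
  have hW : ∀ a ∈ Submodule.span F U, ∀ c : F, ∃ e ∈ ee V Z Y, ∀ w : ws V Z, (c • a) (h.fm w) = h.fn w e := by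
    intro a ha
    induction ha using Submodule.span_induction with
    | mem a ha =>
      intro c
      refine hU _ ?_
      obtain ⟨f', hf', u, hu, rfl⟩ := ha
      exact ⟨c • f', fun m hm => by rw [LinearMap.smul_apply, hf' m hm, smul_zero], u, hu, rfl⟩
    | zero =>
      intro c
      exact ⟨1, one_mem _, fun w => by rw [smul_zero, LinearMap.zero_apply, h.fn_one' w.2]⟩
    | add a b _ _ ha hb =>
      intro c
      obtain ⟨e, he, hee⟩ := ha c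
      obtain ⟨e', he', hee'⟩ := hb c
      refine ⟨e * e', mul_mem he he', fun w => ?_⟩
      rw [h.fn_mul' w.2 (h.ee_le_kx hne he) (h.ee_le_kx hne he'), smul_add, LinearMap.add_apply, hee, hee']
    | smul c' a _ ha =>
      intro c
      rw [smul_smul]
      exact ha _
  have hfW : f ∈ Submodule.span F U := by
    refine DualAbs.mem_of_coker _ f fun m hm => ?_
    obtain ⟨w, rfl⟩ := h.fm_surj m
    refine hf w ((h.mem_n0_iff hY hne w).2 fun u hu => ?_)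
    have h1 : h.rp ⟨u, h.W_hat hY hu⟩ (h.fm w) - h.fm w ∈ h.M1 ⊔ h.lam := by
      refine DualAbs.mem_of_ann _ _ fun f' hf' => ?_
      exact hm _ (Submodule.subset_span ⟨f', hf', u, hu, rfl⟩)
    obtain ⟨u', hu', he, e⟩ := h.rp_W hY hne hu w
    rw [e] at h1 ⊢
    obtain ⟨m', hm', l, hl, hml⟩ := Submodule.mem_sup.1 h1
    obtain ⟨v, hv, rfl⟩ := h.mem_lam.1 hl
    have h2 : m' = h.fm (⟨u', h.one.I_le_W' hu'⟩ * v⁻¹) := by
      rw [h.fm_mul, h.fm_inv, ← hml, add_assoc]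
      have h3 : h.fm v + h.fm v = 0 := by
        rw [← h.fm_mul]
        have e3 : v * v = 1 := Subtype.ext (h.one.sq_W h.one.self v.2)
        rw [e3, h.fm_one]
      rw [h3, add_zero]
    rw [h2, h.mem_M1] at hm'
    have h4 : u' * (v : G)⁻¹ ∈ Z :=
      h.m1_inf_I ⟨hm', (IV V Z).mul_mem hu' ((IV V Z).inv_mem (h.one.pl.V_le_IV hv))⟩
    rw [h.fm_mem_lam_I hu']
    have e4 : u' = u' * (v : G)⁻¹ * v := by group
    rw [e4]
    exact mul_mem (h.one.pl.ZV h4) hv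
  obtain ⟨e, he, hee⟩ := hW f hfW 1
  refine ⟨e, he, fun w => ?_⟩
  rw [← hee w, one_smul]

/-! ### case (N) -/

section

variable {Y : Subgroup G} (hY : Pnt V Z Y) (hne : Y ≠ Z)
  (hN : ∀ u ∈ ws V Y, (∀ w ∈ ws V Z, u * w * u⁻¹ * w⁻¹ ∈ V) → u ∈ kx V Z)
include hY hne hN

include h in
/-- case (N) : `n0 = ee` -/
theorem n0_le_ee : n0 V Z Z ≤ ee V Z Z := by
  have h1 : n0 V Z Y ≤ ee V Z Y := by
    intro u hu
    rw [h.one.ee_eq hY h.one.self hne.symm]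
    exact ⟨hu.1, hN u hu.1 fun w hw => hu.2.2 Z h.one.self w hw⟩
  obtain ⟨g, hg, -, -, hgY⟩ := h.one.pl.swap h.one.hf h.one.self.cj h.one.self.le hY.cj hY.le
  have hgN := h.one.pl.XV_le_N hg
  have e1 : n0 V Z Z = cj g (n0 V Z Y) := by rw [cj_n0 hgN, hgY]
  have e2 : ee V Z Z = cj g (ee V Z Y) := by rw [cj_ee hgN, hgY]
  rw [e1, e2]
  exact cj_le_cj.2 h1

include h in
theorem n0_eq_ee : n0 V Z Z = ee V Z Z := le_antisymm (h.n0_le_ee hY hne hN) (h.one.ee_le_n0 h.one.self)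

/-- **EXACT DUALITY, case (N)** : `E_Y → Hom_F(MF / Ē_Z, F)` is onto -/
theorem dual_N [Finite F] (f : h.MF →ₗ[F] F) (hf : ∀ w (hw : w ∈ ee V Z Z), f (h.fm ⟨w, ee_le hw⟩) = 0) :
    ∃ e ∈ ee V Z Y, ∀ w : ws V Z, f (h.fm w) = h.fn w e :=
  h.dual_E hY hne f fun w hw => hf w (h.n0_le_ee hY hne hN hw)

/-- case (N) : `C_MF(A) = D_Z` -/
theorem cent_N (w : ws V Z) :
    (w : G) ∈ dd V Z Z ↔ ∀ u (hu : u ∈ ws V Y), h.rp ⟨u, h.W_hat hY hu⟩ (h.fm w) = h.fm w := by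
  constructor
  · intro h1 u hu
    have e : h.rp ⟨u, h.W_hat hY hu⟩ (h.fm w) = _ := h.rp_fm' (h.W_hat hY hu) w.2
    rw [e]
    congr 1
    apply Subtype.ext
    show u * w * u⁻¹ = w
    rw [← h.one.dd_comm hY hne h1 hu, mul_inv_cancel_right]
  · intro h1
    have h2 : (w : G) ∈ ee V Z Z := by
      rw [← h.n0_eq_ee hY hne hN, h.mem_n0_iff hY hne]
      intro u hu
      rw [h1 u hu, sub_self]
      exact zero_mem _
    refine h.one.mem_dd_of h.one.self hY hne w.2 fun u hu => ?_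
    obtain ⟨u', hu', he, e⟩ := h.rp_W hY hne hu w
    rw [h1 u hu, sub_self] at e
    have h3 : u' ∈ Z := h.rd_inf_I ⟨(h.fm_eq_zero _).1 e.symm, hu'⟩
    have h4 := h.one.ee_act' hY hne h2 hu
    rw [he] at h3
    have h5 : u * w * u⁻¹ * (w : G)⁻¹ ∈ Z ⊓ Y := ⟨h3, h4⟩
    rw [h.one.pl.pts_inf h.one.self.cj hY.cj hne.symm, mem_bot, mul_inv_eq_one, mul_inv_eq_iff_eq_mul] at h5
    exact h5.symm

end

end Co

end Cfsg.Agent.Omega.NO3S.OneQ

end

section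


/-!
# NO-3S, `OneQ`, case (TR), the end (bb OMEGA #20607 (3.5), #20975 (III), #21079): the commutator formula

`Dat h` : `E = D`, `W_Z / D_Z` is one-dimensional (`φ`), torus weight `1 + θ`, `θ² = Frobenius`,
`[w, w'^n] = e(κ φ(w') θ(φ w), κ φ(w) θ(φ w'))`.

* `Dat.lab` : `Lab (a, b) w` : `w = g w₀ g⁻¹`, `g ∈ X_l`, `g (1, 0) = (a, b)`, `φ w₀ = 1`;
* `Lab.com` : `[w, w'] = e(κ δ θ(δ) (a + a'), κ δ θ(δ) (b + b'))`, `δ = a b' + b a'`;
* `Dat.exists_n` : some `n ∈ C_G(W_Z)` has `n² ∈ V - Z`;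
* `Dat.exists_b` : some `b ∈ C_G(W_Y)` has `b² ∈ W_Y - E_Y`.
-/

set_option autoImplicit false
set_option linter.unusedSectionVars false

namespace Cfsg.Agent.Omega.NO3S.OneQ.TrE

open Subgroup Cfsg.Agent.Omega.NO3S.PT Cfsg.Agent.Omega.NoFF.Basic
open scoped Pointwise

universe u

variable {G : Type u} [Group G]

/-- the data of the end of (TR) -/
structure Dat [Finite G] {F : Type*} [Field F] [CharP F 2] {S : Sylow 2 G} {B P V Z : Subgroup G}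
    (h : Co F S B P V Z) where
  θ : F →+* F
  κ : F
  φ : G → F
  θθ : ∀ a, θ (θ a) = a * a
  κ0 : κ ≠ 0
  mul : ∀ {w w'}, w ∈ ws V Z → w' ∈ ws V Z → φ (w * w') = φ w + φ w'
  zero : ∀ {w}, w ∈ ws V Z → (φ w = 0 ↔ w ∈ dd V Z Z)
  surj : ∀ a, ∃ w ∈ ws V Z, φ w = a
  lin : ∀ {w w' c}, w ∈ ws V Z → w' ∈ ws V Z → (∀ k ∈ kx V Z, h.fn w' k = c * h.fn w k) → φ w' = c * φ w
  tor : ∀ {τ w ζ}, h.Tor τ ζ → ζ ≠ 0 → w ∈ ws V Z → φ (τ * w * τ⁻¹) = ζ * θ ζ * φ w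
  ee_dd : ee V Z Z = dd V Z Z
  com : ∀ {w w'}, w ∈ ws V Z → w' ∈ ws V Z →
    w * (h.sw * w' * h.sw⁻¹) * w⁻¹ * (h.sw * w' * h.sw⁻¹)⁻¹ =
      h.e (κ * φ w' * θ (φ w)) (κ * φ w * θ (φ w'))

namespace Dat

variable [Finite G] {F : Type*} [Field F] [CharP F 2] {S : Sylow 2 G} {B P V Z : Subgroup G}
  {h : Co F S B P V Z} (D : Dat h)
include D

theorem φ_dd {w d : G} (hw : w ∈ ws V Z) (hd : d ∈ dd V Z Z) : D.φ (d * w) = D.φ w := by
  rw [D.mul (dd_le hd) hw, (D.zero (dd_le hd)).2 hd, zero_add]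

theorem φ_K {k w : G} (hk : k ∈ kx V Z) (hw : w ∈ ws V Z) : D.φ (k * w * k⁻¹) = D.φ w := by
  have h1 := h.one.X_le_dd h.one.self ((mem_kx.1 hk).2 w hw)
  have e : k * w * k⁻¹ = k * w * k⁻¹ * w⁻¹ * w := by group
  rw [e, D.φ_dd hw h1]

theorem φ_yl {k w : G} (hk : k ∈ yl V Z) (hw : w ∈ ws V Z) : D.φ (k * w * k⁻¹) = D.φ w := by
  have h1 := h.one.yl_ee h.one.self hk hw
  rw [D.ee_dd] at h1
  have e : k * w * k⁻¹ = k * w * k⁻¹ * w⁻¹ * w := by group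
  rw [e, D.φ_dd hw h1]

/-- an element of `X_l` which fixes `(1, 0)` acts trivially on `W_Z / D_Z` -/
theorem φ_stab {g w : G} (hg : g ∈ XV V Z) (hg1 : g * h.e 1 0 * g⁻¹ = h.e 1 0) (hw : w ∈ ws V Z) :
    g * w * g⁻¹ ∈ ws V Z ∧ D.φ (g * w * g⁻¹) = D.φ w := by
  obtain ⟨a, b, c, d, hdet, hact⟩ := h.XV_mat hg
  have h1 := hact 1 0
  rw [hg1] at h1
  obtain ⟨ha, hc⟩ := h.e_inj h1
  rw [mul_one, mul_zero, add_zero] at ha hc
  have hd : d = 1 := by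
    rw [← ha, ← hc, one_mul, mul_zero, add_zero] at hdet
    exact hdet
  have hact' : ∀ x y, g * h.e x y * g⁻¹ = h.e (x + b * y) y := by
    intro x y
    rw [hact, ← ha, ← hc, hd]
    congr 1 <;> ring
  have hk := h.kp_mem b
  have hy : (h.kp b)⁻¹ * g ∈ yl V Z := by
    rw [← h.XV_cent]
    refine ⟨(XV V Z).mul_mem ((XV V Z).inv_mem (h.kp_XV b)) hg, h.mem_cent fun x y => ?_⟩
    have e : (h.kp b)⁻¹ * g * h.e x y * ((h.kp b)⁻¹ * g)⁻¹ = (h.kp b)⁻¹ * (g * h.e x y * g⁻¹) * h.kp b := by group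
    rw [e, hact', ← h.kp_act b x y]
    group
  set y := (h.kp b)⁻¹ * g with hydef
  have hgy : g = h.kp b * y := by rw [hydef]; group
  have hyW : y * w * y⁻¹ ∈ ws V Z :=
    (mem_normalizer_iff.1 (h.one.cent_norm_W h.one.self (yl_le_cent V Z hy)) _).1 hw
  have e : g * w * g⁻¹ = h.kp b * (y * w * y⁻¹) * (h.kp b)⁻¹ := by rw [hgy]; group
  rw [e]
  refine ⟨?_, ?_⟩
  · exact h.W_conj (centralizer_le_normalizer _ (kx_le_cent hk)) hyW
  · rw [D.φ_K hk hyW, D.φ_yl hy hw]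

/-- `[w, k w' k⁻¹]` for `k ∈ X_l`, `k (1, 0) = (r, δ)` -/
theorem com_k {k w w' : G} {r δ : F} (hk : k ∈ XV V Z) (hk1 : k * h.e 1 0 * k⁻¹ = h.e r δ) (hw : w ∈ ws V Z)
    (hw' : w' ∈ ws V Z) (h1 : D.φ w = 1) (h1' : D.φ w' = 1) :
    w * (k * w' * k⁻¹) * w⁻¹ * (k * w' * k⁻¹)⁻¹ =
      h.e (D.κ * (δ * D.θ δ) * (1 + r)) (D.κ * (δ * D.θ δ) * δ) := by
  by_cases hδ : δ = 0
  · -- `k` fixes `Z`
    subst hδ
    obtain ⟨a, b, c, d, hdet, hact⟩ := h.XV_mat hk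
    have h2 := hact 1 0
    rw [hk1] at h2
    obtain ⟨ha, hc⟩ := h.e_inj h2
    rw [mul_one, mul_zero, add_zero] at ha hc
    have hr : r ≠ 0 := by
      rintro rfl
      rw [← ha, ← hc, zero_mul, mul_zero, add_zero] at hdet
      exact zero_ne_one hdet
    have hkZ : PT.cj k Z = Z := by
      refine h.cj_Z_of (f := fun x => r * x) (fun x => ⟨r⁻¹ * x, mul_inv_cancel_left₀ hr x⟩) fun x => ?_
      rw [hact, ← ha, ← hc]
      congr 1 <;> ring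
    have h3 : k * w' * k⁻¹ ∈ ws V Z := by
      have := conj_mem_cj (g := k) hw'
      rwa [← ws_cj, hkZ] at this
    rw [h.one.comm_W h.one.self.cj hw h3, mul_inv_cancel_right, mul_inv_cancel, zero_mul, mul_zero, zero_mul, mul_zero,
      h.e_zero]
  · obtain ⟨τ, hτ⟩ := h.exists_tor hδ
    set s := r * δ⁻¹ with hs
    have hsδ : s * δ = r := by rw [hs, mul_assoc, inv_mul_cancel₀ hδ, mul_one]
    have hkp := h.kp_mem s
    have hkpX := h.kp_XV s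
    -- `m`
    have hmX : τ⁻¹ * h.sw⁻¹ * (h.kp s)⁻¹ * k ∈ XV V Z :=
      mul_mem (mul_mem (mul_mem (inv_mem hτ.mem) (inv_mem h.sw_XV)) (inv_mem hkpX)) hk
    have hm1 : τ⁻¹ * h.sw⁻¹ * (h.kp s)⁻¹ * k * h.e 1 0 * (τ⁻¹ * h.sw⁻¹ * (h.kp s)⁻¹ * k)⁻¹ = h.e 1 0 := by
      have e : τ⁻¹ * h.sw⁻¹ * (h.kp s)⁻¹ * k * h.e 1 0 * (τ⁻¹ * h.sw⁻¹ * (h.kp s)⁻¹ * k)⁻¹ =
          τ⁻¹ * (h.sw⁻¹ * ((h.kp s)⁻¹ * (k * h.e 1 0 * k⁻¹) * h.kp s) * h.sw) * τ := by group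
      have e1 : (h.kp s)⁻¹ * h.e r δ * h.kp s = h.e 0 δ := by
        have h2 := h.kp_act s 0 δ
        rw [zero_add, hsδ] at h2
        rw [← h2]; group
      have e2 : τ⁻¹ * h.e δ 0 * τ = h.e 1 0 := by
        have h2 := hτ.act 1 0
        rw [mul_one, mul_zero] at h2
        rw [← h2]; group
      rw [e, hk1, e1, h.sw_act', e2]
    obtain ⟨hmW, hmφ⟩ := D.φ_stab hmX hm1 hw'
    set m := τ⁻¹ * h.sw⁻¹ * (h.kp s)⁻¹ * k with hm
    set w₂ := τ * (m * w' * m⁻¹) * τ⁻¹ with hw₂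
    have hw₂W : w₂ ∈ ws V Z := h.W_conj (hτ.norm_Z hδ) hmW
    have hw₂φ : D.φ w₂ = δ * D.θ δ := by rw [hw₂, D.tor hτ hδ hmW, hmφ, h1', mul_one]
    have hkw : k * w' * k⁻¹ = h.kp s * (h.sw * w₂ * h.sw⁻¹) * (h.kp s)⁻¹ := by rw [hw₂, hm]; group
    have hkinv := inv_mem hkp
    have hwk : (h.kp s)⁻¹ * w * h.kp s ∈ ws V Z := by
      have := h.W_conj (centralizer_le_normalizer _ (kx_le_cent hkinv)) hw
      rwa [inv_inv] at this
    have hwkφ : D.φ ((h.kp s)⁻¹ * w * h.kp s) = 1 := by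
      have := D.φ_K hkinv hw
      rw [inv_inv] at this
      rw [this, h1]
    have h5 := D.com hwk hw₂W
    rw [hwkφ, hw₂φ, map_one, map_mul, D.θθ] at h5
    have e : w * (k * w' * k⁻¹) * w⁻¹ * (k * w' * k⁻¹)⁻¹ =
        h.kp s * ((h.kp s)⁻¹ * w * h.kp s * (h.sw * w₂ * h.sw⁻¹) * ((h.kp s)⁻¹ * w * h.kp s)⁻¹ *
          (h.sw * w₂ * h.sw⁻¹)⁻¹) * (h.kp s)⁻¹ := by rw [hkw]; group
    rw [e, h5, h.kp_act]
    congr 1
    · rw [← hsδ]
      ring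
    · ring

/-- `w = g w₀ g⁻¹` with `g (1, 0) = (a, b)` -/
def Lab (a b : F) (w : G) : Prop :=
  ∃ g ∈ XV V Z, ∃ w₀ ∈ ws V Z, D.φ w₀ = 1 ∧ g * h.e 1 0 * g⁻¹ = h.e a b ∧ w = g * w₀ * g⁻¹

end Dat

variable [Finite G] {F : Type*} [Field F] [CharP F 2] {S : Sylow 2 G} {B P V Z : Subgroup G}
  {h : Co F S B P V Z} {D : Dat h}

/-- **the commutator formula** -/
theorem Dat.Lab.com {a b a' b' : F} {w w' : G} (hw : D.Lab a b w) (hw' : D.Lab a' b' w') :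
    w * w' * w⁻¹ * w'⁻¹ = h.e (D.κ * ((a * b' + b * a') * D.θ (a * b' + b * a')) * (a + a'))
      (D.κ * ((a * b' + b * a') * D.θ (a * b' + b * a')) * (b + b')) := by
  obtain ⟨g, hg, w₀, hw₀, hφ, hg1, rfl⟩ := hw
  obtain ⟨g', hg', w₀', hw₀', hφ', hg1', rfl⟩ := hw'
  obtain ⟨x, p, y, q, hdet, hact⟩ := h.XV_mat hg
  have h1 := hact 1 0
  rw [hg1] at h1
  obtain ⟨ha, hb⟩ := h.e_inj h1
  rw [mul_one, mul_zero, add_zero] at ha hb
  subst ha hb
  have hinv : ∀ u v, g⁻¹ * h.e u v * g = h.e (q * u + p * v) (b * u + a * v) := by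
    intro u v
    have h2 := hact (q * u + p * v) (b * u + a * v)
    have e1 : a * (q * u + p * v) + p * (b * u + a * v) = u := by
      have : a * (q * u + p * v) + p * (b * u + a * v) = (a * q + p * b) * u + (a * p * v + a * p * v) := by ring
      rw [this, hdet, CharTwo.add_self_eq_zero, one_mul, add_zero]
    have e2 : b * (q * u + p * v) + q * (b * u + a * v) = v := by
      have : b * (q * u + p * v) + q * (b * u + a * v) = (a * q + p * b) * v + (b * q * u + b * q * u) := by ring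
      rw [this, hdet, CharTwo.add_self_eq_zero, one_mul, add_zero]
    rw [e1, e2] at h2
    rw [← h2]; group
  have hk : g⁻¹ * g' ∈ XV V Z := mul_mem (inv_mem hg) hg'
  have hk1 : g⁻¹ * g' * h.e 1 0 * (g⁻¹ * g')⁻¹ = h.e (q * a' + p * b') (b * a' + a * b') := by
    have e : g⁻¹ * g' * h.e 1 0 * (g⁻¹ * g')⁻¹ = g⁻¹ * (g' * h.e 1 0 * g'⁻¹) * g := by group
    rw [e, hg1', hinv]
  have h5 := D.com_k hk hk1 hw₀ hw₀' hφ hφ'
  have e : g * w₀ * g⁻¹ * (g' * w₀' * g'⁻¹) * (g * w₀ * g⁻¹)⁻¹ * (g' * w₀' * g'⁻¹)⁻¹ =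
      g * (w₀ * (g⁻¹ * g' * w₀' * (g⁻¹ * g')⁻¹) * w₀⁻¹ * (g⁻¹ * g' * w₀' * (g⁻¹ * g')⁻¹)⁻¹) * g⁻¹ := by group
  rw [e, h5, hact]
  set δ := b * a' + a * b' with hδ
  have hδ' : a * b' + b * a' = δ := by rw [hδ, add_comm]
  rw [hδ']
  congr 1
  · have h6 : a * (q * a' + p * b') + p * δ = a' := by
      have : a * (q * a' + p * b') + p * δ = (a * q + p * b) * a' + (a * p * b' + a * p * b') := by rw [hδ]; ring
      rw [this, hdet, CharTwo.add_self_eq_zero, one_mul, add_zero]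
    have h7 : a * (D.κ * (δ * D.θ δ) * (1 + (q * a' + p * b'))) + p * (D.κ * (δ * D.θ δ) * δ) =
        D.κ * (δ * D.θ δ) * (a + (a * (q * a' + p * b') + p * δ)) := by ring
    rw [h7, h6]
  · have h6 : b * (q * a' + p * b') + q * δ = b' := by
      have : b * (q * a' + p * b') + q * δ = (a * q + p * b) * b' + (b * q * a' + b * q * a') := by rw [hδ]; ring
      rw [this, hdet, CharTwo.add_self_eq_zero, one_mul, add_zero]
    have h7 : b * (D.κ * (δ * D.θ δ) * (1 + (q * a' + p * b'))) + q * (D.κ * (δ * D.θ δ) * δ) =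
        D.κ * (δ * D.θ δ) * (b + (b * (q * a' + p * b') + q * δ)) := by ring
    rw [h7, h6]

end Cfsg.Agent.Omega.NO3S.OneQ.TrE

end
end

private theorem dce_b15dc5f9b731 : _root_.True := by
  try have : _root_.True := by simp only [_root_.Cfsg.Agent.Omega.NO3S.OneQ.Co.M1.eq_1]
  try have : _root_.True := by simp only [_root_.Cfsg.Agent.Omega.NO3S.OneQ.Co.lam.eq_1]
  try have : _root_.True := by simp only [_root_.Cfsg.Agent.Omega.NO3S.OneQ.Co.sw.congr_simp]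
  try have : _root_.True := by simp only [_root_.Cfsg.Agent.Omega.NO3S.OneQ.Co.mz.eq_1]
  try have : _root_.True := by simp only [_root_.Cfsg.Agent.Omega.NO3S.OneQ.Co.ag.eq_1]
  try have : _root_.True := by simp only [_root_.Cfsg.Agent.Omega.NO3S.OneQ.Co.d0.congr_simp]
  exact _root_.True.intro
end

-- part: Mrg/Omega/NO3S/OneQ/InstA
section
prune_inst 0xd01001404762020000180002a0001c56f2000090000b0000d060010004cadc6229052620bce0091018120c4400350040035c00000228000020008800011d05810400000291480100020008004800000000000000000000000000000000041000000000000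
set_option linter.all false
open scoped Cfsg.Agent.FastGrp

section


/-!
# NO-3S, `OneQ`, case (N), `D_x = I`: the instance of `TIq.Gen`, part 1

* `Co.HI` : the group induced by `C_G(Z)` on `MF`; `Co.ph : G → HI` (used on `C_G(Z)`); `ph_mul`, `ph_smul`, `ph_fm`;
* `Co.ah m : HI` : the element with operator `al m`; `Co.AI`, `Co.KI` : the images of `W_Y`, `Y_l`.
-/

set_option autoImplicit false
set_option linter.unusedSectionVars false

namespace Cfsg.Agent.Omega.NO3S.OneQ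

open Subgroup Cfsg.Agent.Omega.NO3S.PT Cfsg.Agent.Omega.NoFF.Basic
open scoped Pointwise

universe u

variable {G : Type u} [Group G]

namespace Co

variable [Finite G] {F : Type*} [Field F] [CharP F 2] {S : Sylow 2 G} {B P V Z : Subgroup G} (h : Co F S B P V Z)

/-- the representation of `C_G(Z)` in the units -/
noncomputable def hm : centralizer (Z : Set G) →* (Module.End F h.MF)ˣ := MonoidHom.toHomUnits h.rep

/-- the group induced by `C_G(Z)` on `MF` -/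
abbrev HI : Type _ := h.hm.range

theorem finMF : Finite h.MF := by
  have : Finite F := h.finF
  infer_instance

instance finHH : Finite h.HI := by
  have : Finite h.MF := h.finMF
  have h1 : Finite (Module.End F h.MF) := Finite.of_injective (fun f : Module.End F h.MF => (f : h.MF → h.MF)) DFunLike.coe_injective
  infer_instance

open Classical in
/-- the image of `g ∈ C_G(Z)` -/
noncomputable def ph (g : G) : h.HI := if hg : g ∈ centralizer (Z : Set G) then h.hm.rangeRestrict ⟨g, hg⟩ else 1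

theorem ph_eq {g : G} (hg : g ∈ centralizer (Z : Set G)) : h.ph g = h.hm.rangeRestrict ⟨g, hg⟩ := dif_pos hg

theorem ph_mul {a b : G} (ha : a ∈ centralizer (Z : Set G)) (hb : b ∈ centralizer (Z : Set G)) :
    h.ph (a * b) = h.ph a * h.ph b := by
  simp only [h.ph_eq ha, h.ph_eq hb, h.ph_eq (mul_mem ha hb), ← map_mul h.hm.rangeRestrict (⟨a, ha⟩) (⟨b, hb⟩)]
  rfl

theorem ph_one : h.ph 1 = 1 := by
  rw [h.ph_eq (one_mem _)]
  exact map_one h.hm.rangeRestrict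

theorem ph_inv {a : G} (ha : a ∈ centralizer (Z : Set G)) : h.ph a⁻¹ = (h.ph a)⁻¹ := by
  rw [eq_inv_iff_mul_eq_one, ← h.ph_mul (inv_mem ha) ha, inv_mul_cancel, h.ph_one]

theorem ph_surj (x : h.HI) : ∃ c ∈ centralizer (Z : Set G), h.ph c = x := by
  obtain ⟨c, hc⟩ := h.hm.rangeRestrict_surjective x
  exact ⟨c, c.2, by rw [h.ph_eq c.2]; exact hc⟩

theorem hh_smul (x : h.HI) (m : h.MF) : x • m = ((x : (Module.End F h.MF)ˣ) : Module.End F h.MF) m := rfl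

theorem hh_lin (x : h.HI) (c : F) (m : h.MF) : x • (c • m) = c • (x • m) := by
  rw [h.hh_smul, h.hh_smul]
  exact map_smul _ c m

theorem faith {x y : h.HI} (hxy : ∀ m : h.MF, x • m = y • m) : x = y := by
  apply Subtype.ext
  apply Units.ext
  exact LinearMap.ext hxy

theorem ph_smul {c : G} (hc : c ∈ centralizer (Z : Set G)) (m : h.MF) : h.ph c • m = h.rp ⟨c, h.C_le_hat hc⟩ m := by
  obtain ⟨w, rfl⟩ := h.fm_surj m
  rw [h.ph_eq hc]
  have e : h.hm.rangeRestrict ⟨c, hc⟩ • h.fm w = h.rep ⟨c, hc⟩ (h.fm w) := rfl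
  rw [e, h.rep_fm, h.rp_fm]

include h in
theorem C_W {c w : G} (hc : c ∈ centralizer (Z : Set G)) (hw : w ∈ ws V Z) : c * w * c⁻¹ ∈ ws V Z :=
  h.W_conj (centralizer_le_normalizer _ hc) hw

theorem ph_fm {c : G} (hc : c ∈ centralizer (Z : Set G)) {w : G} (hw : w ∈ ws V Z) :
    h.ph c • h.fm ⟨w, hw⟩ = h.fm ⟨c * w * c⁻¹, h.C_W hc hw⟩ := by
  rw [h.ph_smul hc]
  exact h.rp_fm' (h.C_le_hat hc) hw

theorem ph_K {k : G} (hk : k ∈ kx V Z) : h.ph k = 1 := by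
  refine h.faith fun m => ?_
  rw [h.ph_smul (kx_le_cent hk), one_smul]
  exact h.rp_K hk m

theorem ph_eq_one (hrd : rd V Z = Z) {c : G} (hc : c ∈ centralizer (Z : Set G)) : h.ph c = 1 ↔ c ∈ kx V Z := by
  refine ⟨fun h1 => mem_kx.2 ⟨fun z hz => (mem_centralizer_iff.1 hc z hz).symm, fun w hw => ?_⟩, h.ph_K⟩
  have h2 := h.ph_fm hc hw
  rw [h1, one_smul, eq_comm, h.fm_eq, hrd] at h2
  exact h2

/-! ### `A`, `K~` at `V` -/

/-- the image of a subgroup of `C_G(Z)` -/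
noncomputable def im (K : Subgroup G) (hK : K ≤ centralizer (Z : Set G)) : Subgroup h.HI where
  carrier := {x | ∃ k ∈ K, h.ph k = x}
  one_mem' := ⟨1, one_mem _, h.ph_one⟩
  mul_mem' := by
    rintro _ _ ⟨a, ha, rfl⟩ ⟨b, hb, rfl⟩
    exact ⟨a * b, mul_mem ha hb, h.ph_mul (hK ha) (hK hb)⟩
  inv_mem' := by
    rintro _ ⟨a, ha, rfl⟩
    exact ⟨a⁻¹, inv_mem ha, h.ph_inv (hK ha)⟩

theorem mem_im {K : Subgroup G} {hK : K ≤ centralizer (Z : Set G)} {x : h.HI} : x ∈ h.im K hK ↔ ∃ k ∈ K, h.ph k = x := Iff.rfl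

/-- `A` -/
noncomputable def AI : Subgroup h.HI := h.im (ws V h.Yp) (h.one.W_le_C h.pY)

theorem mem_AI {x : h.HI} : x ∈ h.AI ↔ ∃ a ∈ ws V h.Yp, h.ph a = x := Iff.rfl

/-- `K~` -/
noncomputable def KI : Subgroup h.HI := h.im (yl V Z) h.yl_C

/-- the element of `H` with operator `al m` -/
noncomputable def ah (m : h.MF) : h.HI := h.ph (h.sw * (h.fm_surj m).choose * h.sw⁻¹)

theorem ah_smul (m x : h.MF) : h.ah m • x = h.al m x :=
  h.ph_smul (h.one.W_le_C h.pY (h.sw_W (h.fm_surj m).choose.2)) x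

theorem ah_eq_one (hN : NTr V Z) {m : h.MF} : h.ah m = 1 ↔ m ∈ h.Eb := by
  rw [← h.al_eq_one hN]
  constructor
  · intro e
    refine LinearMap.ext fun x => ?_
    rw [← h.ah_smul, e, one_smul]; rfl
  · intro e
    refine h.faith fun x => ?_
    rw [h.ah_smul, e, one_smul]; rfl

theorem ah_add (hN : NTr V Z) (m n : h.MF) : h.ah (m + n) = h.ah m * h.ah n := by
  refine h.faith fun x => ?_
  rw [mul_smul, h.ah_smul, h.ah_smul, h.ah_smul, h.al_add hN]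
  rfl

theorem ah_mem (m : h.MF) : h.ah m ∈ h.AI := ⟨_, h.sw_W (h.fm_surj m).choose.2, rfl⟩

theorem ah_surj (hN : NTr V Z) {x : h.HI} (hx : x ∈ h.AI) : ∃ m, h.ah m = x := by
  obtain ⟨a, ha, rfl⟩ := hx
  obtain ⟨m, hm⟩ := h.al_surj hN ha
  refine ⟨m, h.faith fun x => ?_⟩
  rw [h.ah_smul, hm, h.ph_smul (h.one.W_le_C h.pY ha)]

theorem ah_fm (hN : NTr V Z) (w : ws V Z) : h.ah (h.fm w) = h.ph (h.sw * w * h.sw⁻¹) := by
  refine h.faith fun x => ?_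
  rw [h.ah_smul, h.al_fm hN, h.ph_smul (h.one.W_le_C h.pY (h.sw_W w.2))]
  rfl

theorem AI_sq {x : h.HI} (hx : x ∈ h.AI) : x * x = 1 := by
  obtain ⟨a, ha, rfl⟩ := hx
  rw [← h.ph_mul (h.one.W_le_C h.pY ha) (h.one.W_le_C h.pY ha), h.one.sq_W h.pY ha, h.ph_one]

theorem exists_AI (hrd : rd V Z = Z) : ∃ x ∈ h.AI, x ≠ 1 := by
  by_contra hcon
  push Not at hcon
  apply h.one.ee_ne h.pY
  refine le_antisymm ee_le fun a ha => ?_
  rw [h.one.ee_eq h.pY h.one.self h.Yp_ne.symm]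
  exact ⟨ha, (h.ph_eq_one hrd (h.one.W_le_C h.pY ha)).1 (hcon _ ⟨a, ha, rfl⟩)⟩

theorem AI_sub_Ib {x : h.HI} (hx : x ∈ h.AI) (m : h.MF) : x • m - m ∈ h.Ib := by
  obtain ⟨a, ha, rfl⟩ := hx
  rw [h.ph_smul (h.one.W_le_C h.pY ha)]
  exact h.Rb_le_Ib h.pY h.Yp_ne (h.mem_Rb h.pY ha m)

theorem AI_fix {x : h.HI} (hx : x ∈ h.AI) {m : h.MF} (hm : m ∈ h.Ib) : x • m = m := by
  obtain ⟨a, ha, rfl⟩ := hx
  rw [h.ph_smul (h.one.W_le_C h.pY ha)]
  obtain ⟨u, hu, rfl⟩ := hm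
  exact h.rp_W_I h.pY ha hu

/-- `C_M(A) = Ī` if `D_Z = I` -/
theorem fix_AI (hN : NTr V Z) (hD : dd V Z Z ≤ IV V Z) {m : h.MF} (hm : ∀ x ∈ h.AI, x • m = m) : m ∈ h.Ib := by
  have hrd := h.rd_eq hN hD
  obtain ⟨w, rfl⟩ := h.fm_surj m
  have h1 : ∀ u ∈ ws V h.Yp, u * w * u⁻¹ * (w : G)⁻¹ ∈ Z := by
    intro u hu
    have h2 := hm _ ⟨u, hu, rfl⟩
    have huC := h.one.W_le_C h.pY hu
    have h3 : h.ph u • h.fm ⟨w, w.2⟩ = _ := h.ph_fm huC w.2
    rw [show (⟨(w : G), w.2⟩ : ws V Z) = w from rfl, h2, eq_comm] at h3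
    have h4 := (h.fm_eq (h.C_W huC w.2) w.2).1 h3
    rwa [hrd] at h4
  have h2 : (w : G) ∈ ee V Z Z := by
    refine hN.mem_ee h.one h.pY h.Yp_ne w.2 fun u hu => h.one.pl.ZV ?_
    have := inv_mem (h1 u hu)
    have e : (u * w * u⁻¹ * (w : G)⁻¹)⁻¹ = w * u * (w : G)⁻¹ * u⁻¹ := by group
    rwa [e] at this
  have h3 : (w : G) ∈ dd V Z Z := by
    refine h.one.mem_dd_of h.one.self h.pY h.Yp_ne w.2 fun u hu => ?_
    have h4 : u * w * u⁻¹ * (w : G)⁻¹ ∈ Z ⊓ h.Yp := ⟨h1 u hu, h.one.ee_act' h.pY h.Yp_ne h2 hu⟩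
    rw [h.one.pl.pts_inf h.one.self.cj h.pY.cj h.Yp_ne.symm, mem_bot, mul_inv_eq_one, mul_inv_eq_iff_eq_mul] at h4
    exact h4.symm
  exact ⟨w, hD h3, rfl⟩

/-- `Ī` as a submodule -/
noncomputable def IS (hN : NTr V Z) (hD : dd V Z Z ≤ IV V Z) : Submodule F h.MF where
  carrier := {m | m ∈ h.Ib}
  zero_mem' := h.Ib.zero_mem
  add_mem' := fun ha hb => h.Ib.add_mem ha hb
  smul_mem' := by
    intro c m hm
    refine h.fix_AI hN hD fun x hx => ?_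
    rw [h.hh_lin, h.AI_fix hx hm]

/-! ### the stabiliser of `λ` -/

/-- an element of `C_G(Z)` which fixes the point `λ` normalises `V` -/
theorem norm_of_lam (hrd : rd V Z = Z) {c : G} (hc : c ∈ centralizer (Z : Set G)) (hcl : h.ph c • h.v0 ∈ h.lam) :
    c ∈ normalizer (V : Set G) := by
  have h1 : ∀ v ∈ V, c * v * c⁻¹ ∈ V := by
    intro v hv
    obtain ⟨x, y, rfl⟩ := (h.mem_V _).1 hv
    have h2 : h.ph c • h.fm ⟨h.e x y, h.W_V x y⟩ ∈ h.lam := by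
      rw [h.fm_e, h.hh_lin]
      exact h.lam.smul_mem y hcl
    rw [h.ph_fm hc, h.fm_mem_lam, hrd, sup_eq_left.2 h.one.pl.ZV] at h2
    exact h2
  rw [← cj_eq_iff]
  refine eq_of_le_of_card_ge ?_ (by rw [card_cj])
  intro v hv
  rw [mem_cj] at hv
  have := h1 _ hv
  have e : c * (c⁻¹ * v * c) * c⁻¹ = v := by group
  rwa [e] at this

theorem N_lam {n : G} (hn : n ∈ centralizer (Z : Set G)) (hnV : n ∈ normalizer (V : Set G)) {m : h.MF}
    (hm : m ∈ h.lam) : h.ph n • m ∈ h.lam := by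
  obtain ⟨v, hv, rfl⟩ := h.mem_lam.1 hm
  have e : h.ph n • h.fm v = _ := h.ph_fm hn v.2
  rw [e, h.mem_lam]
  exact ⟨⟨_, h.C_W hn v.2⟩, (mem_normalizer_iff.1 hnV _).1 hv, rfl⟩

theorem N_Ib {n : G} (hn : n ∈ centralizer (Z : Set G)) (hnV : n ∈ normalizer (V : Set G)) {m : h.MF}
    (hm : m ∈ h.Ib) : h.ph n • m ∈ h.Ib := by
  obtain ⟨u, hu, rfl⟩ := hm
  rw [h.ph_fm hn]
  exact ⟨n * u * n⁻¹, (mem_normalizer_iff.1 (normalizer_le_IV V Z hnV) _).1 hu, rfl⟩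

theorem N_AI {n : G} (hn : n ∈ centralizer (Z : Set G)) (hnV : n ∈ normalizer (V : Set G)) {x : h.HI}
    (hx : x ∈ h.AI) : h.ph n * x * (h.ph n)⁻¹ ∈ h.AI := by
  obtain ⟨a, ha, rfl⟩ := hx
  have haC := h.one.W_le_C h.pY ha
  obtain ⟨h3, h4⟩ := h.one.conj_pnt (centralizer_le_normalizer _ hn) hnV h.pY h.Yp_ne
  obtain ⟨k, hk, hke⟩ := h.one.move h.one.self h3 h.pY h4 h.Yp_ne
  have hkC := h.one.K_le_C hk
  refine ⟨k * (n * a * n⁻¹) * k⁻¹, ?_, ?_⟩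
  · have h5 : n * a * n⁻¹ ∈ ws V (cj n h.Yp) := by
      rw [ws_cj]; exact conj_mem_cj ha
    have h6 := conj_mem_cj (g := k) h5
    rwa [← ws_cj, hke] at h6
  · have hna : n * a * n⁻¹ ∈ centralizer (Z : Set G) := mul_mem (mul_mem hn haC) (inv_mem hn)
    simp only [h.ph_mul (mul_mem hkC hna) (inv_mem hkC), h.ph_mul hkC hna, h.ph_inv hkC, h.ph_K hk,
      h.ph_mul (mul_mem hn haC) (inv_mem hn), h.ph_mul hn haC, h.ph_inv hn, one_mul, inv_one, mul_one]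

theorem N_KI {n : G} (hn : n ∈ centralizer (Z : Set G)) (hnV : n ∈ normalizer (V : Set G)) {x : h.HI}
    (hx : x ∈ h.KI) : h.ph n * x * (h.ph n)⁻¹ ∈ h.KI := by
  obtain ⟨a, ha, rfl⟩ := hx
  have haC := h.yl_C ha
  refine ⟨n * a * n⁻¹, (mem_normalizer_iff.1 (norm_yl V Z hnV) _).1 ha, ?_⟩
  rw [h.ph_mul (mul_mem hn haC) (inv_mem hn), h.ph_mul hn haC, h.ph_inv hn]

/-- equivariance of `α` -/
theorem ah_equi (hN : NTr V Z) (hrd : rd V Z = Z) {x : h.HI} (hx : x • h.v0 = h.v0) (m : h.MF) :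
    h.ah (x • m) = x * h.ah m * x⁻¹ := by
  obtain ⟨d, hd, rfl⟩ := h.ph_surj x
  obtain ⟨k, hk, hkd⟩ := h.fix_v0 hrd hd (by rw [← h.ph_smul hd]; exact hx)
  have hkC := h.one.K_le_C hk
  have hcC := centralizer_le h.one.pl.ZV hkd
  have e : h.ph d = h.ph (k⁻¹ * d) := by
    rw [h.ph_mul (inv_mem hkC) hd, h.ph_inv hkC, h.ph_K hk, inv_one, one_mul]
  rw [e, eq_mul_inv_iff_mul_eq]
  refine h.faith fun y => ?_
  simp only [mul_smul, mul_smul, h.ah_smul, h.ah_smul, h.ph_smul hcC, h.ph_smul hcC, h.ph_smul hcC]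
  exact congrArg (fun f : Module.End F h.MF => f y) (h.al_equi hN hkd m)

end Co

end Cfsg.Agent.Omega.NO3S.OneQ

end

section


/-!
# NO-3S, `OneQ`, case (N), `D_x = I`: the instance of `TIq.Gen` and `TIq.GenK`

* `TIw V Z` : `A_l ∩ A_m = 1` for lines `l ≠ m` on `Z`; `Alph V Z` : ALPHA;
* `Co.LL` : the vectors of the points `λ_l`; `Co.At`, `Co.It`, `Co.alt`, `Co.Kt`;
* **`Co.gen`**, **`Co.genK`**.
-/

set_option autoImplicit false
set_option linter.unusedSectionVars false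

namespace Cfsg.Agent.Omega.NO3S.OneQ

open Subgroup Cfsg.Agent.Omega.NO3S.PT Cfsg.Agent.Omega.NoFF.Basic
open scoped Pointwise

universe u

variable {G : Type u} [Group G]

/-- `A_l ∩ A_m = 1` for lines `l ≠ m` on `Z` -/
def TIw (V Z : Subgroup G) : Prop :=
  ∀ Y, Pnt V Z Y → Y ≠ Z → ∀ c ∈ centralizer (Z : Set G), cj c V ≠ V → ∀ a ∈ ws V Y, ∀ b ∈ ws V Y,
    a⁻¹ * (c * b * c⁻¹) ∈ kx V Z → a ∈ kx V Z

namespace Co

variable [Finite G] {F : Type*} [Field F] [CharP F 2] {S : Sylow 2 G} {B P V Z : Subgroup G} (h : Co F S B P V Z)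

/-- the vectors `≠ 0` of the points `λ_l` -/
def LL : Set h.MF := {m | ∃ (x : h.HI) (c : F), c ≠ 0 ∧ m = c • (x • h.v0)}

/-- a representative -/
noncomputable def rcl (l : h.MF) : h.HI := open Classical in if hl : l ∈ h.LL then hl.choose else 1

theorem rcl_spec {l : h.MF} (hl : l ∈ h.LL) : ∃ c : F, c ≠ 0 ∧ l = c • (h.rcl l • h.v0) := by
  rw [rcl, dif_pos hl]
  exact hl.choose_spec

theorem rcl_eq (hrd : rd V Z = Z) {l : h.MF} {x : h.HI} {c : F} (hc : c ≠ 0) (hl : l = c • (x • h.v0)) :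
    ∃ n ∈ centralizer (Z : Set G), n ∈ normalizer (V : Set G) ∧ h.rcl l = x * h.ph n := by
  obtain ⟨d, hd, e⟩ := h.rcl_spec ⟨x, c, hc, hl⟩
  obtain ⟨n, hn, hne⟩ := h.ph_surj (x⁻¹ * h.rcl l)
  refine ⟨n, hn, h.norm_of_lam hrd hn ?_, by rw [hne, mul_inv_cancel_left]⟩
  have e0 : d⁻¹ • l = h.rcl l • h.v0 := by
    conv_lhs => rw [e]
    rw [smul_smul, inv_mul_cancel₀ hd, one_smul]
  have e1 : h.rcl l • h.v0 = (d⁻¹ * c) • (x • h.v0) := by
    rw [mul_smul, ← hl, e0]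
  rw [hne, mul_smul, e1, h.hh_lin, inv_smul_smul]
  exact h.lam.smul_mem _ (Submodule.mem_span_singleton_self _)

/-- `A_l` -/
noncomputable def At (l : h.MF) : Subgroup h.HI := h.AI.comap (MulAut.conj (h.rcl l)⁻¹).toMonoidHom

/-- `K~_l` -/
noncomputable def Kt (l : h.MF) : Subgroup h.HI := h.KI.comap (MulAut.conj (h.rcl l)⁻¹).toMonoidHom

theorem mem_At' {l : h.MF} {a : h.HI} : a ∈ h.At l ↔ (h.rcl l)⁻¹ * a * h.rcl l ∈ h.AI := by
  rw [At, mem_comap]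
  show (h.rcl l)⁻¹ * a * (h.rcl l)⁻¹⁻¹ ∈ h.AI ↔ _
  rw [inv_inv]

theorem mem_Kt' {l : h.MF} {a : h.HI} : a ∈ h.Kt l ↔ (h.rcl l)⁻¹ * a * h.rcl l ∈ h.KI := by
  rw [Kt, mem_comap]
  show (h.rcl l)⁻¹ * a * (h.rcl l)⁻¹⁻¹ ∈ h.KI ↔ _
  rw [inv_inv]

theorem mem_At (hrd : rd V Z = Z) {l : h.MF} {x : h.HI} {c : F} (hc : c ≠ 0) (hl : l = c • (x • h.v0)) {a : h.HI} :
    a ∈ h.At l ↔ x⁻¹ * a * x ∈ h.AI := by
  obtain ⟨n, hn, hnV, e⟩ := h.rcl_eq hrd hc hl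
  rw [h.mem_At', e]
  have e1 : (x * h.ph n)⁻¹ * a * (x * h.ph n) = h.ph n⁻¹ * (x⁻¹ * a * x) * (h.ph n⁻¹)⁻¹ := by
    rw [h.ph_inv hn]; group
  constructor
  · intro h1
    rw [e1] at h1
    have h2 := h.N_AI hn hnV h1
    have e2 : h.ph n * (h.ph n⁻¹ * (x⁻¹ * a * x) * (h.ph n⁻¹)⁻¹) * (h.ph n)⁻¹ = x⁻¹ * a * x := by
      rw [h.ph_inv hn]; group
    rwa [e2] at h2
  · intro h1
    rw [e1]
    exact h.N_AI (inv_mem hn) (inv_mem hnV) h1

theorem mem_Kt (hrd : rd V Z = Z) {l : h.MF} {x : h.HI} {c : F} (hc : c ≠ 0) (hl : l = c • (x • h.v0)) {a : h.HI} :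
    a ∈ h.Kt l ↔ x⁻¹ * a * x ∈ h.KI := by
  obtain ⟨n, hn, hnV, e⟩ := h.rcl_eq hrd hc hl
  rw [h.mem_Kt', e]
  have e1 : (x * h.ph n)⁻¹ * a * (x * h.ph n) = h.ph n⁻¹ * (x⁻¹ * a * x) * (h.ph n⁻¹)⁻¹ := by
    rw [h.ph_inv hn]; group
  constructor
  · intro h1
    rw [e1] at h1
    have h2 := h.N_KI hn hnV h1
    have e2 : h.ph n * (h.ph n⁻¹ * (x⁻¹ * a * x) * (h.ph n⁻¹)⁻¹) * (h.ph n)⁻¹ = x⁻¹ * a * x := by
      rw [h.ph_inv hn]; group
    rwa [e2] at h2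
  · intro h1
    rw [e1]
    exact h.N_KI (inv_mem hn) (inv_mem hnV) h1

variable (hN : NTr V Z) (hD : dd V Z Z ≤ IV V Z)

/-- the operator of an element -/
noncomputable def op (x : h.HI) : Module.End F h.MF := ((x : (Module.End F h.MF)ˣ) : Module.End F h.MF)

theorem op_apply (x : h.HI) (m : h.MF) : h.op x m = x • m := rfl

/-- `Ī_l` -/
noncomputable def It (l : h.MF) : Submodule F h.MF := (h.IS hN hD).comap (h.op (h.rcl l)⁻¹)

theorem mem_It' {l m : h.MF} : m ∈ h.It hN hD l ↔ (h.rcl l)⁻¹ • m ∈ h.Ib := Iff.rfl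

theorem mem_It {l m : h.MF} {x : h.HI} {c : F} (hc : c ≠ 0) (hl : l = c • (x • h.v0)) :
    m ∈ h.It hN hD l ↔ x⁻¹ • m ∈ h.Ib := by
  obtain ⟨n, hn, hnV, e⟩ := h.rcl_eq (h.rd_eq hN hD) hc hl
  rw [h.mem_It', e]
  have e1 : (x * h.ph n)⁻¹ • m = h.ph n⁻¹ • (x⁻¹ • m) := by
    simp only [mul_inv_rev, mul_smul, h.ph_inv hn]
  rw [e1]
  constructor
  · intro h1
    have h2 := h.N_Ib hn hnV h1
    rwa [h.ph_inv hn, smul_inv_smul] at h2
  · exact h.N_Ib (inv_mem hn) (inv_mem hnV)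

/-- `α_l` -/
noncomputable def alt (l m : h.MF) : h.HI := h.rcl l * h.ah ((h.rcl l)⁻¹ • m) * (h.rcl l)⁻¹

/-! ### the fields -/

theorem LL_gen : Submodule.span F h.LL = ⊤ := by
  rw [eq_top_iff]
  rintro m -
  obtain ⟨w, rfl⟩ := h.fm_surj m
  let D : Subgroup G :=
    { carrier := {w | ∃ hw : w ∈ ws V Z, h.fm ⟨w, hw⟩ ∈ Submodule.span F h.LL}
      one_mem' := ⟨one_mem _, by
        have e : h.fm ⟨1, one_mem _⟩ = 0 := h.fm_one
        rw [e]; exact zero_mem _⟩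
      mul_mem' := by
        rintro a b ⟨ha, ha'⟩ ⟨hb, hb'⟩
        refine ⟨mul_mem ha hb, ?_⟩
        have e : h.fm ⟨a * b, mul_mem ha hb⟩ = h.fm ⟨a, ha⟩ + h.fm ⟨b, hb⟩ := h.fm_mul ⟨a, ha⟩ ⟨b, hb⟩
        rw [e]; exact add_mem ha' hb'
      inv_mem' := by
        rintro a ⟨ha, ha'⟩
        refine ⟨inv_mem ha, ?_⟩
        have e : h.fm ⟨a⁻¹, inv_mem ha⟩ = h.fm ⟨a, ha⟩ := h.fm_inv ⟨a, ha⟩
        rw [e]; exact ha' }
  have hVD : V ≤ D := by
    intro v hv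
    obtain ⟨x, y, rfl⟩ := (h.mem_V _).1 hv
    refine ⟨h.W_V x y, ?_⟩
    rw [h.fm_e]
    by_cases hy : y = 0
    · rw [hy, zero_smul]; exact zero_mem _
    · exact Submodule.subset_span ⟨1, y, hy, by rw [one_smul]⟩
  have hspan : ∀ (x : h.HI) (m : h.MF), m ∈ Submodule.span F h.LL → x • m ∈ Submodule.span F h.LL := by
    intro x m hm
    have h1 : Submodule.span F h.LL ≤ (Submodule.span F h.LL).comap (h.op x) := by
      rw [Submodule.span_le]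
      rintro _ ⟨y, c, hc, rfl⟩
      refine Submodule.subset_span ⟨x * y, c, hc, ?_⟩
      show x • (c • (y • h.v0)) = _
      rw [h.hh_lin, mul_smul]
    exact h1 hm
  have hDn : centralizer (Z : Set G) ≤ normalizer (D : Set G) := by
    have key : ∀ c ∈ centralizer (Z : Set G), cj c D ≤ D := by
      intro c hc w hw
      rw [mem_cj] at hw
      obtain ⟨hw', hw''⟩ := hw
      have h2 := hspan (h.ph c) _ hw''
      rw [h.ph_fm hc] at h2
      have e : c * (c⁻¹ * w * c) * c⁻¹ = w := by group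
      have h3 : w ∈ ws V Z := by
        have := h.C_W hc hw'
        rwa [e] at this
      refine ⟨h3, ?_⟩
      have e2 : (⟨c * (c⁻¹ * w * c) * c⁻¹, h.C_W hc hw'⟩ : ws V Z) = ⟨w, h3⟩ := Subtype.ext e
      rwa [e2] at h2
    intro c hc
    rw [← cj_eq_iff]
    refine le_antisymm (key c hc) ?_
    rw [le_cj_iff]
    exact key c⁻¹ (inv_mem hc)
  exact (h.W_le_of_V hVD hDn w.2).2

include h in
/-- a line `cj c V ≤ V` -/
theorem cj_ne {c : G} (hc : c ∉ normalizer (V : Set G)) : cj c V ≠ V := fun e => hc (cj_eq_iff.1 e)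

theorem sw_of_swap {m : h.MF} (hm : m ∈ h.Ib) (hml : m ∉ h.lam) (a : F) : ∃ t ∈ h.KI, t • m = m + a • h.v0 := by
  obtain ⟨u, hu, rfl⟩ := hm
  have huV : u ∉ V := fun e => hml ((h.fm_mem_lam_I hu).2 e)
  obtain ⟨k, hk, hku⟩ := h.exists_yl hu huV a
  refine ⟨_, ⟨k, hk, rfl⟩, ?_⟩
  have e : h.ph k • h.fm ⟨u, h.one.I_le_W' hu⟩ = _ := h.ph_fm (h.yl_C hk) (h.one.I_le_W' hu)
  rw [e, add_comm, ← h.fm_e 0 a, ← h.fm_mul]
  congr 1
  exact Subtype.ext hku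

theorem mem_Eb_AI {m : h.MF} : m ∈ h.Eb ↔ ∀ x ∈ h.AI, x • m - m ∈ h.lam := by
  rw [h.mem_Eb]
  constructor
  · rintro h1 _ ⟨a, ha, rfl⟩
    rw [h.ph_smul (h.one.W_le_C h.pY ha)]
    exact h1 a ha
  · intro h1 a ha
    rw [← h.ph_smul (h.one.W_le_C h.pY ha)]
    exact h1 _ ⟨a, ha, rfl⟩

theorem alt_smul (l m x : h.MF) : h.alt l m • x = h.rcl l • (h.ah ((h.rcl l)⁻¹ • m) • ((h.rcl l)⁻¹ • x)) := by
  rw [alt, mul_smul, mul_smul]

theorem alt_one {l m : h.MF} : h.alt l m = 1 ↔ h.ah ((h.rcl l)⁻¹ • m) = 1 := by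
  rw [alt]
  constructor
  · intro e
    calc h.ah ((h.rcl l)⁻¹ • m) = (h.rcl l)⁻¹ * (h.rcl l * h.ah ((h.rcl l)⁻¹ • m) * (h.rcl l)⁻¹) * h.rcl l := by group
      _ = 1 := by rw [e]; group
  · intro e
    rw [e]; group

theorem lam_smul {l : h.MF} {d : F} (hd : d ≠ 0) (e : l = d • (h.rcl l • h.v0)) {y : h.MF} (hy : y ∈ h.lam) :
    ∃ c : F, h.rcl l • y = c • l := by
  rw [lam, Submodule.mem_span_singleton] at hy
  obtain ⟨b, rfl⟩ := hy
  refine ⟨b * d⁻¹, ?_⟩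
  conv_rhs => rw [e]
  rw [h.hh_lin, smul_smul, inv_mul_cancel_right₀ hd]

theorem inv_l {l : h.MF} {d : F} (e : l = d • (h.rcl l • h.v0)) : (h.rcl l)⁻¹ • l = d • h.v0 := by
  rw [inv_smul_eq_iff, h.hh_lin]; exact e

theorem rcl_v0 {l : h.MF} {d : F} (hd : d ≠ 0) (e : l = d • (h.rcl l • h.v0)) : h.rcl l • h.v0 = d⁻¹ • l := by
  conv_rhs => rw [e]
  rw [smul_smul, inv_mul_cancel₀ hd, one_smul]

/-- `n` normalises `V` : the same point -/
theorem same_of_norm {l m : h.MF} {d d' : F} (hd : d ≠ 0) (e : l = d • (h.rcl l • h.v0))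
    (e' : m = d' • (h.rcl m • h.v0)) {n : G} (hn : n ∈ centralizer (Z : Set G)) (hnV : n ∈ normalizer (V : Set G))
    (hne : h.ph n = (h.rcl l)⁻¹ * h.rcl m) : ∃ c : F, m = c • l := by
  have h1 := h.N_lam hn hnV (Submodule.mem_span_singleton_self h.v0 : h.v0 ∈ h.lam)
  rw [hne, lam, Submodule.mem_span_singleton] at h1
  obtain ⟨b, hb⟩ := h1
  have h2 : h.rcl m • h.v0 = b • (h.rcl l • h.v0) := by
    rw [← h.hh_lin, hb, mul_smul, smul_inv_smul]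
  refine ⟨d' * b * d⁻¹, ?_⟩
  rw [h.rcl_v0 hd e] at h2
  conv_lhs => rw [e', h2]
  rw [smul_smul, smul_smul, mul_assoc]

theorem conj_smul (x a : h.HI) (m : h.MF) : (x⁻¹ * a * x) • (x⁻¹ • m) = x⁻¹ • (a • m) := by
  rw [← mul_smul, ← mul_smul]
  congr 1
  group

theorem conj_smul' (x a : h.HI) (m : h.MF) : a • m = x • ((x⁻¹ * a * x) • (x⁻¹ • m)) := by
  rw [h.conj_smul, smul_inv_smul]

theorem conj_conj (x a : h.HI) : x⁻¹ * (x * a * x⁻¹) * x = a := by group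

theorem conj_conj' (x a : h.HI) : x * (x⁻¹ * a * x) * x⁻¹ = a := by group

theorem At_of {l : h.MF} {x : h.HI} (hx : x ∈ h.AI) : h.rcl l * x * (h.rcl l)⁻¹ ∈ h.At l := by
  rw [h.mem_At', h.conj_conj]; exact hx

theorem Kt_of {l : h.MF} {x : h.HI} (hx : x ∈ h.KI) : h.rcl l * x * (h.rcl l)⁻¹ ∈ h.Kt l := by
  rw [h.mem_Kt', h.conj_conj]; exact hx

theorem LL_zero : (0 : h.MF) ∉ h.LL := by
  rintro ⟨x, c, hc, e⟩
  have h1 := (smul_eq_zero.1 e.symm).resolve_left hc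
  apply h.v0_ne
  rw [← inv_smul_smul x h.v0, h1, smul_zero]

theorem LL_smul (x : h.HI) {l : h.MF} (hl : l ∈ h.LL) : x • l ∈ h.LL := by
  obtain ⟨y, c, hc, rfl⟩ := hl
  exact ⟨x * y, c, hc, by rw [h.hh_lin, mul_smul]⟩

theorem LL_fsm {c : F} {l : h.MF} (hc : c ≠ 0) (hl : l ∈ h.LL) : c • l ∈ h.LL := by
  obtain ⟨y, d, hd, rfl⟩ := hl
  exact ⟨y, c * d, mul_ne_zero hc hd, by rw [smul_smul]⟩

theorem At_sm (hrd : rd V Z = Z) {c : F} {l : h.MF} (hc : c ≠ 0) (hl : l ∈ h.LL) : h.At (c • l) = h.At l := by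
  obtain ⟨d, hd, e⟩ := h.rcl_spec hl
  ext a
  rw [h.mem_At hrd hd e, h.mem_At hrd (c := c * d) (mul_ne_zero hc hd) (by rw [mul_smul, ← e])]

theorem Kt_sm (hrd : rd V Z = Z) {c : F} {l : h.MF} (hc : c ≠ 0) (hl : l ∈ h.LL) : h.Kt (c • l) = h.Kt l := by
  obtain ⟨d, hd, e⟩ := h.rcl_spec hl
  ext a
  rw [h.mem_Kt hrd hd e, h.mem_Kt hrd (c := c * d) (mul_ne_zero hc hd) (by rw [mul_smul, ← e])]

theorem It_sm {c : F} {l : h.MF} (hc : c ≠ 0) (hl : l ∈ h.LL) : h.It hN hD (c • l) = h.It hN hD l := by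
  obtain ⟨d, hd, e⟩ := h.rcl_spec hl
  ext a
  rw [h.mem_It hN hD hd e, h.mem_It hN hD (c := c * d) (mul_ne_zero hc hd) (by rw [mul_smul, ← e])]

theorem LL_trans {l m : h.MF} (hl : l ∈ h.LL) (hm : m ∈ h.LL) : ∃ (x : h.HI) (c : F), c ≠ 0 ∧ x • l = c • m := by
  obtain ⟨x, c, hc, rfl⟩ := hl
  obtain ⟨y, d, hd, rfl⟩ := hm
  refine ⟨y * x⁻¹, c * d⁻¹, mul_ne_zero hc (inv_ne_zero hd), ?_⟩
  simp only [h.hh_lin, mul_smul y (x⁻¹) (x • h.v0), inv_smul_smul x h.v0, smul_smul (c * d⁻¹) d (y • h.v0), inv_mul_cancel_right₀ hd c]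

theorem At_conj (hrd : rd V Z = Z) (x : h.HI) {l : h.MF} {a : h.HI} (hl : l ∈ h.LL) (ha : a ∈ h.At l) :
    x * a * x⁻¹ ∈ h.At (x • l) := by
  obtain ⟨d, hd, e⟩ := h.rcl_spec hl
  rw [h.mem_At hrd (x := x * h.rcl l) hd (by rw [mul_smul, ← h.hh_lin, ← e])]
  rw [h.mem_At'] at ha
  have e1 : (x * h.rcl l)⁻¹ * (x * a * x⁻¹) * (x * h.rcl l) = (h.rcl l)⁻¹ * a * h.rcl l := by group
  rw [e1]
  exact ha

theorem Kt_conj (hrd : rd V Z = Z) (x : h.HI) {l : h.MF} {a : h.HI} (hl : l ∈ h.LL) (ha : a ∈ h.Kt l) :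
    x * a * x⁻¹ ∈ h.Kt (x • l) := by
  obtain ⟨d, hd, e⟩ := h.rcl_spec hl
  rw [h.mem_Kt hrd (x := x * h.rcl l) hd (by rw [mul_smul, ← h.hh_lin, ← e])]
  rw [h.mem_Kt'] at ha
  have e1 : (x * h.rcl l)⁻¹ * (x * a * x⁻¹) * (x * h.rcl l) = (h.rcl l)⁻¹ * a * h.rcl l := by group
  rw [e1]
  exact ha

theorem It_conj (x : h.HI) {l u : h.MF} (hl : l ∈ h.LL) (hu : u ∈ h.It hN hD l) : x • u ∈ h.It hN hD (x • l) := by
  obtain ⟨d, hd, e⟩ := h.rcl_spec hl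
  rw [h.mem_It hN hD (x := x * h.rcl l) hd (by rw [mul_smul, ← h.hh_lin, ← e])]
  rw [h.mem_It'] at hu
  rw [mul_inv_rev, mul_smul, inv_smul_smul]
  exact hu

theorem At_sq {l : h.MF} {a : h.HI} (ha : a ∈ h.At l) : a * a = 1 := by
  rw [h.mem_At'] at ha
  have h1 := h.AI_sq ha
  have e1 : (h.rcl l)⁻¹ * a * h.rcl l * ((h.rcl l)⁻¹ * a * h.rcl l) = (h.rcl l)⁻¹ * (a * a) * h.rcl l := by group
  rw [e1] at h1
  rw [← h.conj_conj' (h.rcl l) (a * a), h1]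
  group

theorem At_ne (hrd : rd V Z = Z) (l : h.MF) : ∃ a ∈ h.At l, a ≠ 1 := by
  obtain ⟨a, ha, ha1⟩ := h.exists_AI hrd
  refine ⟨_, h.At_of ha, fun e => ha1 ?_⟩
  rw [← h.conj_conj (h.rcl l) a, e]
  group

theorem It_self {l : h.MF} (hl : l ∈ h.LL) : l ∈ h.It hN hD l := by
  obtain ⟨d, hd, e⟩ := h.rcl_spec hl
  rw [h.mem_It', h.inv_l e]
  exact h.lam_le_Ib (h.lam.smul_mem _ (Submodule.mem_span_singleton_self _))

theorem At_comm {l : h.MF} {a : h.HI} (ha : a ∈ h.At l) (m : h.MF) : a • m + m ∈ h.It hN hD l := by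
  rw [h.mem_It']
  rw [h.mem_At'] at ha
  have h1 := h.AI_sub_Ib ha ((h.rcl l)⁻¹ • m)
  rw [h.sub_eq, h.conj_smul, ← smul_add] at h1
  exact h1

theorem At_fix {l : h.MF} {a : h.HI} {u : h.MF} (ha : a ∈ h.At l) (hu : u ∈ h.It hN hD l) : a • u = u := by
  rw [h.mem_It'] at hu
  rw [h.mem_At'] at ha
  rw [h.conj_smul' (h.rcl l), h.AI_fix ha hu, smul_inv_smul]

theorem At_fixI {l u : h.MF} (hu : ∀ a ∈ h.At l, a • u = u) : u ∈ h.It hN hD l := by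
  rw [h.mem_It']
  refine h.fix_AI hN hD fun x hx => ?_
  have h1 := hu _ (h.At_of (l := l) hx)
  have h2 := h.conj_smul (h.rcl l) (h.rcl l * x * (h.rcl l)⁻¹) u
  rw [h.conj_conj, h1] at h2
  exact h2

theorem At_ti (hrd : rd V Z = Z) (hTI : TIw V Z) {l m : h.MF} {a : h.HI} (hl : l ∈ h.LL) (hm : m ∈ h.LL) (ha : a ∈ h.At l)
    (ha' : a ∈ h.At m) (ha1 : a ≠ 1) : ∃ c : F, m = c • l := by
  obtain ⟨d, hd, e⟩ := h.rcl_spec hl
  obtain ⟨d', hd', e'⟩ := h.rcl_spec hm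
  rw [h.mem_At'] at ha ha'
  obtain ⟨n, hn, hne⟩ := h.ph_surj ((h.rcl l)⁻¹ * h.rcl m)
  by_cases hnV : n ∈ normalizer (V : Set G)
  · exact h.same_of_norm hd e e' hn hnV hne
  · exfalso
    obtain ⟨b, hb, hbe⟩ := ha
    obtain ⟨b', hb', hbe'⟩ := ha'
    have hbC := h.one.W_le_C h.pY hb
    have hbC' := h.one.W_le_C h.pY hb'
    have h1 : h.ph (b⁻¹ * (n * b' * n⁻¹)) = 1 := by
      rw [h.ph_mul (inv_mem hbC) (mul_mem (mul_mem hn hbC') (inv_mem hn)), h.ph_mul (mul_mem hn hbC') (inv_mem hn),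
        h.ph_mul hn hbC', h.ph_inv hbC, h.ph_inv hn, hbe, hbe', hne]
      group
    have h2 := (h.ph_eq_one hrd (mul_mem (inv_mem hbC) (mul_mem (mul_mem hn hbC') (inv_mem hn)))).1 h1
    have h3 := hTI _ h.pY h.Yp_ne n hn (h.cj_ne hnV) b hb b' hb' h2
    apply ha1
    have h4 := h.ph_K h3
    rw [hbe] at h4
    rw [← h.conj_conj' (h.rcl l) a, h4]
    group

theorem LL_plane {l m : h.MF} (hl : l ∈ h.LL) (hm : m ∈ h.LL) (hml : m ∈ h.It hN hD l) (c : F) :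
    l + c • m = 0 ∨ l + c • m ∈ h.LL := by
  obtain ⟨d, hd, e⟩ := h.rcl_spec hl
  by_cases h0 : l + c • m = 0
  · exact Or.inl h0
  right
  rw [h.mem_It'] at hml
  by_cases h1 : (h.rcl l)⁻¹ • m ∈ h.lam
  · rw [lam, Submodule.mem_span_singleton] at h1
    obtain ⟨b, hb⟩ := h1
    have h2 : l + c • m = (d + c * b) • (h.rcl l • h.v0) := by
      rw [add_smul, ← e, mul_smul]
      congr 2
      rw [← h.hh_lin, hb, smul_inv_smul]
    refine ⟨h.rcl l, d + c * b, fun e1 => h0 ?_, h2⟩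
    rw [h2, e1, zero_smul]
  · by_cases hc : c = 0
    · rw [hc, zero_smul, add_zero]; exact hl
    obtain ⟨t, -, ht⟩ := h.sw_of_swap hml h1 (c⁻¹ * d)
    have h2 : l + c • m = c • (h.rcl l • (t • ((h.rcl l)⁻¹ • m))) := by
      simp only [ht, smul_add (h.rcl l) ((h.rcl l)⁻¹ • m) ((c⁻¹ * d) • h.v0), smul_inv_smul (h.rcl l) m, smul_add, add_comm l (c • m)]
      congr 1
      rw [h.hh_lin, smul_smul, mul_inv_cancel_left₀ hc, ← e]
    rw [h2]
    exact h.LL_fsm hc (h.LL_smul _ (h.LL_smul _ (h.LL_smul _ hm)))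

theorem alt_conj (l m : h.MF) : (h.rcl l)⁻¹ * h.alt l m * h.rcl l = h.ah ((h.rcl l)⁻¹ • m) := by
  rw [alt, h.conj_conj]

theorem alt_mem (l m : h.MF) : h.alt l m ∈ h.At l := by
  rw [h.mem_At', h.alt_conj]
  exact h.ah_mem _

include hN in
theorem alt_add (l m m' : h.MF) : h.alt l (m + m') = h.alt l m * h.alt l m' := by
  simp only [alt, alt, alt, smul_add, h.ah_add hN]
  group

include hN in
theorem alt_surj {l : h.MF} {a : h.HI} (ha : a ∈ h.At l) : ∃ m, h.alt l m = a := by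
  rw [h.mem_At'] at ha
  obtain ⟨m, hm⟩ := h.ah_surj hN ha
  refine ⟨h.rcl l • m, ?_⟩
  rw [alt, inv_smul_smul, hm, h.conj_conj']

include hN in
theorem alt_equi (hrd : rd V Z = Z) {l : h.MF} {x : h.HI} (hl : l ∈ h.LL) (hx : x • l = l) (m : h.MF) :
    h.alt l (x • m) = x * h.alt l m * x⁻¹ := by
  obtain ⟨d, hd, e⟩ := h.rcl_spec hl
  have h1 : ((h.rcl l)⁻¹ * x * h.rcl l) • h.v0 = h.v0 := by
    rw [mul_smul, h.rcl_v0 hd e, h.hh_lin, mul_smul, hx, ← h.hh_lin, ← h.rcl_v0 hd e, inv_smul_smul]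
  have h2 := h.ah_equi hN hrd h1 ((h.rcl l)⁻¹ • m)
  rw [h.conj_smul] at h2
  rw [alt, alt, h2]
  group

include hN in
theorem alt_ker {l : h.MF} (hl : l ∈ h.LL) (m : h.MF) : h.alt l m = 1 ↔ ∀ a ∈ h.At l, ∃ c : F, a • m = m + c • l := by
  obtain ⟨d, hd, e⟩ := h.rcl_spec hl
  rw [h.alt_one, h.ah_eq_one hN, h.mem_Eb_AI]
  constructor
  · intro h1 a ha
    rw [h.mem_At'] at ha
    obtain ⟨c, hc⟩ := h.lam_smul hd e (h1 _ ha)
    refine ⟨c, ?_⟩
    simp only [← hc, smul_sub, smul_inv_smul, ← h.conj_smul' (h.rcl l)]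
    abel
  · intro h1 x hx
    obtain ⟨c, hc⟩ := h1 _ (h.At_of (l := l) hx)
    have h2 := h.conj_smul (h.rcl l) (h.rcl l * x * (h.rcl l)⁻¹) m
    rw [h.conj_conj, hc] at h2
    simp only [h2, smul_add, h.hh_lin, h.inv_l e, add_sub_cancel_left]
    exact h.lam.smul_mem _ (h.lam.smul_mem _ (Submodule.mem_span_singleton_self _))

/-- the value of `alt l m • x + x` -/
theorem alt_add_self (l m x : h.MF) :
    h.alt l m • x + x = h.rcl l • (h.al ((h.rcl l)⁻¹ • m) ((h.rcl l)⁻¹ • x) - (h.rcl l)⁻¹ • x) := by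
  simp_rw [h.alt_smul, h.ah_smul, smul_sub, smul_inv_smul, h.sub_eq]

include hN in
theorem alt_sy {l : h.MF} (hl : l ∈ h.LL) (m m' : h.MF) :
    ∃ c : F, h.alt l m' • m + m + (h.alt l m • m' + m') = c • l := by
  obtain ⟨d, hd, e⟩ := h.rcl_spec hl
  have h1 := h.al_symm hN ((h.rcl l)⁻¹ • m) ((h.rcl l)⁻¹ • m')
  obtain ⟨c, hc⟩ := h.lam_smul hd e h1
  refine ⟨c, ?_⟩
  simp only [← hc, smul_sub, h.alt_add_self, h.alt_add_self, ← h.sub_eq]

include hN in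
theorem alt_phl {l : h.MF} (c : F) (y x : h.MF) (hy : h.alt l y = 1) :
    h.alt l (c • x) • y + y = c • (h.alt l x • y + y) := by
  rw [h.alt_one, h.ah_eq_one hN] at hy
  have h1 := h.al_smul_Eb hN c ((h.rcl l)⁻¹ • x) hy
  simp only [h.alt_add_self, h.alt_add_self, h.hh_lin, h1, h.hh_lin]

include hN in
theorem alt_bl {l : h.MF} (hl : l ∈ h.LL) (c : F) (m x : h.MF) :
    ∃ d : F, h.alt l (c • x) • m + m = c • (h.alt l x • m + m) + d • l := by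
  obtain ⟨d, hd, e⟩ := h.rcl_spec hl
  have h1 := h.al_smul hN c ((h.rcl l)⁻¹ • x) ((h.rcl l)⁻¹ • m)
  obtain ⟨b, hb⟩ := h.lam_smul hd e h1
  refine ⟨b, ?_⟩
  have h2 : (h.rcl l)⁻¹ • (c • x) = c • ((h.rcl l)⁻¹ • x) := h.hh_lin _ _ _
  simp only [h.alt_add_self, h.alt_add_self, h2, ← hb, smul_sub (h.rcl l) _ (c • _), h.hh_lin, add_sub_cancel]

end Co

end Cfsg.Agent.Omega.NO3S.OneQ

end

section


/-!
# NO-3S, `OneQ`: `TIw V Z` from its form at the point `Yp`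

* `Co.tiw_of` : from `Y = Yp` to all points; `Co.tiw_of_rp` : from TI for the operators `rp`.
-/

set_option autoImplicit false
set_option linter.unusedSectionVars false

namespace Cfsg.Agent.Omega.NO3S.OneQ

open Subgroup Cfsg.Agent.Omega.NO3S.PT Cfsg.Agent.Omega.NoFF.Basic
open scoped Pointwise

universe u

variable {G : Type u} [Group G]

namespace Co

variable [Finite G] {F : Type*} [Field F] [CharP F 2] {S : Sylow 2 G} {B P V Z : Subgroup G} (h : Co F S B P V Z)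

include h in
/-- `k x k⁻¹ x⁻¹ ∈ K_Z` for `k ∈ K_Z`, `x ∈ C_G(Z)` -/
theorem kx_comm {k x : G} (hk : k ∈ kx V Z) (hx : x ∈ centralizer (Z : Set G)) : k * x * k⁻¹ * x⁻¹ ∈ kx V Z := by
  have h1 : x * k⁻¹ * x⁻¹ ∈ kx V Z :=
    (mem_normalizer_iff.1 (normalizer_le_kx V Z (centralizer_le_normalizer _ hx)) _).1 (inv_mem hk)
  have e : k * x * k⁻¹ * x⁻¹ = k * (x * k⁻¹ * x⁻¹) := by group
  rw [e]; exact mul_mem hk h1

/-- from the point `Yp` to all points -/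
theorem tiw_of (hti : ∀ c ∈ centralizer (Z : Set G), PT.cj c V ≠ V → ∀ a ∈ ws V h.Yp, ∀ b ∈ ws V h.Yp,
    a⁻¹ * (c * b * c⁻¹) ∈ kx V Z → a ∈ kx V Z) : TIw V Z := by
  intro Y hY hYZ c hc hcV a ha b hb hab
  obtain ⟨k, hk, hkY⟩ := h.one.move h.one.self h.pY hY h.Yp_ne hYZ
  have hkC : k ∈ centralizer (Z : Set G) := kx_le_cent hk
  have hN : ∀ {x y : G}, x ∈ centralizer (Z : Set G) → y ∈ kx V Z → x * y * x⁻¹ ∈ kx V Z := fun hx hy =>
    (mem_normalizer_iff.1 (normalizer_le_kx V Z (centralizer_le_normalizer _ hx)) _).1 hy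
  rw [← hkY, ws_cj, mem_cj] at ha hb
  obtain ⟨a', ha', rfl⟩ : ∃ a', a' ∈ ws V h.Yp ∧ a = k * a' * k⁻¹ := ⟨_, ha, by group⟩
  obtain ⟨b', hb', rfl⟩ : ∃ b', b' ∈ ws V h.Yp ∧ b = k * b' * k⁻¹ := ⟨_, hb, by group⟩
  have haC := h.one.W_le_C h.pY ha'
  have hbC := h.one.W_le_C h.pY hb'
  have h1 := h.kx_comm hk haC
  have h2 := h.kx_comm hk hbC
  have h3 : a'⁻¹ * (c * b' * c⁻¹) ∈ kx V Z := by
    have e : a'⁻¹ * (c * b' * c⁻¹) = (a'⁻¹ * (k * a' * k⁻¹ * a'⁻¹) * a'⁻¹⁻¹) *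
        ((k * a' * k⁻¹)⁻¹ * (c * (k * b' * k⁻¹) * c⁻¹)) *
        (c * b'⁻¹ * (k * b' * k⁻¹ * b'⁻¹)⁻¹ * (c * b'⁻¹)⁻¹) := by group
    rw [e]
    exact mul_mem (mul_mem (hN (inv_mem haC) h1) hab) (hN (mul_mem hc (inv_mem hbC)) (inv_mem h2))
  have h4 := hti c hc hcV a' ha' b' hb' h3
  exact mul_mem (mul_mem hk h4) (inv_mem hk)

end Co

end Cfsg.Agent.Omega.NO3S.OneQ

end

private theorem dce_b2f667b2a933 : _root_.True := by
  try have : _root_.True := by simp only [_root_.Cfsg.Agent.Omega.NO3S.OneQ.Co.Kt.eq_1]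
  try have : _root_.True := by simp only [_root_.Cfsg.Agent.Omega.NO3S.OneQ.Co.alt.eq_1]
  try have : _root_.True := by simp only [_root_.Cfsg.Agent.Omega.NO3S.OneQ.Co.rcl.eq_1]
  try have : _root_.True := by simp only [_root_.Cfsg.Agent.Omega.NO3S.OneQ.Co.At.eq_1]
  exact _root_.True.intro
end

-- part: Mrg/Omega/NOThreeL/RRed/BFr/Cut
section
prune_inst 0xc01000405362020000180512a0001c5686000190002b0001f9a00942048edf2289002720cc201e100802aa4400350040001000400000000000000000411901a0800842021340a10426000980a006000000000000000000000000000000041000000000000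
set_option linter.all false
open scoped Cfsg.Agent.FastGrp


/-!
# NO-3L, box R: no fixed points outside `V` (#23929 (1a), (1b))

`D : Pts M V Pt I`, `S` a Sylow 2-subgroup of `G` in `M`.

* `Gd D Y a` : `a ∈ M`, every `y ∈ Y` is congruent mod `V` to an element which commutes with `a`;
* `Pts.core` : `V ≤ Y` abelian, `M`-invariant, every block contains a transposition induced by some `a` with `Gd D Y a`, the
  elements of `M` which centralise `V` and `Y / V` centralise `Y`, `C_Y(S) ≤ V`; then `Y ≤ V`;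
* `Lv.gd` : members of `AA` give such elements; `Lv.zcQ` : `Ω₁(Z(C_S(V))) ≤ V`; `Lv.zcJ` : `Ω₁(Z(J)) ≤ V`.
-/

set_option autoImplicit false
set_option linter.unusedSectionVars false

namespace Cfsg.Agent.Omega.NOThreeL.RRed.BFr

open Subgroup Cfsg Cfsg.Agent.ZN Cfsg.Agent.ZN.ChoiceBase
open Cfsg.Agent.Omega.SQ1.Bau (mem_sup_comm card_sup_comm elem_comm elem_sq)
open Cfsg.Agent.Omega.OM.Lev.Uni (Best)
open Cfsg.Agent.Omega.FFThm (ElemM)
open Cfsg.Agent.Omega.NO3S.OneLine (BFam)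

universe u

variable {G : Type u} [Group G]

/-- a 2-group `S` acting on a 2-group `C ≠ 1` has a fixed point `≠ 1` -/
theorem exists_fix_ne [Finite G] {S C : Subgroup G} (hS : IsPGroup 2 S) (hC2 : ∀ c ∈ C, c * c = 1) (hC : C ≠ ⊥)
    (hn : ∀ s ∈ S, ∀ c ∈ C, s * c * s⁻¹ ∈ C) : ∃ c ∈ C, c ≠ 1 ∧ ∀ s ∈ S, s * c = c * s := by
  have : Fact (Nat.Prime 2) := ⟨Nat.prime_two⟩
  let _ : MulAction S C :=
    { smul := fun g y => ⟨g * y.1 * (g : G)⁻¹, hn g g.2 y.1 y.2⟩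
      one_smul := fun y => Subtype.ext (by show ((1 : S) : G) * y.1 * ((1 : S) : G)⁻¹ = y.1; simp)
      mul_smul := fun g g' y => Subtype.ext (by
        show ((g * g' : S) : G) * y.1 * ((g * g' : S) : G)⁻¹ = g * (g' * y.1 * (g' : G)⁻¹) * (g : G)⁻¹
        rw [Subgroup.coe_mul]; group) }
  have h2 : 2 ∣ Nat.card C := by
    obtain ⟨⟨c, hc⟩, hne⟩ := ne_bot_iff_exists_ne_one.1 hC
    have h3 : orderOf (⟨c, hc⟩ : C) = 2 := by
      refine orderOf_eq_prime ?_ hne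
      exact Subtype.ext (by rw [pow_two]; exact hC2 c hc)
    rw [← h3]
    exact _root_.orderOf_dvd_natCard _
  have h1 : (1 : C) ∈ MulAction.fixedPoints S C := by
    intro g
    exact Subtype.ext (by show (g : G) * ((1 : C) : G) * (g : G)⁻¹ = ((1 : C) : G); simp)
  obtain ⟨b, hb, hne⟩ := hS.exists_fixed_point_of_prime_dvd_card_of_fixed_point C h2 h1
  refine ⟨b.1, b.2, fun e => hne (Subtype.ext e.symm), fun s hs => ?_⟩
  have h4 : (⟨s, hs⟩ : S) • b = b := hb ⟨s, hs⟩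
  have h5 : s * b.1 * s⁻¹ = b.1 := congrArg Subtype.val h4
  calc s * b.1 = (s * b.1 * s⁻¹) * s := by group
    _ = b.1 * s := by rw [h5]

section core

variable {M V : Subgroup G} {Pt I : Type} [Fintype Pt] [DecidableEq Pt] [DecidableEq I]

/-- every `y ∈ Y` is congruent mod `V` to an element which commutes with `a` -/
structure Gd (_ : Pts M V Pt I) (Y : Subgroup G) (a : G) : Prop where
  aM : a ∈ M
  co : ∀ y ∈ Y, ∃ v ∈ V, a * (y * v) = y * v * a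

variable (D : Pts M V Pt I) {Y : Subgroup G}

theorem Gd.conj {a m : G} (h : Gd D Y a) (hMY : ∀ m ∈ M, ∀ y ∈ Y, m * y * m⁻¹ ∈ Y) (hm : m ∈ M) :
    Gd D Y (m * a * m⁻¹) where
  aM := mul_mem (mul_mem hm h.aM) (inv_mem hm)
  co y hy := by
    have hy' := hMY m⁻¹ (inv_mem hm) y hy
    rw [inv_inv] at hy'
    obtain ⟨v, hv, e⟩ := h.co _ hy'
    refine ⟨m * v * m⁻¹, D.MV m hm v hv, ?_⟩
    calc m * a * m⁻¹ * (y * (m * v * m⁻¹)) = m * (a * (m⁻¹ * y * m * v)) * m⁻¹ := by group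
      _ = m * (m⁻¹ * y * m * v * a) * m⁻¹ := by rw [e]
      _ = y * (m * v * m⁻¹) * (m * a * m⁻¹) := by group

theorem Gd.comm_mem {a : G} (h : Gd D Y a) (hYc : ∀ x ∈ Y, ∀ y ∈ Y, x * y = y * x) (hVY : V ≤ Y) {y : G} (hy : y ∈ Y) :
    a * y * a⁻¹ * y⁻¹ ∈ V := by
  obtain ⟨v, hv, e⟩ := h.co y hy
  have h1 : a * v⁻¹ * a⁻¹ ∈ V := D.MV a h.aM _ (inv_mem hv)
  have e1 : a * y * a⁻¹ = y * v * (a * v⁻¹ * a⁻¹) := by
    calc a * y * a⁻¹ = (a * (y * v)) * v⁻¹ * a⁻¹ := by group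
      _ = y * v * (a * v⁻¹ * a⁻¹) := by rw [e]; group
  rw [e1]
  have e2 : y * v * (a * v⁻¹ * a⁻¹) * y⁻¹ = y * (v * (a * v⁻¹ * a⁻¹)) * y⁻¹ := by group
  have h2 := mul_mem hv h1
  rw [e2, hYc y hy _ (hVY h2), mul_inv_cancel_right]
  exact h2

/-- two elements with the same action on the letters act equally on `Y` -/
theorem act_eq (hMY : ∀ m ∈ M, ∀ y ∈ Y, m * y * m⁻¹ ∈ Y)
    (hK : ∀ k ∈ M, D.r k = 1 → (∀ y ∈ Y, k * y * k⁻¹ * y⁻¹ ∈ V) → ∀ y ∈ Y, k * y = y * k) {a b : G} (ha : a ∈ M)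
    (hb : b ∈ M) (hab : D.r a = D.r b) (ha' : ∀ y ∈ Y, a * y * a⁻¹ * y⁻¹ ∈ V) (hb' : ∀ y ∈ Y, b * y * b⁻¹ * y⁻¹ ∈ V)
    {c : G} (hc : c ∈ Y) (h : a * c = c * a) : b * c = c * b := by
  have hk : b⁻¹ * a ∈ M := mul_mem (inv_mem hb) ha
  have h1 := hK (b⁻¹ * a) hk (by rw [D.r_mul (inv_mem hb) ha, D.r_inv hb, hab, inv_mul_cancel]) (fun y hy => ?_) c hc
  · have e1 : b⁻¹ * (a * c) = c * b⁻¹ * a := by
      calc b⁻¹ * (a * c) = b⁻¹ * a * c := by group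
        _ = c * (b⁻¹ * a) := h1
        _ = c * b⁻¹ * a := by group
    rw [h] at e1
    have e2 : b⁻¹ * c = c * b⁻¹ := by
      have e3 : b⁻¹ * (c * a) = b⁻¹ * c * a := by group
      rw [e3] at e1
      exact mul_right_cancel e1
    calc b * c = b * (c * b⁻¹) * b := by group
      _ = b * (b⁻¹ * c) * b := by rw [e2]
      _ = c * b := by group
  · have hy1 := hMY b⁻¹ (inv_mem hb) y hy
    rw [inv_inv] at hy1
    have h2 := hb' _ hy1
    have h3 := ha' y hy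
    have h4 := D.MV b⁻¹ (inv_mem hb) _ h3
    rw [inv_inv] at h4
    have e1 : b * (b⁻¹ * y * b) * b⁻¹ * (b⁻¹ * y * b)⁻¹ = y * (b⁻¹ * y * b)⁻¹ := by group
    rw [e1] at h2
    have h5 := mul_mem h4 (inv_mem h2)
    have e2 : b⁻¹ * (a * y * a⁻¹ * y⁻¹) * b * (y * (b⁻¹ * y * b)⁻¹)⁻¹ = b⁻¹ * a * y * (b⁻¹ * a)⁻¹ * y⁻¹ := by group
    rwa [e2] at h5

/-- some fixed letter of each block -/
noncomputable def bl (i : I) (h : ∃ u, D.blk u = i) : Pt := h.choose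

noncomputable def bp (x : Pt) : Pt := bl D (D.blk x) ⟨x, rfl⟩

theorem bp_blk (x : Pt) : D.blk (bp D x) = D.blk x := Exists.choose_spec (⟨x, rfl⟩ : ∃ u, D.blk u = D.blk x)

theorem bp_eq {x y : Pt} (h : D.blk x = D.blk y) : bp D x = bp D y := by
  have key : ∀ (i j : I) (hij : i = j) (hi : ∃ u, D.blk u = i) (hj : ∃ u, D.blk u = j), bl D i hi = bl D j hj := by
    rintro i _ rfl hi hj
    rfl
  exact key _ _ h _ _

/-- **No fixed points outside `V`.** -/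
theorem core [Finite G] (S : Sylow 2 G) (hSM : (S : Subgroup G) ≤ M) (hVY : V ≤ Y)
    (hYc : ∀ x ∈ Y, ∀ y ∈ Y, x * y = y * x) (hY2 : ∀ y ∈ Y, y * y = 1) (hMY : ∀ m ∈ M, ∀ y ∈ Y, m * y * m⁻¹ ∈ Y)
    (hK : ∀ k ∈ M, D.r k = 1 → (∀ y ∈ Y, k * y * k⁻¹ * y⁻¹ ∈ V) → ∀ y ∈ Y, k * y = y * k)
    (hG : ∀ x y : Pt, x ≠ y → D.blk x = D.blk y → ∃ a, Gd D Y a ∧ D.r a = Equiv.swap x y)
    (hfix : ∀ y ∈ Y, (∀ s ∈ S, s * y = y * s) → y ∈ V) : Y ≤ V := by
  classical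
  -- the fixed points
  let C : Subgroup G :=
    { carrier := {c | c ∈ Y ∧ ∀ x y : Pt, x ≠ y → D.blk x = D.blk y → ∀ a, Gd D Y a → D.r a = Equiv.swap x y → a * c = c * a}
      mul_mem' := by
        rintro c c' ⟨h1, h2⟩ ⟨h3, h4⟩
        refine ⟨mul_mem h1 h3, fun x y hxy hb a ha e => ?_⟩
        have e1 : Commute a c := h2 x y hxy hb a ha e
        have e2 : Commute a c' := h4 x y hxy hb a ha e
        exact (e1.mul_right e2).eq
      one_mem' := ⟨one_mem _, fun x y hxy hb a ha e => by simp⟩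
      inv_mem' := by
        rintro c ⟨h1, h2⟩
        refine ⟨inv_mem h1, fun x y hxy hb a ha e => ?_⟩
        have e1 : Commute a c := h2 x y hxy hb a ha e
        exact e1.inv_right.eq }
  have hCM : ∀ m ∈ M, ∀ c ∈ C, m * c * m⁻¹ ∈ C := by
    rintro m hm c ⟨h1, h2⟩
    refine ⟨hMY m hm c h1, fun x y hxy hb a ha e => ?_⟩
    have hmi := inv_mem hm
    have h3 := ha.conj D hMY hmi
    have h4 : D.r (m⁻¹ * a * m⁻¹⁻¹) = Equiv.swap ((D.r m)⁻¹ x) ((D.r m)⁻¹ y) := by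
      rw [D.r_mul (mul_mem hmi ha.aM) (inv_mem hmi), D.r_mul hmi ha.aM, D.r_inv hmi, D.r_inv hm, e,
        Equiv.swap_apply_apply]
    have h5 := h2 _ _ (fun e => hxy ((D.r m)⁻¹.injective e)) (by rw [← D.r_inv hm]; exact D.r_blk hmi hb) _ h3 h4
    calc a * (m * c * m⁻¹) = m * (m⁻¹ * a * m⁻¹⁻¹ * c) * m⁻¹ := by group
      _ = m * (c * (m⁻¹ * a * m⁻¹⁻¹)) * m⁻¹ := by rw [h5]
      _ = m * c * m⁻¹ * a := by group
  have hCV : ∀ c ∈ C, c ∈ V → c = 1 := by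
    rintro c ⟨h1, h2⟩ hcV
    have h3 : ∀ x y : Pt, D.blk x = D.blk y → D.e c x = D.e c y := by
      intro x y hb
      by_cases hxy : x = y
      · rw [hxy]
      obtain ⟨a, ha, e⟩ := hG x y hxy hb
      have h4 := (D.comm_iff ha.aM hcV).1 (h2 x y hxy hb a ha e) x
      rw [e, Equiv.swap_apply_left] at h4
      exact h4.symm
    refine D.inj c hcV ?_
    funext x
    have h4 := D.bs_const (f := D.e c) (x := x) (c := D.e c x) fun y hy => h3 y x hy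
    rw [D.bs_e hcV] at h4
    exact h4.symm
  have hC1 : C = ⊥ := by
    by_contra hne
    have hC2 : ∀ c ∈ C, c * c = 1 := by
      rintro c ⟨h1, -⟩
      exact hY2 c h1
    obtain ⟨c, hc, hc1, hcS⟩ := exists_fix_ne S.isPGroup' hC2 hne fun s hs c hc => hCM s (hSM hs) c hc
    exact hc1 (hCV c hc (hfix c hc.1 hcS))
  -- the splitting
  intro e he
  choose A hA hAr using hG
  let f : Pt → ZMod 2 := fun x => if h : bp D x ≠ x then
      D.e (A (bp D x) x h (bp_blk D x) * e * (A (bp D x) x h (bp_blk D x))⁻¹ * e⁻¹) x else 0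
  set v := D.w f with hv
  have hvV : v ∈ V := D.w_mem f
  have hev : e * v ∈ Y := mul_mem he (hVY hvV)
  -- `e v` commutes with `A (bp x) x`
  have h1 : ∀ x (hx : bp D x ≠ x), A (bp D x) x hx (bp_blk D x) * (e * v) = e * v * A (bp D x) x hx (bp_blk D x) := by
    intro x hx
    set a := A (bp D x) x hx (bp_blk D x) with ha
    have hga : Gd D Y a := hA (bp D x) x hx (bp_blk D x)
    have hra : D.r a = Equiv.swap (bp D x) x := hAr (bp D x) x hx (bp_blk D x)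
    obtain ⟨u, hu, hc⟩ := hga.co e he
    -- `v = u` up to an element commuting with `a`
    have h2 : D.e v (bp D x) + D.e v x = D.e u (bp D x) + D.e u x := by
      have e1 : a * e * a⁻¹ * e⁻¹ = a * u * a⁻¹ * u := by
        have e2 : a * e * a⁻¹ = e * u * (a * u⁻¹ * a⁻¹) := by
          calc a * e * a⁻¹ = (a * (e * u)) * u⁻¹ * a⁻¹ := by group
            _ = e * u * (a * u⁻¹ * a⁻¹) := by rw [hc]; group
        have h3 : a * u⁻¹ * a⁻¹ ∈ V := D.MV a hga.aM _ (inv_mem hu)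
        have e3 : e * u * (a * u⁻¹ * a⁻¹) * e⁻¹ = u * (a * u⁻¹ * a⁻¹) := by
          have h4 := hYc e he _ (hVY (mul_mem hu h3))
          calc e * u * (a * u⁻¹ * a⁻¹) * e⁻¹ = e * (u * (a * u⁻¹ * a⁻¹)) * e⁻¹ := by group
            _ = u * (a * u⁻¹ * a⁻¹) := by rw [h4]; group
        rw [e2, e3, D.comm hu h3]
        have e4 : u⁻¹ = u := inv_eq_of_mul_eq_one_right (D.sq hu)
        rw [e4]
      have h3 : f x = D.e u (bp D x) + D.e u x := by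
        have h4 : f x = D.e (a * e * a⁻¹ * e⁻¹) x := by
          simp only [f]
          rw [dif_pos hx]
        rw [h4, e1, D.mul _ (D.MV a hga.aM u hu) _ hu, Pi.add_apply, D.e_conj' hga.aM hu, hra, Equiv.swap_inv,
          Equiv.swap_apply_right]
      have h5 : f (bp D x) = 0 := by
        simp only [f]
        rw [dif_neg]
        rw [not_not]
        exact bp_eq D (bp_blk D x)
      rw [hv, D.e_w, D.e_w, h5, zero_add, D.bs_congr (bp_blk D x), ← h3]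
      rw [add_comm (f x), ← add_assoc, add_self, zero_add]
    have h3 : a * (v * u) = v * u * a := by
      rw [D.comm_iff hga.aM (mul_mem hvV hu)]
      intro z
      rw [D.mul v hvV u hu, Pi.add_apply, Pi.add_apply, hra]
      have h4 : D.e v (bp D x) + D.e u (bp D x) = D.e v x + D.e u x := by
        have h5 := congrArg (fun t => t + D.e v x + D.e u (bp D x)) h2
        have e5 : D.e v (bp D x) + D.e v x + D.e v x + D.e u (bp D x) = D.e v (bp D x) + D.e u (bp D x) := by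
          rw [add_assoc (D.e v (bp D x)), add_self, add_zero]
        have e6 : D.e u (bp D x) + D.e u x + D.e v x + D.e u (bp D x) = D.e v x + D.e u x := by
          have : D.e u (bp D x) + D.e u x + D.e v x + D.e u (bp D x) =
            (D.e u (bp D x) + D.e u (bp D x)) + (D.e v x + D.e u x) := by ring
          rw [this, add_self, zero_add]
        exact e5.symm.trans (h5.trans e6)
      by_cases hz1 : z = bp D x
      · rw [hz1, Equiv.swap_apply_left]; exact h4.symm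
      · by_cases hz2 : z = x
        · rw [hz2, Equiv.swap_apply_right]; exact h4
        · rw [Equiv.swap_apply_of_ne_of_ne hz1 hz2]
    have e7 : e * v = (e * u) * (v * u) := by
      have e4 : u * u = 1 := D.sq hu
      calc e * v = e * (u * u) * v := by rw [e4, mul_one]
        _ = e * u * (u * v) := by group
        _ = e * u * (v * u) := by rw [D.comm hu hvV]
    have c1 : Commute a (e * u) := hc
    have c2 : Commute a (v * u) := h3
    rw [e7]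
    exact (c1.mul_right c2).eq
  have hCm : ∀ {a}, Gd D Y a → ∀ y ∈ Y, a * y * a⁻¹ * y⁻¹ ∈ V := fun ha y hy => ha.comm_mem D hYc hVY hy
  have h2 : e * v ∈ C := by
    refine ⟨hev, fun x y hxy hb a ha er => ?_⟩
    -- the case `bp x = x`
    have key : ∀ x y : Pt, x ≠ y → D.blk x = D.blk y → bp D x = x → ∀ a, Gd D Y a → D.r a = Equiv.swap x y →
        a * (e * v) = e * v * a := by
      intro x y hxy hb hx a ha er
      have hbp : bp D y = x := by rw [← bp_eq D hb, hx]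
      have hne : bp D y ≠ y := by rw [hbp]; exact hxy
      exact act_eq D hMY hK (hA (bp D y) y hne (bp_blk D y)).aM ha.aM
        (by rw [hAr (bp D y) y hne (bp_blk D y), er, hbp]) (hCm (hA (bp D y) y hne (bp_blk D y))) (hCm ha) hev (h1 y hne)
    by_cases hx : bp D x = x
    · exact key x y hxy hb hx a ha er
    · by_cases hy : bp D y = y
      · exact key y x hxy.symm hb.symm hy a ha (by rw [er, Equiv.swap_comm])
      · -- conjugate
        have g1 := hA (bp D x) x hx (bp_blk D x)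
        have r1 := hAr (bp D x) x hx (bp_blk D x)
        have c1 := h1 x hx
        have g2 := hA (bp D y) y hy (bp_blk D y)
        have r2 := hAr (bp D y) y hy (bp_blk D y)
        have c2 := h1 y hy
        set a1 := A (bp D x) x hx (bp_blk D x)
        set a2 := A (bp D y) y hy (bp_blk D y)
        have hbxy := bp_eq D hb
        have g3 : Gd D Y (a1 * a2 * a1⁻¹) := g2.conj D hMY g1.aM
        have r3 : D.r (a1 * a2 * a1⁻¹) = Equiv.swap x y := by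
          have e1 : D.r (a1 * a2 * a1⁻¹) = Equiv.swap (D.r a1 (bp D y)) (D.r a1 y) := by
            rw [D.r_mul (mul_mem g1.aM g2.aM) (inv_mem g1.aM), D.r_mul g1.aM g2.aM, D.r_inv g1.aM, r2,
              Equiv.swap_apply_apply]
          rw [e1, r1, ← hbxy, Equiv.swap_apply_left, Equiv.swap_apply_of_ne_of_ne]
          · rw [hbxy]; exact fun e => hy e.symm
          · exact hxy.symm
        have c3 : a1 * a2 * a1⁻¹ * (e * v) = e * v * (a1 * a2 * a1⁻¹) := by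
          have d1 : Commute a1 (e * v) := c1
          have d2 : Commute a2 (e * v) := c2
          exact ((d1.mul_left d2).mul_left d1.inv_left).eq
        exact act_eq D hMY hK g3.aM ha.aM (by rw [r3, er]) (hCm g3) (hCm ha) hev c3
  rw [hC1, mem_bot] at h2
  rw [mul_eq_one_iff_eq_inv] at h2
  rw [h2]
  exact inv_mem hvV

/-- the elements of `M` which centralise `V` and `Y / V` -/
def Kr (D : Pts M V Pt I) (Y : Subgroup G) : Subgroup G where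
  carrier := {k | k ∈ M ∧ D.r k = 1 ∧ ∀ y ∈ Y, k * y * k⁻¹ * y⁻¹ ∈ V}
  mul_mem' := by
    rintro a b ⟨ha, ha1, ha2⟩ ⟨hb, hb1, hb2⟩
    refine ⟨mul_mem ha hb, by rw [D.r_mul ha hb, ha1, hb1, one_mul], fun y hy => ?_⟩
    have e : a * b * y * (a * b)⁻¹ * y⁻¹ = (a * (b * y * b⁻¹ * y⁻¹) * a⁻¹) * (a * y * a⁻¹ * y⁻¹) := by group
    rw [e]
    exact mul_mem (D.MV a ha _ (hb2 y hy)) (ha2 y hy)
  one_mem' := ⟨one_mem _, D.r_one, fun y _ => by simp⟩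
  inv_mem' := by
    rintro a ⟨ha, ha1, ha2⟩
    refine ⟨inv_mem ha, by rw [D.r_inv ha, ha1, inv_one], fun y hy => ?_⟩
    have e : a⁻¹ * y * a⁻¹⁻¹ * y⁻¹ = a⁻¹ * (a * y * a⁻¹ * y⁻¹)⁻¹ * a⁻¹⁻¹ := by group
    rw [e]
    exact D.MV _ (inv_mem ha) _ (inv_mem (ha2 y hy))

/-- The elements of `K` of 2-power order decide. -/
theorem comm_of_two [Finite G] {y : G} (hy : y ∈ Y)
    (h2 : ∀ k ∈ Kr D Y, IsPGroup 2 (zpowers k) → k * y = y * k) {k : G}
    (hk : k ∈ Kr D Y) : k * y = y * k := by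
  obtain ⟨hkM, hk1, hk2⟩ := hk
  have hkV := (D.r_eq_one_iff hkM).1 hk1
  -- `k²` commutes with `y`
  have hsq : (k * k) * y = y * (k * k) := by
    have h3 := hk2 y hy
    set v := k * y * k⁻¹ * y⁻¹ with hv
    have e1 : k * y = v * y * k := by rw [hv]; group
    have e2 : k * v = v * k := hkV v h3
    have e3 : v * v = 1 := D.sq h3
    calc k * k * y = k * (k * y) := by group
      _ = (k * v) * y * k := by rw [e1]; group
      _ = v * (k * y) * k := by rw [e2]; group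
      _ = (v * v) * y * (k * k) := by rw [e1]; group
      _ = y * (k * k) := by rw [e3, one_mul]
  obtain ⟨a, m, hm, hn⟩ := Nat.exists_eq_two_pow_mul_odd (n := orderOf k) (orderOf_pos k).ne'
  have h3 : k ^ m ∈ Kr D Y := (Kr D Y).pow_mem ⟨hkM, hk1, hk2⟩ m
  have h4 : IsPGroup 2 (zpowers (k ^ m)) := by
    refine IsPGroup.of_card (n := a) ?_
    rw [Nat.card_zpowers, orderOf_pow, hn, Nat.gcd_eq_right (Dvd.intro_left _ rfl), Nat.mul_div_cancel _ hm.pos]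
  have h5 := h2 _ h3 h4
  obtain ⟨j, hj⟩ := hm
  have e1 : k = k ^ m * ((k * k) ^ j)⁻¹ := by
    rw [hj, ← pow_two, ← pow_mul, pow_succ']
    group
  have c1 : Commute (k ^ m) y := h5
  have c2 : Commute (k * k) y := hsq
  rw [e1]
  exact (c1.mul_left (c2.pow_left j).inv_left).eq

include D in
/-- `[k^l, w] = [k, w]^l` -/
theorem phi_conj {k w l : G} (hk : ∀ v ∈ V, k * v = v * k) (hu : k * w * k⁻¹ * w⁻¹ ∈ V) (hc : l⁻¹ * w * l * w⁻¹ ∈ V) :
    l * k * l⁻¹ * w * (l * k * l⁻¹)⁻¹ * w⁻¹ = l * (k * w * k⁻¹ * w⁻¹) * l⁻¹ := by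
  have uc := D.comm hu hc
  set u := k * w * k⁻¹ * w⁻¹ with hu'
  set c := l⁻¹ * w * l * w⁻¹ with hc'
  have e1 : k * w * k⁻¹ = u * w := by rw [hu']; group
  have e2 : l⁻¹ * w * l = c * w := by rw [hc']; group
  calc l * k * l⁻¹ * w * (l * k * l⁻¹)⁻¹ * w⁻¹ = l * k * (l⁻¹ * w * l) * k⁻¹ * l⁻¹ * w⁻¹ := by group
    _ = l * (k * c) * w * k⁻¹ * l⁻¹ * w⁻¹ := by rw [e2]; group
    _ = l * c * (k * w * k⁻¹) * l⁻¹ * w⁻¹ := by rw [hk c hc]; group
    _ = l * (c * u) * w * l⁻¹ * w⁻¹ := by rw [e1]; group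
    _ = l * u * (c * w) * l⁻¹ * w⁻¹ := by rw [← uc]; group
    _ = l * u * l⁻¹ := by rw [← e2]; group

/-- an element inducing `(x y)` -/
theorem exists_el {x y : Pt} (hb : D.blk x = D.blk y) : ∃ t ∈ M, D.r t = Equiv.swap x y := by
  by_cases hxy : x = y
  · subst hxy
    exact ⟨1, one_mem _, by rw [D.r_one, Equiv.swap_self]; rfl⟩
  · obtain ⟨t, ht, et⟩ := D.full x y hxy hb
    exact ⟨t, ht, D.r_eq ht et⟩

/-- `M` is transitive on the ordered pairs of letters of a block -/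
theorem exists_el₂ {u v x y : Pt} (huv : u ≠ v) (hxy : x ≠ y) (h1 : D.blk u = D.blk v) (h2 : D.blk x = D.blk y)
    (h3 : D.blk u = D.blk x) : ∃ m ∈ M, D.r m u = x ∧ D.r m v = y := by
  obtain ⟨t, ht, et⟩ := exists_el D h3
  have h4 : D.blk (D.r t v) = D.blk y := by
    rw [← h2]
    have h5 := D.r_blk ht h1
    rw [← h5, et, Equiv.swap_apply_left]
  obtain ⟨s, hs, es⟩ := exists_el D h4
  have hne : x ≠ D.r t v := by
    intro e
    have h5 : D.r t u = x := by rw [et, Equiv.swap_apply_left]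
    exact huv ((D.r t).injective (h5.trans e))
  refine ⟨s * t, mul_mem hs ht, ?_, ?_⟩
  · rw [D.r_mul hs ht, Equiv.Perm.mul_apply, es]
    have h5 : D.r t u = x := by rw [et, Equiv.swap_apply_left]
    rw [h5, Equiv.swap_apply_of_ne_of_ne hne hxy]
  · rw [D.r_mul hs ht, Equiv.Perm.mul_apply, es, Equiv.swap_apply_left]

end core

theorem two_mul_card_le [Finite G] {C V : Subgroup G} (h : C < V) : 2 * Nat.card C ≤ Nat.card V := by
  obtain ⟨k, hk⟩ := Subgroup.card_dvd_of_le h.le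
  have h1 : Nat.card V ≠ 0 := Nat.card_pos.ne'
  rw [hk] at h1 ⊢
  have h2 : k ≠ 0 := fun e => h1 (by rw [e, mul_zero])
  have h3 : k ≠ 1 := fun e => h.ne (Subgroup.eq_of_le_of_card_ge h.le (by rw [hk, e, mul_one]))
  have h4 : 2 ≤ k := by omega
  calc 2 * Nat.card C = Nat.card C * 2 := mul_comm _ _
    _ ≤ _ := Nat.mul_le_mul_left _ h4

/-- `|A| ≤ 2 |F|` -/
theorem card_le_two [Finite G] {A F : Subgroup G} {a₀ : G} (h : ∀ a ∈ A, a ∈ F ∨ a₀⁻¹ * a ∈ F) :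
    Nat.card A ≤ 2 * Nat.card F := by
  classical
  have e : 2 * Nat.card F = Nat.card (Bool × F) := by
    rw [Nat.card_prod, Nat.card_eq_fintype_card (α := Bool), Fintype.card_bool]
  rw [e]
  refine Nat.card_le_card_of_injective (fun a : A => if ha : a.1 ∈ F then ((true, ⟨a.1, ha⟩) : Bool × F)
    else (false, ⟨a₀⁻¹ * a.1, (h a.1 a.2).resolve_left ha⟩)) ?_
  intro a b hab
  by_cases ha : a.1 ∈ F <;> by_cases hb : b.1 ∈ F
  · simp only [dif_pos ha, dif_pos hb, Prod.mk.injEq, Subtype.mk.injEq, true_and] at hab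
    exact Subtype.ext hab
  · simp only [dif_pos ha, dif_neg hb, Prod.mk.injEq] at hab
    exact absurd hab.1 (by decide)
  · simp only [dif_neg ha, dif_pos hb, Prod.mk.injEq] at hab
    exact absurd hab.1 (by decide)
  · simp only [dif_neg ha, dif_neg hb, Prod.mk.injEq, Subtype.mk.injEq, true_and] at hab
    exact Subtype.ext (mul_left_cancel hab)

namespace Lv

variable {S : Sylow 2 G} {M V : Subgroup G} {Pt I : Type} [Fintype Pt] [DecidableEq Pt] [DecidableEq I]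
variable {D : Pts M V Pt I} {X L J : Subgroup G} {AA : Set (Subgroup G)} (h : Lv S D X L J AA) {Y : Subgroup G}
include h

variable [Finite G]

/-- `|A| |C_V(A)| ≤ |C_A(V)| |V|` for a member acting as a transposition -/
theorem cut_card {A : Subgroup G} (hA : A ∈ AA) {x z : Pt} (hxz : x ≠ z) {a₀ : G} (ha₀ : a₀ ∈ A)
    (e₀ : D.r a₀ = Equiv.swap x z) (hall : ∀ b ∈ A, D.r b = 1 ∨ D.r b = Equiv.swap x z) :
    Nat.card A * Nat.card ↥(V ⊓ centralizer (A : Set G)) ≤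
      Nat.card ↥(A ⊓ centralizer (V : Set G)) * Nat.card V := by
  have hAM : A ≤ M := (h.fam.le A hA).trans h.SM
  set F := A ⊓ centralizer (V : Set G) with hF
  -- `|A| |C_V(A)| ≤ |F| |V|`
  have c1 : Nat.card A ≤ 2 * Nat.card F := by
    refine card_le_two (a₀ := a₀) fun a ha => ?_
    rcases hall a ha with e | e
    · left
      exact ⟨ha, mem_centralizer_iff.2 fun v hv => ((D.r_eq_one_iff (hAM ha)).1 e v hv).symm⟩
    · right
      have h1 : a₀⁻¹ * a ∈ A := mul_mem (inv_mem ha₀) ha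
      refine ⟨h1, mem_centralizer_iff.2 fun v hv => ((D.r_eq_one_iff (hAM h1)).1 ?_ v hv).symm⟩
      rw [D.r_mul (inv_mem (hAM ha₀)) (hAM ha), D.r_inv (hAM ha₀), e, e₀, inv_mul_cancel]
  have c2 : 2 * Nat.card ↥(V ⊓ centralizer (A : Set G)) ≤ Nat.card V := by
    refine two_mul_card_le (lt_of_le_of_ne inf_le_left fun e => ?_)
    obtain ⟨w, hw, hwx, hwz⟩ := D.exists_third x z
    have h1 := (D.comm_iff (hAM ha₀) (D.pe_mem x w)).1
      (mem_centralizer_iff.1 ((e.ge (D.pe_mem x w)).2) a₀ ha₀) x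
    rw [e₀, Equiv.swap_apply_left, D.e_pe' hw.symm, D.e_pe' hw.symm, if_pos rfl, if_neg hxz.symm,
      if_neg (fun e => hwz e.symm), if_neg (fun e => hwx e.symm)] at h1
    exact absurd h1 (by decide)
  calc _ ≤ 2 * Nat.card F * Nat.card ↥(V ⊓ centralizer (A : Set G)) := Nat.mul_le_mul_right _ c1
    _ = Nat.card F * (2 * Nat.card ↥(V ⊓ centralizer (A : Set G))) := by ring
    _ ≤ _ := Nat.mul_le_mul_left _ c2

/-- **A member of `AA` acting as a transposition.** -/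
theorem gd (hYX : Y ≤ X) (hYB : ∀ B ∈ AA, B ≤ centralizer (V : Set G) → ∀ b ∈ B, ∀ y ∈ Y, b * y = y * b)
    {A : Subgroup G} (hA : A ∈ AA) {x z : Pt} (hxz : x ≠ z) {a₀ : G} (ha₀ : a₀ ∈ A)
    (e₀ : D.r a₀ = Equiv.swap x z) (hall : ∀ b ∈ A, D.r b = 1 ∨ D.r b = Equiv.swap x z) : Gd D Y a₀ := by
  have hAM : A ≤ M := (h.fam.le A hA).trans h.SM
  have hXc := h.Xc
  refine ⟨hAM ha₀, fun y hy => ?_⟩
  set F := A ⊓ centralizer (V : Set G) with hF
  have he : Nat.card A * Nat.card ↥(V ⊓ centralizer (A : Set G)) ≤ Nat.card F * Nat.card V :=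
    h.cut_card hA hxz ha₀ e₀ hall
  have hcX : centralizer (X : Set G) ≤ centralizer (V : Set G) := centralizer_le h.VX
  have hAF : A ⊓ centralizer (X : Set G) ≤ F := inf_le_inf_left _ hcX
  have h1 := best_cut_eq hXc h.VX he
  have h2 := h.fam.best A hA F hAF inf_le_left
  obtain ⟨B', hB', hBF⟩ := h.fam.cut A hA F hAF inf_le_left (le_antisymm h2 h1)
  -- `y` centralises `F`
  have hyX : y ∈ X := hYX hy
  have hcy : centralizer (X : Set G) ≤ centralizer ({y} : Set G) := centralizer_le (Set.singleton_subset_iff.2 hyX)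
  have hB'V : B' ≤ centralizer (V : Set G) :=
    (le_sup_left.trans hBF.le).trans (sup_le inf_le_right hcX)
  have hFy : F ≤ centralizer ({y} : Set G) :=
    (le_sup_left.trans hBF.ge).trans (sup_le (fun b hb => mem_centralizer_singleton_iff.2 (hYB B' hB' hB'V b hb y hy)) hcy)
  have hyF : y ∈ X ⊓ centralizer (F : Set G) :=
    ⟨hyX, mem_centralizer_iff.2 fun f hf => mem_centralizer_singleton_iff.1 (hFy hf)⟩
  -- `C_X(F) = V C_X(A)`
  have hle : V ⊔ (X ⊓ centralizer (A : Set G)) ≤ X ⊓ centralizer (F : Set G) := by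
    refine sup_le (le_inf h.VX fun v hv => mem_centralizer_iff.2 fun f hf => ?_) (inf_le_inf_left _ (centralizer_le inf_le_left))
    exact (mem_centralizer_iff.1 hf.2 v hv).symm
  have h3 := card_sup_comm (A := V) (B := X ⊓ centralizer (A : Set G)) fun v hv x hx => hXc v (h.VX hv) x hx.1
  have h4 : V ⊓ (X ⊓ centralizer (A : Set G)) = V ⊓ centralizer (A : Set G) := by
    rw [← inf_assoc, inf_eq_left.2 h.VX]
  rw [h4] at h3
  have h5 : X ⊓ centralizer (F : Set G) = V ⊔ (X ⊓ centralizer (A : Set G)) := by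
    symm
    refine Subgroup.eq_of_le_of_card_ge hle ?_
    have p1 : 0 < Nat.card F * Nat.card ↥(V ⊓ centralizer (A : Set G)) := Nat.mul_pos Nat.card_pos Nat.card_pos
    refine Nat.le_of_mul_le_mul_left ?_ p1
    calc Nat.card F * Nat.card ↥(V ⊓ centralizer (A : Set G)) * Nat.card ↥(X ⊓ centralizer (F : Set G))
        = (Nat.card F * Nat.card ↥(X ⊓ centralizer (F : Set G))) * Nat.card ↥(V ⊓ centralizer (A : Set G)) := by ring
      _ ≤ (Nat.card A * Nat.card ↥(X ⊓ centralizer (A : Set G))) * Nat.card ↥(V ⊓ centralizer (A : Set G)) :=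
          Nat.mul_le_mul_right _ h2
      _ = (Nat.card A * Nat.card ↥(V ⊓ centralizer (A : Set G))) * Nat.card ↥(X ⊓ centralizer (A : Set G)) := by ring
      _ ≤ (Nat.card F * Nat.card V) * Nat.card ↥(X ⊓ centralizer (A : Set G)) := Nat.mul_le_mul_right _ he
      _ = Nat.card F * (Nat.card V * Nat.card ↥(X ⊓ centralizer (A : Set G))) := by ring
      _ = Nat.card F * (Nat.card ↥(V ⊔ (X ⊓ centralizer (A : Set G))) * Nat.card ↥(V ⊓ centralizer (A : Set G))) := by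
          rw [h3]
      _ = _ := by ring
  rw [h5] at hyF
  obtain ⟨v, hv, c, hc, e⟩ := (mem_sup_comm (A := V) (B := X ⊓ centralizer (A : Set G))
    (fun v hv x hx => hXc v (h.VX hv) x hx.1) hyF)
  refine ⟨v⁻¹, inv_mem hv, ?_⟩
  have e1 : y * v⁻¹ = c := by
    rw [e, hXc v (h.VX hv) c hc.1, mul_inv_cancel_right]
  rw [e1]
  exact mem_centralizer_iff.1 hc.2 a₀ ha₀

/-- **All transpositions** -/
theorem exists_gd (hYX : Y ≤ X) (hYB : ∀ B ∈ AA, B ≤ centralizer (V : Set G) → ∀ b ∈ B, ∀ y ∈ Y, b * y = y * b)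
    (hMY : ∀ m ∈ M, ∀ y ∈ Y, m * y * m⁻¹ ∈ Y) (x y : Pt) (hxy : x ≠ y) (hb : D.blk x = D.blk y) :
    ∃ a, Gd D Y a ∧ D.r a = Equiv.swap x y := by
  obtain ⟨u, hu, A, hA, a, ha, hau⟩ := h.mv x
  obtain ⟨A', hA', ⟨a', ha', ea'⟩, hall⟩ := h.exists_member hA ha rfl hau.symm
  have hbu : D.blk u = D.blk (D.r a u) := (Ofd.blk_eq D (h.ofd hA) h.VX h.Xc ha u).symm
  have hg := h.gd hYX hYB hA' hau.symm ha' ea' hall
  obtain ⟨m, hm, m1, m2⟩ := exists_el₂ D hau.symm hxy hbu hb hu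
  refine ⟨m * a' * m⁻¹, hg.conj D hMY hm, ?_⟩
  rw [D.r_mul (mul_mem hm hg.aM) (inv_mem hm), D.r_mul hm hg.aM, D.r_inv hm, ea', ← Equiv.swap_apply_apply, m1, m2]

omit [Finite G] in
theorem MQn {g x : G} (hg : g ∈ M) (hx : x ∈ (S : Subgroup G) ⊓ centralizer (V : Set G)) :
    g * x * g⁻¹ ∈ (S : Subgroup G) ⊓ centralizer (V : Set G) := by
  refine ⟨h.MQ g hg x hx, mem_centralizer_iff.2 fun v hv => ?_⟩
  have h1 := D.MV g⁻¹ (inv_mem hg) v hv
  rw [inv_inv] at h1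
  have h2 := mem_centralizer_iff.1 hx.2 _ h1
  calc v * (g * x * g⁻¹) = g * ((g⁻¹ * v * g) * x) * g⁻¹ := by group
    _ = g * x * g⁻¹ * v := by rw [h2]; group

omit [Finite G] in
theorem M_norm_Q : M ≤ normalizer (((S : Subgroup G) ⊓ centralizer (V : Set G) : Subgroup G) : Set G) := by
  intro m hm
  rw [mem_normalizer_iff]
  intro x
  refine ⟨fun hx => h.MQn hm hx, fun hx => ?_⟩
  have h1 := h.MQn (inv_mem hm) hx
  have e : m⁻¹ * (m * x * m⁻¹) * m⁻¹⁻¹ = x := by group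
  rwa [e] at h1

/-- **(1a)** `Ω₁(Z(C_S(V))) ≤ V`. -/
theorem zcQ (hZV : zc (S : Subgroup G) ≤ V)
    (hQX : zc ((S : Subgroup G) ⊓ centralizer (V : Set G)) ≤ X) :
    zc ((S : Subgroup G) ⊓ centralizer (V : Set G)) ≤ V := by
  set Q := (S : Subgroup G) ⊓ centralizer (V : Set G) with hQ
  have hVQ : V ≤ Q := fun v hv => ⟨h.VS hv, mem_centralizer_iff.2 fun u hu => D.comm hu hv⟩
  have hVY : V ≤ zc Q := fun v hv => ChoiceBase.mem_zc.2
    ⟨hVQ hv, by rw [pow_two]; exact D.sq hv, fun y hy => (mem_centralizer_iff.1 hy.2 v hv).symm⟩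
  have hMY : ∀ m ∈ M, ∀ y ∈ zc Q, m * y * m⁻¹ ∈ zc Q := fun m hm y hy =>
    (mem_normalizer_iff.1 (Cfsg.Agent.Omega.NO3S.Level.normalizer_le_zc Q (h.M_norm_Q hm)) y).1 hy
  refine core D S h.SM hVY (fun x hx y hy => ?_) (fun y hy => ?_) hMY (fun k hk hk1 hk2 y hy => ?_)
    (h.exists_gd hQX (fun B hB hBV b hb y hy => ?_) hMY) (fun y hy hyS => ?_)
  · exact (ChoiceBase.mem_zc.1 hy).2.2 x (ChoiceBase.mem_zc.1 hx).1
  · rw [← pow_two]; exact (ChoiceBase.mem_zc.1 hy).2.1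
  · refine comm_of_two D hy (fun k hk hk' => ?_) ⟨hk, hk1, hk2⟩
    obtain ⟨m, hm, hmS⟩ := exists_into S h.SM hk' (by rw [zpowers_le]; exact hk.1)
    have h1 : m * k * m⁻¹ ∈ (S : Subgroup G) := hmS ⟨k, mem_zpowers k, rfl⟩
    have h2 : m * k * m⁻¹ ∈ Q := by
      refine ⟨h1, mem_centralizer_iff.2 fun v hv => ?_⟩
      have h3 := D.MV m⁻¹ (inv_mem hm) v hv
      rw [inv_inv] at h3
      have h4 := (D.r_eq_one_iff hk.1).1 hk.2.1 _ h3
      calc v * (m * k * m⁻¹) = m * ((m⁻¹ * v * m) * k) * m⁻¹ := by group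
        _ = m * k * m⁻¹ * v := by rw [← h4]; group
    have h3 := (ChoiceBase.mem_zc.1 (hMY m hm y hy)).2.2 _ h2
    have h4 := congrArg (fun t => m⁻¹ * t * m) h3
    simpa only [mul_assoc, _root_.inv_mul_cancel_left, _root_.inv_mul_cancel, _root_.mul_one] using h4
  · exact (ChoiceBase.mem_zc.1 hy).2.2 b ⟨h.fam.le B hB hb, hBV hb⟩
  · have h1 := ChoiceBase.mem_zc.1 hy
    exact hZV (ChoiceBase.mem_zc.2 ⟨h1.1.1, h1.2.1, hyS⟩)

/-- **(1b)** an `S`-invariant subgroup of `X` centralised by `J` lies in `V`. -/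
theorem le_of_cent (hXS : X ≤ (S : Subgroup G)) (hZV : zc (S : Subgroup G) ≤ V) {W : Subgroup G} (hWX : W ≤ X)
    (hWJ : ∀ w ∈ W, ∀ j ∈ J, j * w = w * j) (hWS : ∀ s ∈ S, ∀ w ∈ W, s * w * s⁻¹ ∈ W) : W ≤ V := by
  have hXc := h.Xc
  set Y : Subgroup G := V ⊔ ⨆ m : M, cj (m : G) W with hY
  have hVY : V ≤ Y := le_sup_left
  have hWY : ∀ m ∈ M, cj m W ≤ Y := fun m hm => (le_iSup (fun m : M => cj (m : G) W) ⟨m, hm⟩).trans le_sup_right
  have hWY' : W ≤ Y := by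
    have := hWY 1 (one_mem _)
    rwa [cj_one] at this
  have hYX : Y ≤ X := by
    refine sup_le h.VX (iSup_le fun m => ?_)
    rintro _ ⟨w, hw, rfl⟩
    exact h.MX m m.2 w (hWX hw)
  have hYc : ∀ x ∈ Y, ∀ y ∈ Y, x * y = y * x := fun x hx y hy => hXc x (hYX hx) y (hYX hy)
  have hY2 : ∀ y ∈ Y, y * y = 1 := fun y hy => by rw [← pow_two]; exact elem_sq h.elX y (hYX hy)
  have hMY : ∀ m ∈ M, ∀ y ∈ Y, m * y * m⁻¹ ∈ Y := by
    intro m hm
    have h1 : cj m Y ≤ Y := by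
      rw [hY]
      show Subgroup.map _ _ ≤ _
      rw [Subgroup.map_sup, Subgroup.map_iSup]
      refine sup_le ?_ (iSup_le fun m' => ?_)
      · rintro _ ⟨v, hv, rfl⟩
        exact hVY (D.MV m hm v hv)
      · have e : Subgroup.map (MulAut.conj m).toMonoidHom (cj (m' : G) W) = cj (m * m') W := cj_cj m (m' : G) W
        rw [e]
        exact hWY _ (mul_mem hm m'.2)
    exact fun y hy => h1 ⟨y, hy, rfl⟩
  -- members of `AA` which centralise `V` centralise `Y`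
  have hYB : ∀ B ∈ AA, B ≤ centralizer (V : Set G) → ∀ b ∈ B, ∀ y ∈ Y, b * y = y * b := by
    intro B hB hBV b hb
    have h1 : Y ≤ centralizer ({b} : Set G) := by
      refine sup_le (fun v hv => mem_centralizer_singleton_iff.2 (mem_centralizer_iff.1 (hBV hb) v hv)) (iSup_le ?_)
      rintro ⟨m, hm⟩ _ ⟨w, hw, rfl⟩
      have h2 : cj m⁻¹ B ≤ (S : Subgroup G) := by
        rintro _ ⟨c, hc, rfl⟩
        exact h.MQ m⁻¹ (inv_mem hm) c ⟨h.fam.le B hB hc, hBV hc⟩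
      have h3 := h.fam.conj B hB m⁻¹ (h.ML (inv_mem hm)) h2
      have h4 := hWJ w hw (m⁻¹ * b * m⁻¹⁻¹) (h.AJ _ h3 ⟨b, hb, rfl⟩)
      rw [mem_centralizer_singleton_iff]
      show m * w * m⁻¹ * b = b * (m * w * m⁻¹)
      have h5 := congrArg (fun t => m * t * m⁻¹) h4
      simpa only [mul_assoc, _root_.inv_inv, _root_.mul_inv_cancel, _root_.mul_one, _root_.mul_inv_cancel_left] using h5.symm
    exact fun y hy => (mem_centralizer_singleton_iff.1 (h1 hy)).symm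
  have hgd := h.exists_gd hYX hYB hMY
  have hgm : ∀ {a}, Gd D Y a → ∀ y ∈ Y, a * y * a⁻¹ * y⁻¹ ∈ V := fun ha y hy => ha.comm_mem D hYc hVY hy
  have hKV : ∀ k ∈ Kr D Y, ∀ v ∈ V, k * v = v * k := fun k hk => (D.r_eq_one_iff hk.1).1 hk.2.1
  have hKn : ∀ m ∈ M, ∀ k ∈ Kr D Y, m * k * m⁻¹ ∈ Kr D Y := by
    rintro m hm k ⟨h1, h2, h3⟩
    refine ⟨mul_mem (mul_mem hm h1) (inv_mem hm), ?_, fun y hy => ?_⟩
    · rw [D.r_mul (mul_mem hm h1) (inv_mem hm), D.r_mul hm h1, h2, mul_one, D.r_inv hm, mul_inv_cancel]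
    · have h4 := hMY m⁻¹ (inv_mem hm) y hy
      rw [inv_inv] at h4
      have h5 := D.MV m hm _ (h3 _ h4)
      have e : m * (k * (m⁻¹ * y * m) * k⁻¹ * (m⁻¹ * y * m)⁻¹) * m⁻¹ = m * k * m⁻¹ * y * (m * k * m⁻¹)⁻¹ * y⁻¹ := by
        group
      rwa [e] at h5
  -- the value of `k ↦ [k, w]`
  have hphi : ∀ w ∈ W, ∀ k ∈ Kr D Y, IsPGroup 2 (zpowers k) → ∀ j ∈ J, j * (k * w * k⁻¹ * w⁻¹) = k * w * k⁻¹ * w⁻¹ * j := by
    intro w hw k hk hk' j hj
    have hKS : (S : Subgroup G) ≤ Kr D Y ⊔ (S : Subgroup G) := le_sup_right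
    obtain ⟨m, hm, hmS⟩ := exists_into S hKS hk' (by rw [zpowers_le]; exact mem_sup_left hk)
    rw [sup_comm] at hm
    obtain ⟨s, hs, g, hg, rfl⟩ := Cfsg.Agent.Omega.SQ1.Bau.mem_sup_norm (A := (S : Subgroup G)) (B := Kr D Y)
      (fun s hs => mem_normalizer_iff.2 fun c => ⟨fun hc => hKn s (h.SM hs) c hc, fun hc => by
        have h3 := hKn _ (inv_mem (h.SM hs)) _ hc
        have e1 : s⁻¹ * (s * c * s⁻¹) * s⁻¹⁻¹ = c := by group
        rwa [e1] at h3⟩) hm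
    have h1 : s * g * k * (s * g)⁻¹ ∈ (S : Subgroup G) := hmS ⟨k, mem_zpowers k, rfl⟩
    have h2 : g * k * g⁻¹ ∈ (S : Subgroup G) := by
      have h3 := mul_mem (mul_mem (inv_mem hs) h1) hs
      have e1 : s⁻¹ * (s * g * k * (s * g)⁻¹) * s = g * k * g⁻¹ := by group
      rwa [e1] at h3
    -- `[k^g, w] = [k, w]`
    have h3 := hk.2.2 w (hWY' hw)
    have h4 := (inv_mem hg).2.2 w (hWY' hw)
    rw [inv_inv] at h4
    have h5 := phi_conj D (hKV k hk) h3 h4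
    have h6 : g * (k * w * k⁻¹ * w⁻¹) * g⁻¹ = k * w * k⁻¹ * w⁻¹ := by rw [hKV g hg _ h3]; group
    rw [h6] at h5
    have h7 : k * w * k⁻¹ * w⁻¹ ∈ W := by
      rw [← h5]
      exact mul_mem (hWS _ h2 w hw) (inv_mem hw)
    exact hWJ _ h7 j hj
  -- it is trivial
  have hphi1 : ∀ w ∈ W, ∀ k ∈ Kr D Y, IsPGroup 2 (zpowers k) → k * w = w * k := by
    intro w hw k hk hk'
    set u := k * w * k⁻¹ * w⁻¹ with hu
    have huV : u ∈ V := hk.2.2 w (hWY' hw)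
    have hul : ∀ l, Gd D Y l → ∀ j ∈ J, j * (l * u * l⁻¹) = l * u * l⁻¹ * j := by
      intro l hl j hj
      have h4 : l⁻¹ * w * l * w⁻¹ ∈ V := by
        have h5 := hgm hl _ (hMY l⁻¹ (inv_mem hl.aM) w (hWY' hw))
        rw [inv_inv] at h5
        have e : l * (l⁻¹ * w * l) * l⁻¹ * (l⁻¹ * w * l)⁻¹ = (l⁻¹ * w * l * w⁻¹)⁻¹ := by group
        rw [e] at h5
        exact inv_mem_iff.1 h5
      rw [← phi_conj D (hKV k hk) huV h4]
      refine hphi w hw _ (hKn l hl.aM k hk) ?_ j hj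
      have e : zpowers (l * k * l⁻¹) = cj l (zpowers k) := by
        show _ = Subgroup.map _ _
        rw [MonoidHom.map_zpowers]
        rfl
      rw [e]
      exact hk'.map _
    have hu1 : u = 1 := by
      refine D.inj u huV ?_
      funext x
      obtain ⟨p, hp, A, hA, a, ha, hap⟩ := h.mv x
      obtain ⟨hne, hpb, a', ha', ea'⟩ := h.pr_of_move hA ha hap
      set q := D.r a p with hq
      have haJ : a' ∈ J := h.J0_le_J ha'
      have haM : a' ∈ M := h.J0M ha'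
      have hpq : D.e u p = D.e u q := by
        have h5 := (D.comm_iff haM huV).1 (hphi w hw k hk hk' a' haJ) p
        rw [ea', Equiv.swap_apply_left] at h5
        exact h5.symm
      have hall : ∀ z, D.blk z = D.blk x → D.e u z = D.e u p := by
        intro z hz
        by_cases hzp : z = p
        · rw [hzp]
        by_cases hzq : z = q
        · rw [hzq, hpq]
        obtain ⟨l, hl, el⟩ := hgd q z (Ne.symm hzq) (by rw [← hpb, hp, hz])
        have h5 := (D.comm_iff haM (D.MV l hl.aM u huV)).1 (hul l hl a' haJ) p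
        rw [ea', Equiv.swap_apply_left, D.e_conj' hl.aM huV, D.e_conj' hl.aM huV, el, Equiv.swap_inv,
          Equiv.swap_apply_left, Equiv.swap_apply_of_ne_of_ne hne (Ne.symm hzp)] at h5
        exact h5
      have h6 := D.bs_const (f := D.e u) (x := x) (c := D.e u p) hall
      rw [D.bs_e huV] at h6
      rw [hall x rfl, ← h6]
      rfl
    rw [hu] at hu1
    calc k * w = (k * w * k⁻¹ * w⁻¹) * (w * k) := by group
      _ = w * k := by rw [hu1, one_mul]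
  refine hWY'.trans (core D S h.SM hVY hYc hY2 hMY (fun k hk hk1 hk2 => ?_) hgd fun y hy hyS => ?_)
  · have hkK : k ∈ Kr D Y := ⟨hk, hk1, hk2⟩
    have h1 : Y ≤ centralizer ({k} : Set G) := by
      refine sup_le (fun v hv => mem_centralizer_singleton_iff.2 (hKV k hkK v hv).symm) (iSup_le ?_)
      rintro ⟨m, hm⟩ _ ⟨w, hw, rfl⟩
      have h2 := comm_of_two D (hWY' hw) (hphi1 w hw) (hKn m⁻¹ (inv_mem hm) k hkK)
      rw [mem_centralizer_singleton_iff]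
      show m * w * m⁻¹ * k = k * (m * w * m⁻¹)
      have h5 := congrArg (fun t => m * t * m⁻¹) h2
      simpa only [mul_assoc, _root_.inv_inv, _root_.mul_inv_cancel, _root_.mul_one, _root_.mul_inv_cancel_left] using h5.symm
    exact fun y hy => (mem_centralizer_singleton_iff.1 (h1 hy)).symm
  · exact hZV (ChoiceBase.mem_zc.2 ⟨hXS (hYX hy), elem_sq h.elX y (hYX hy), hyS⟩)

end Lv

end Cfsg.Agent.Omega.NOThreeL.RRed.BFr
end
end
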